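import Mathlib

/-!
The presentation of the alternating group by three-cycles through two fixed points.
-/

set_option autoImplicit false

namespace Cfsg.Agent.ShortPres.Alt

open Equiv

section bound

variable {G : Type*} [Group G] {ι : Type*} (x : ι → G)

/-- The relations among the generators indexed by a set. -/
structure Rels : Prop where
  cube : ∀ i, x i ^ 3 = 1
  pair : ∀ i j, i ≠ j → (x i * x j) ^ 2 = 1

variable {x} (h : Rels x)
include h

theorem inv_eq (i : ι) : (x i)⁻¹ = x i * x i :=
  inv_eq_of_mul_eq_one_right (by rw [← mul_assoc, ← h.cube i, pow_succ, sq])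

theorem two_inv (i : ι) : (x i)⁻¹ * (x i)⁻¹ = x i := by
  rw [← _root_.mul_inv_rev, ← inv_eq h, inv_inv]

theorem mul_flip {i j : ι} (hij : i ≠ j) : x i * x j = (x j)⁻¹ * (x i)⁻¹ := by
  rw [← _root_.mul_inv_rev]
  exact eq_inv_of_mul_eq_one_left (by rw [← sq]; exact h.pair i j hij)

/-- The bound on the order of the subgroup generated by the members of a finite set. -/
theorem card_closure_le [DecidableEq ι] (s : Finset ι) :
    Finite (Subgroup.closure (x '' ↑s)) ∧
      (s.Nonempty → 2 * Nat.card (Subgroup.closure (x '' ↑s)) ≤ (s.card + 2).factorial) ∧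
      (s = ∅ → Nat.card (Subgroup.closure (x '' ↑s)) = 1) := by
  induction s using Finset.induction_on with
  | empty =>
    rw [Finset.coe_empty, Set.image_empty, Subgroup.closure_empty]
    exact ⟨inferInstance, fun hne => absurd hne (by simp), fun _ => Subgroup.card_bot⟩
  | @insert k s hk ih =>
    obtain ⟨hfin, hcard, hcard0⟩ := ih
    set K := Subgroup.closure (x '' ↑s)
    have hne : ∀ l ∈ s, k ≠ l := fun l hl e => hk (e ▸ hl)
    let rep : Option (Option (Option s)) → G := fun o => match o with
      | none => 1
      | some none => x k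
      | some (some none) => (x k)⁻¹
      | some (some (some j)) => x k * (x j)⁻¹
    let U : Set G := {g | ∃ a ∈ K, ∃ o, g = a * rep o}
    have hmem : ∀ l ∈ s, x l ∈ K := fun l hl => Subgroup.subset_closure ⟨l, hl, rfl⟩
    have mk : ∀ a ∈ K, ∀ o g, g = a * rep o → g ∈ U := fun a ha o g e => ⟨a, ha, o, e⟩
    have hstep : ∀ g ∈ U, ∀ l ∈ insert k s, g * x l ∈ U := by
      rintro g ⟨a, ha, o, rfl⟩ l hl
      rcases Finset.mem_insert.1 hl with rfl | hl
      · -- multiplication by the new generator
        match o with
        | none => exact mk a ha (some none) _ (by simp [rep])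
        | some none => exact mk a ha (some (some none)) _ (by simp only [rep, mul_assoc, ← inv_eq h])
        | some (some none) => exact mk a ha none _ (by simp [rep])
        | some (some (some j)) =>
          refine mk (a * (x j)⁻¹) (mul_mem ha (inv_mem (hmem j j.2))) (some (some (some j))) _ ?_
          simp only [rep]
          calc a * (x l * (x j)⁻¹) * x l = a * (x l * x j * (x j * x l)) := by rw [inv_eq h]; group
            _ = a * ((x j)⁻¹ * ((x l)⁻¹ * (x l)⁻¹) * (x j)⁻¹) := by
              rw [mul_flip h (hne j j.2), mul_flip h (hne j j.2).symm]; group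
            _ = a * (x j)⁻¹ * (x l * (x j)⁻¹) := by
              rw [← mul_inv_rev (x l), ← inv_eq h l, inv_inv]; group
      · -- multiplication by an old generator
        match o with
        | none => exact mk (a * x l) (mul_mem ha (hmem l hl)) none _ (by simp [rep])
        | some none =>
          refine mk (a * (x l)⁻¹) (mul_mem ha (inv_mem (hmem l hl))) (some (some none)) _ ?_
          simp only [rep]
          rw [mul_assoc, mul_flip h (hne l hl), mul_assoc]
        | some (some none) =>
          refine mk (a * x l) (mul_mem ha (hmem l hl)) (some (some (some ⟨l, hl⟩))) _ ?_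
          simp only [rep]
          calc a * (x k)⁻¹ * x l = a * ((x k)⁻¹ * (x l)⁻¹) * (x l)⁻¹ := by
                  simp only [mul_assoc, two_inv h]
                _ = a * x l * (x k * (x l)⁻¹) := by rw [← mul_flip h (hne l hl).symm]; group
        | some (some (some ⟨j, hj⟩)) =>
          by_cases hjl : j = l
          · subst hjl
            exact mk a ha (some none) _ (by simp only [rep]; group)
          · refine mk (a * ((x l)⁻¹ * x j * ((x l)⁻¹ * x j)))
              (mul_mem ha (mul_mem (mul_mem (inv_mem (hmem l hl)) (hmem j hj))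
                (mul_mem (inv_mem (hmem l hl)) (hmem j hj))))
              (some (some (some ⟨j, hj⟩))) _ ?_
            simp only [rep]
            have e1 : (x j)⁻¹ * x l = x l * x j * (x l)⁻¹ := by
              calc (x j)⁻¹ * x l = (x j)⁻¹ * (x l)⁻¹ * (x l)⁻¹ := by rw [mul_assoc, two_inv h]
                _ = x l * x j * (x l)⁻¹ := by rw [← mul_flip h (Ne.symm hjl)]
            calc a * (x k * (x j)⁻¹) * x l = a * (x k * x l) * (x j * (x l)⁻¹) := by
                  rw [mul_assoc a, mul_assoc (x k), e1]; group
              _ = a * (x l)⁻¹ * ((x k)⁻¹ * x j * (x l)⁻¹) := by rw [mul_flip h (hne l hl)]; group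
              _ = a * (x l)⁻¹ * (x j * x k * ((x j)⁻¹ * (x l)⁻¹)) := by
                have e2 : (x k)⁻¹ * x j = x j * x k * (x j)⁻¹ := by
                  calc (x k)⁻¹ * x j = (x k)⁻¹ * (x j)⁻¹ * (x j)⁻¹ := by rw [mul_assoc, two_inv h]
                    _ = x j * x k * (x j)⁻¹ := by rw [← mul_flip h (hne j hj).symm]
                rw [e2]; group
              _ = a * (x l)⁻¹ * x j * (x k * x l * x j) := by
                rw [← mul_flip h (Ne.symm hjl)]; group
              _ = a * (x l)⁻¹ * x j * ((x l)⁻¹ * ((x k)⁻¹ * x j)) := by rw [mul_flip h (hne l hl)]; group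
              _ = a * ((x l)⁻¹ * x j * ((x l)⁻¹ * x j)) * (x k * (x j)⁻¹) := by
                have e2 : (x k)⁻¹ * x j = x j * x k * (x j)⁻¹ := by
                  calc (x k)⁻¹ * x j = (x k)⁻¹ * (x j)⁻¹ * (x j)⁻¹ := by rw [mul_assoc, two_inv h]
                    _ = x j * x k * (x j)⁻¹ := by rw [← mul_flip h (hne j hj).symm]
                rw [e2]; group
              _ = _ := by group
    have hU : ∀ g ∈ Subgroup.closure (x '' ↑(insert k s)), g ∈ U := by
      intro g hg
      induction hg using Subgroup.closure_induction_right with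
      | one => exact mk 1 (one_mem _) none _ (by simp [rep])
      | mul_right g _ y hy hgU =>
        obtain ⟨i, hi, rfl⟩ := hy
        exact hstep g hgU i (Finset.mem_coe.1 hi)
      | mul_inv_cancel g _ y hy hgU =>
        obtain ⟨i, hi, rfl⟩ := hy
        rw [inv_eq h, ← mul_assoc]
        exact hstep _ (hstep g hgU i (Finset.mem_coe.1 hi)) i (Finset.mem_coe.1 hi)
    choose a ha o he using fun g : Subgroup.closure (x '' ↑(insert k s)) => hU g g.2
    let F : Subgroup.closure (x '' ↑(insert k s)) → K × Option (Option (Option s)) :=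
      fun g => (⟨a g, ha g⟩, o g)
    have hF : Function.Injective F := fun g g' e => Subtype.ext (by
      rw [he g, he g', show a g = a g' from congrArg (fun p => (p.1 : G)) e,
        show o g = o g' from congrArg Prod.snd e])
    have h1 := Nat.card_le_card_of_injective F hF
    rw [Nat.card_prod, Nat.card_eq_fintype_card (α := Option (Option (Option s))), Fintype.card_option,
      Fintype.card_option, Fintype.card_option, Fintype.card_coe] at h1
    refine ⟨Finite.of_injective F hF, fun _ => ?_, fun he' => absurd he' (Finset.insert_ne_empty _ _)⟩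
    rw [Finset.card_insert_of_notMem hk, show s.card + 1 + 2 = (s.card + 2) + 1 from rfl, Nat.factorial_succ]
    rcases s.eq_empty_or_nonempty with rfl | hs
    · rw [hcard0 rfl] at h1
      simp [Nat.factorial] at h1 ⊢
      omega
    · calc 2 * Nat.card (Subgroup.closure (x '' ↑(insert k s)))
          ≤ 2 * (Nat.card K * (s.card + 1 + 1 + 1)) := Nat.mul_le_mul_left 2 h1
        _ = (s.card + 2 + 1) * (2 * Nat.card K) := by ring
        _ ≤ _ := Nat.mul_le_mul_left _ (hcard hs)

end bound

section model

variable {α : Type*} [Fintype α] [DecidableEq α] {u v : α} (huv : u ≠ v)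

/-- The points other than the two fixed ones. -/
abbrev Rest (u v : α) : Type _ := {i : α // i ≠ u ∧ i ≠ v}

theorem sign_cyc (huv : u ≠ v) (i : Rest u v) :
    Perm.sign (swap (i : α) u * swap u v) = 1 := by
  rw [map_mul, Perm.sign_swap i.2.1, Perm.sign_swap huv]; decide

/-- The three-cycle through the two fixed points. -/
def cyc (i : Rest u v) : alternatingGroup α :=
  ⟨swap (i : α) u * swap u v, Perm.mem_alternatingGroup.2 (sign_cyc huv i)⟩

theorem cyc_mul {i j : Rest u v} (hij : i ≠ j) :
    swap (i : α) u * swap u v * (swap (j : α) u * swap u v) = swap u (i : α) * swap v (j : α) := by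
  have h : (i : α) ≠ j := fun e => hij (Subtype.ext e)
  obtain ⟨i, hiu, hiv⟩ := i
  obtain ⟨j, hju, hjv⟩ := j
  dsimp only at h ⊢
  ext w
  simp only [Perm.mul_apply, swap_apply_def]
  split_ifs <;> grind

theorem rels_cyc : Rels (cyc huv) := by
  refine ⟨fun i => Subtype.ext ?_, fun i j hij => Subtype.ext ?_⟩
  · have h3 : (swap (i : α) u * swap u v).IsThreeCycle := by
      rw [swap_comm (i : α) u]
      exact Perm.isThreeCycle_swap_mul_swap_same i.2.1.symm huv i.2.2
    show (swap (i : α) u * swap u v) ^ 3 = 1
    rw [← h3.orderOf, pow_orderOf_eq_one]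
  · show (swap (i : α) u * swap u v * (swap (j : α) u * swap u v)) ^ 2 = 1
    rw [cyc_mul hij, sq]
    have hc : Commute (swap u (i : α)) (swap v (j : α)) :=
      (Perm.disjoint_swap_swap (by
        have h : (i : α) ≠ j := fun e => hij (Subtype.ext e)
        simp [huv, i.2.1.symm, i.2.2, j.2.1.symm, j.2.2.symm, h])).commute
    rw [mul_assoc, ← mul_assoc (swap v (j : α)), ← hc.eq, mul_assoc, swap_mul_self, mul_one, swap_mul_self]

/-- The three-cycles generate. -/
theorem closure_cyc : Subgroup.closure (Set.range (cyc huv)) = ⊤ := by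
  set R := (Subgroup.closure (Set.range (cyc huv))).map (alternatingGroup α).subtype with hR
  have hc : ∀ i : Rest u v, swap (i : α) u * swap u v ∈ R := fun i =>
    ⟨cyc huv i, Subgroup.subset_closure ⟨i, rfl⟩, rfl⟩
  have hs : ∀ g ∈ R, swap u v * g * swap u v ∈ R := by
    rintro _ ⟨g, hg, rfl⟩
    induction hg using Subgroup.closure_induction with
    | mem y hy =>
      obtain ⟨i, rfl⟩ := hy
      have e : swap u v * (swap (i : α) u * swap u v) * swap u v = (swap (i : α) u * swap u v)⁻¹ := by
        rw [_root_.mul_inv_rev, swap_inv, swap_inv, mul_assoc, mul_assoc, swap_mul_self, mul_one]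
      show swap u v * (swap (i : α) u * swap u v) * swap u v ∈ R
      rw [e]
      exact R.inv_mem (hc i)
    | one => simp
    | mul y z _ _ hy hz =>
      rw [map_mul, show swap u v * ((alternatingGroup α).subtype y * (alternatingGroup α).subtype z) * swap u v =
        (swap u v * (alternatingGroup α).subtype y * swap u v) *
          ((swap u v)⁻¹ * (alternatingGroup α).subtype z * swap u v) by group, swap_inv]
      exact R.mul_mem hy hz
    | inv y _ hy =>
      have e : swap u v * ((alternatingGroup α).subtype y)⁻¹ * swap u v =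
          (swap u v * (alternatingGroup α).subtype y * swap u v)⁻¹ := by
        rw [_root_.mul_inv_rev, _root_.mul_inv_rev, swap_inv, mul_assoc]
      rw [map_inv, e]
      exact R.inv_mem hy
  have key : ∀ a b : α, a ≠ b → swap a b * swap u v ∈ R := by
    have one : ∀ a, a ≠ u → swap a u * swap u v ∈ R := fun a ha => by
      by_cases hav : a = v
      · rw [hav, swap_comm, swap_mul_self]; exact R.one_mem
      · exact hc ⟨a, ha, hav⟩
    intro a b hab
    by_cases hb : b = u
    · rw [hb] at hab ⊢; exact one a hab
    by_cases ha : a = u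
    · rw [ha, swap_comm u b]; exact one b hb
    have e : swap a b = swap a u * swap b u * swap a u := by
      rw [swap_comm a u, swap_mul_swap_mul_swap hb hab.symm]
    rw [e, show swap a u * swap b u * swap a u * swap u v =
      (swap a u * swap u v) * ((swap u v)⁻¹ * swap b u) * (swap a u * swap u v) by group, swap_inv]
    refine R.mul_mem (R.mul_mem (one a ha) ?_) (one a ha)
    have h := R.inv_mem (one b hb)
    rwa [_root_.mul_inv_rev, swap_inv, swap_inv] at h
  have hall : ∀ g : Perm α, g ∈ R ∨ g * swap u v ∈ R := by
    intro g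
    induction g using Perm.swap_induction_on with
    | one => exact Or.inl R.one_mem
    | swap_mul f a b hab ih =>
      rcases ih with h | h
      · refine Or.inr ?_
        rw [show swap a b * f * swap u v = (swap a b * swap u v) * ((swap u v)⁻¹ * f * swap u v) by group, swap_inv]
        exact R.mul_mem (key a b hab) (hs f h)
      · refine Or.inl ?_
        have h' := hs _ h
        rw [mul_assoc (swap u v) (f * swap u v), mul_assoc f, swap_mul_self, mul_one] at h'
        have e := R.mul_mem (key a b hab) h'
        rwa [mul_assoc (swap a b), ← mul_assoc (swap u v), swap_mul_self, one_mul] at e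
  refine eq_top_iff.2 fun g _ => ?_
  rcases hall g with h | h
  · obtain ⟨g', hg', e⟩ := h
    exact (Subtype.ext e : g' = g) ▸ hg'
  · exfalso
    obtain ⟨g', -, e⟩ := h
    have h1 : Perm.sign ((g : Perm α) * swap u v) = 1 := by
      rw [← e]; exact Perm.mem_alternatingGroup.1 g'.2
    rw [map_mul, Perm.mem_alternatingGroup.1 g.2, Perm.sign_swap huv] at h1
    exact absurd h1 (by decide)

/-- Any family satisfying the relations is the image of the three-cycles. -/
theorem exists_hom {H : Type*} [Group H] (hne : Nonempty (Rest u v)) {x : Rest u v → H} (hx : Rels x) :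
    ∃ φ : alternatingGroup α →* H, ∀ i, φ (cyc huv i) = x i := by
  classical
  let Γ : Subgroup (alternatingGroup α × H) := Subgroup.closure (Set.range fun i => (cyc huv i, x i))
  let y : Rest u v → Γ := fun i => ⟨(cyc huv i, x i), Subgroup.subset_closure ⟨i, rfl⟩⟩
  have hc := rels_cyc huv
  have hy : Rels y := ⟨fun i => Subtype.ext (Prod.ext (hc.cube i) (hx.cube i)),
    fun i j hij => Subtype.ext (Prod.ext (hc.pair i j hij) (hx.pair i j hij))⟩
  obtain ⟨hfin, hle, -⟩ := card_closure_le hy (Finset.univ : Finset (Rest u v))
  have htop : Subgroup.closure (y '' ↑(Finset.univ : Finset (Rest u v))) = ⊤ := by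
    rw [Finset.coe_univ, Set.image_univ]
    rw [show Set.range y = ((↑) : Γ → alternatingGroup α × H) ⁻¹' Set.range (fun i => (cyc huv i, x i)) by
      ext ⟨g, hg⟩
      simp [y, Subtype.ext_iff]]
    exact Subgroup.closure_closure_coe_preimage
  rw [htop] at hfin hle
  have : Finite Γ := Finite.of_equiv _ Subgroup.topEquiv.toEquiv
  have hle' := hle Finset.univ_nonempty
  rw [Subgroup.card_top] at hle'
  let σ : Γ →* alternatingGroup α := (MonoidHom.fst _ _).comp Γ.subtype
  have hs : Function.Surjective σ := by
    rw [← MonoidHom.range_eq_top, eq_top_iff, ← closure_cyc huv, Subgroup.closure_le]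
    rintro _ ⟨i, rfl⟩
    exact ⟨y i, rfl⟩
  have : Nontrivial α := ⟨u, v, huv⟩
  have hcard : (Finset.univ : Finset (Rest u v)).card + 2 = Fintype.card α := by
    rw [Finset.card_univ, Fintype.card_subtype]
    have e : (Finset.univ.filter fun i => i ≠ u ∧ i ≠ v) = ({u, v} : Finset α)ᶜ := by ext; simp
    rw [e, Finset.card_compl, Finset.card_pair huv]
    have : 2 ≤ Fintype.card α := Fintype.one_lt_card
    omega
  have halt : 2 * Nat.card (alternatingGroup α) = (Fintype.card α).factorial := by
    rw [two_mul_nat_card_alternatingGroup, Nat.card_eq_fintype_card, Fintype.card_perm]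
  rw [hcard, ← halt] at hle'
  have hb : Function.Bijective σ := (Nat.bijective_iff_surjective_and_card σ).2
    ⟨hs, le_antisymm (by omega) (Nat.card_le_card_of_surjective σ hs)⟩
  refine ⟨((MonoidHom.snd _ _).comp Γ.subtype).comp (MulEquiv.ofBijective σ hb).symm.toMonoidHom, fun i => ?_⟩
  have e : (MulEquiv.ofBijective σ hb).symm (cyc huv i) = y i :=
    (MulEquiv.ofBijective σ hb).injective (by rw [MulEquiv.apply_symm_apply]; rfl)
  show ((((MulEquiv.ofBijective σ hb).symm (cyc huv i)) : Γ) : alternatingGroup α × H).2 = _
  rw [e]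

end model

end Cfsg.Agent.ShortPres.Alt
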