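import Cfsg.Agent.Lib.ShortPres.SLTwo
import Mathlib

/-!
Five relations present `SL₂` over a field of even order.
-/

set_option autoImplicit false

namespace Cfsg.Agent.ShortPres

open Cfsg.Agent.Classical.GL2 Matrix
open scoped MatrixGroups

variable {F : Type*} [Field F] {d : ℕ} [Fact (Nat.Prime 2)] [Algebra (ZMod 2) F]

/-- The five relations. -/
noncomputable def relEven (B : Module.Basis (Fin d) (ZMod 2) F) (m : ℕ) (z : Fˣ) (e : F) :
    List (FreeGroup (Fin 3)) :=
  let U := FreeGroup.of (0 : Fin 3)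
  let H := FreeGroup.of (1 : Fin 3)
  let T := FreeGroup.of (2 : Fin 3)
  [U ^ 2,
    (if 2 ≤ d then H ^ m * U * (H ^ m)⁻¹ * (U * (H * U * H⁻¹))⁻¹ else U ^ 2),
    (H ^ 1) ^ d * U * ((H ^ 1) ^ d)⁻¹ * (elt B 1 U H (e ^ d))⁻¹,
    H * T * (elt B 1 U H (z : F) * (T * elt B 1 U H (z : F)⁻¹ * T⁻¹) * elt B 1 U H (z : F))⁻¹,
    T * (U * (T * U * T⁻¹) * U)⁻¹]

variable {B : Module.Basis (Fin d) (ZMod 2) F}

theorem hyp_of_relEven {m : ℕ} (z : Fˣ) {e : F} (hd : 0 < d) (he : e = (z : F) ^ 2)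
    (hB : ∀ i : Fin d, B i = e ^ (i : ℕ)) (R : Set (FreeGroup (Fin 3)))
    (hR : ∀ r ∈ relEven B m z e, r ∈ R) :
    Hyp B 1 (z : F) e (PresentedGroup.of (rels := R) 0) (PresentedGroup.of 1) (PresentedGroup.of 2) := by
  have hof : ∀ i, PresentedGroup.mk R (FreeGroup.of i) = PresentedGroup.of i := fun _ => rfl
  have get : ∀ r ∈ relEven B m z e, PresentedGroup.mk R r = 1 := fun r hr =>
    PresentedGroup.one_of_mem (hR r hr)
  simp only [relEven, List.forall_mem_cons, List.not_mem_nil, false_imp_iff, implies_true, and_true] at get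
  obtain ⟨g1, g3, g4, g8, g9⟩ := get
  simp only [map_mul, map_inv, map_pow, map_elt, hof] at g1 g4 g8 g9
  rw [mul_inv_eq_one] at g4 g8 g9
  set u : PresentedGroup R := PresentedGroup.of 0
  set h : PresentedGroup R := PresentedGroup.of 1
  set t : PresentedGroup R := PresentedGroup.of 2
  have hui : u⁻¹ = u := inv_eq_of_mul_eq_one_right (by rw [← sq]; exact g1)
  have hc : ∀ i < d, Commute u ((h ^ 1) ^ i * u * ((h ^ 1) ^ i)⁻¹) := by
    intro i hi
    by_cases hd2 : 2 ≤ d
    · rw [if_pos hd2] at g3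
      simp only [map_mul, map_inv, map_pow, hof] at g3
      rw [mul_inv_eq_one] at g3
      refine commute_orbit (Commute.pow_pow_self _ 1 m) ?_ (by rw [pow_one]; exact g3) i
      rw [pow_one]
      have e1 : (u * (h * u * h⁻¹)) * (u * (h * u * h⁻¹)) = 1 := by
        rw [← g3, ← sq, conj_pow, g1, mul_one, mul_inv_cancel]
      show u * (h * u * h⁻¹) = h * u * h⁻¹ * u
      calc u * (h * u * h⁻¹) = (u * (h * u * h⁻¹))⁻¹ := eq_inv_of_mul_eq_one_left e1
        _ = h * u⁻¹ * h⁻¹ * u⁻¹ := by group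
        _ = _ := by rw [hui]
    · obtain rfl : i = 0 := by omega
      simp
  have hone : elt B 1 u h (1 : F) = u := elt_one hd hB
  have hu : h * u * h⁻¹ = elt B 1 u h ((z : F) ^ 2) := by
    rw [← he]
    by_cases hd1 : 1 < d
    · rw [show e = B ⟨1, hd1⟩ by rw [hB, pow_one], elt, word_single, orb]
      simp
    · obtain rfl : d = 1 := by omega
      simpa [u, h] using g4
  have hinv : ∀ c, elt B 1 u h c * elt B 1 u h c = 1 := fun c => by
    have h20 : c + c = (0 : F) := by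
      rw [← two_smul (ZMod 2) c, show (2 : ZMod 2) = 0 from rfl, zero_smul]
    rw [← elt_add g1 hc, h20, elt, word_zero]
  have hy : ∀ x : PresentedGroup R, x * x = 1 → (t * x * t⁻¹) * (t * x * t⁻¹) = 1 := fun x hx => by
    rw [← sq, conj_pow, sq, hx, mul_one, mul_inv_cancel]
  have hsand : ∀ a y : PresentedGroup R, a * a = 1 → y * y = 1 → (a * y * a) * (a * y * a) = 1 := fun a y ha hy => by
    rw [show a * y * a * (a * y * a) = a * y * (a * a) * y * a by group, ha, mul_one, mul_assoc a y y, hy, mul_one, ha]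
  have htt : t * t = 1 := by
    rw [g9]
    exact hsand _ _ (by rw [← sq]; exact g1) (hy _ (by rw [← sq]; exact g1))
  have hht : h * t * (h * t) = 1 := by
    rw [g8]
    exact hsand _ _ (hinv _) (hy _ (hinv _))
  refine ⟨g1, hc, g4, hu, ?_, ?_, g8, g9⟩
  · rw [inv_eq_of_mul_eq_one_right htt]
    exact eq_inv_of_mul_eq_one_right (by rw [← hht]; group)
  · rw [htt]; exact Commute.one_left u

theorem relEven_true [CharP F 2] {m : ℕ} (z : Fˣ) {e : F} (he : e = (z : F) ^ (2 * 1))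
    (hB : ∀ i : Fin d, B i = e ^ (i : ℕ)) (hm : 2 ≤ d → e + 1 = (z : F) ^ (2 * m))
    {Q : Type*} [Group Q] (π : SL(2, F) →* Q) :
    ∀ r ∈ relEven B m z e, π (FreeGroup.lift ![uniSL 1, shEl z, stEl] r) = 1 := by
  simp only [relEven, List.forall_mem_cons, List.not_mem_nil, false_imp_iff, implies_true, and_true]
  have hpow : (uniSL (1 : F)) ^ 2 = 1 := by
    rw [sq, uniSL_mul, CharTwo.add_self_eq_zero, uniSL_zero]
  refine ⟨?_, ?_, ?_, ?_, ?_⟩
  all_goals try split_ifs
  all_goals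
    simp only [map_mul, map_inv, map_pow, lift_elt, FreeGroup.lift_apply_of, Matrix.cons_val_zero,
      Matrix.cons_val_one, Matrix.cons_val, elt_sl B 1 z he hB]
    simp only [← map_inv, ← map_mul, ← map_pow]
    refine (congrArg π ?_).trans (map_one π)
  · exact hpow
  · rw [mul_inv_eq_one, conj_sh_pow, conj_sh, mul_one, mul_one, uniSL_mul, ← hm (by assumption), he,
      mul_one, add_comm]
  · exact hpow
  · rw [mul_inv_eq_one, ← pow_mul, conj_sh_pow, he, mul_one, ← pow_mul, mul_assoc]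
  · rw [mul_inv_eq_one, sh_st_eq, show stEl * uniSL (z : F)⁻¹ * stEl⁻¹ = lowSL (-(z : F)⁻¹) by
      rw [mul_inv_eq_iff_eq_mul]
      refine mat_ext ?_
      rw [Matrix.SpecialLinearGroup.coe_mul, Matrix.SpecialLinearGroup.coe_mul, coe_uniSL, coe_lowSL, coe_stEl,
        mul_fin_two, mul_fin_two]
      simp]
  · rw [mul_inv_eq_one, show stEl * uniSL (1 : F) * stEl⁻¹ = lowSL (-1) by
      rw [mul_inv_eq_iff_eq_mul]
      refine mat_ext ?_
      rw [Matrix.SpecialLinearGroup.coe_mul, Matrix.SpecialLinearGroup.coe_mul, coe_uniSL, coe_lowSL, coe_stEl,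
        mul_fin_two, mul_fin_two]
      simp]
    exact st_eq

end Cfsg.Agent.ShortPres
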