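import Cfsg.Agent.Lib.ShortPres.SLBounded
import Cfsg.Agent.Lib.SteinbergSL.Chain
import Cfsg.Agent.S2286
import Cfsg.Agent.S2402
import Cfsg.Agent.S2403
import Mathlib

/-!
Degree four, the centre, and two generators.
-/

set_option autoImplicit false

namespace Cfsg.Agent.ShortPres.Linear

open Equiv Bound Monoid Matrix Cfsg.Agent.SimpleFacts.SLnRootLifts Cfsg.Agent.SimpleFacts.SLnCosets
  Cfsg.Agent.SimpleFacts.SLnSystem Cfsg.Agent.SteinbergSL
open scoped commutatorElement

variable {F : Type*} [Field F] [Fintype F]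

set_option maxHeartbeats 800000 in
theorem pres_four : Pres (SpecialLinearGroup (Fin 4) F) 62 := by
  classical
  obtain ⟨z, hz⟩ := IsCyclic.exists_generator (α := Fˣ)
  let eA : Fin 3 ↪ Fin 4 := Fin.castSuccEmb
  let eB : Fin 3 ↪ Fin 4 := Fin.succEmb 3
  obtain ⟨iA, hiA⟩ := exists_block (F := F) (β := Fin 3) (by simp) eA
  obtain ⟨iB, hiB⟩ := exists_block (F := F) (β := Fin 3) (by simp) eB
  have hA : ∀ i j, i ≠ j → iA (hT i j (z : F)) = hT (eA i) (eA j) (z : F) := by
    intro i j hij
    simp only [hT, hWord, wWord, map_mul, hiA i j hij, hiA j i hij.symm]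
  have hB : ∀ i j, i ≠ j → iB (hT i j (z : F)) = hT (eB i) (eB j) (z : F) := by
    intro i j hij
    simp only [hT, hWord, wWord, map_mul, hiB i j hij, hiB j i hij.symm]
  let jA : SpecialLinearGroup (Fin 3) F →* Coprod (SpecialLinearGroup (Fin 3) F) (SpecialLinearGroup (Fin 3) F) :=
    Coprod.inl
  let jB : SpecialLinearGroup (Fin 3) F →* Coprod (SpecialLinearGroup (Fin 3) F) (SpecialLinearGroup (Fin 3) F) :=
    Coprod.inr
  let S : List (SpecialLinearGroup (Fin 3) F) := [T 0 1 1, hT 0 1 (z : F), T 1 0 1, hT 1 0 (z : F)]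
  let S' : List (SpecialLinearGroup (Fin 3) F) := [T 1 2 1, hT 1 2 (z : F), T 2 1 1, hT 2 1 (z : F)]
  let E : List (Coprod (SpecialLinearGroup (Fin 3) F) (SpecialLinearGroup (Fin 3) F)) :=
    [jA (T 1 2 1) * (jB (T 0 1 1))⁻¹, jA (hT 1 2 (z : F)) * (jB (hT 0 1 (z : F)))⁻¹,
      jA (T 2 1 1) * (jB (T 1 0 1))⁻¹, jA (hT 2 1 (z : F)) * (jB (hT 1 0 (z : F)))⁻¹] ++
      (S.product S').map fun st => ⁅jA st.1, jB st.2⁆
  have hmemS : ∀ x : SpecialLinearGroup (Fin 3) F, x ∈ S ↔
      x = T 0 1 1 ∨ x = hT 0 1 (z : F) ∨ x = T 1 0 1 ∨ x = hT 1 0 (z : F) := fun x => by simp [S]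
  refine (Pres.glue pres_three pres_three iA iB ?_ E ?_ ?_).mono (by simp [E, S, S', List.product])
  · rw [eq_top_iff]
    intro g _
    suffices h : iA.range ⊔ iB.range = ⊤ by rw [h]; trivial
    refine Classical.Linear.eq_top_of_transvection_mem _ fun i j hij c => ?_
    rw [← T_eq hij]
    have hA' : ∀ (a b : Fin 3), a ≠ b → ∀ c, (T (eA a) (eA b) c : SpecialLinearGroup (Fin 4) F) ∈
        iA.range ⊔ iB.range := fun a b h c => Subgroup.mem_sup_left ⟨_, hiA a b h c⟩
    have hB' : ∀ (a b : Fin 3), a ≠ b → ∀ c, (T (eB a) (eB b) c : SpecialLinearGroup (Fin 4) F) ∈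
        iA.range ⊔ iB.range := fun a b h c => Subgroup.mem_sup_right ⟨_, hiB a b h c⟩
    have h03 : ∀ x y : Fin 4, (x = 0 ∧ y = 3) ∨ (x = 3 ∧ y = 0) → ∀ c,
        (T x y c : SpecialLinearGroup (Fin 4) F) ∈ iA.range ⊔ iB.range := by
      rintro x y (⟨rfl, rfl⟩ | ⟨rfl, rfl⟩) c
      · rw [← mul_one c, ← T_bracket (m := (1 : Fin 4)) (by decide) (by decide) (by decide), commutatorElement_def]
        have a := hA' 0 1 (by decide) c
        have b := hB' 0 2 (by decide) 1
        exact mul_mem (mul_mem (mul_mem a b) (inv_mem a)) (inv_mem b)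
      · rw [← mul_one c, ← T_bracket (m := (1 : Fin 4)) (by decide) (by decide) (by decide), commutatorElement_def]
        have a := hB' 2 0 (by decide) c
        have b := hA' 1 0 (by decide) 1
        exact mul_mem (mul_mem (mul_mem a b) (inv_mem a)) (inv_mem b)
    fin_cases i <;> fin_cases j <;> first | exact absurd rfl hij | skip
    exacts [hA' 0 1 (by decide) c, hA' 0 2 (by decide) c, h03 0 3 (Or.inl ⟨rfl, rfl⟩) c, hA' 1 0 (by decide) c,
      hA' 1 2 (by decide) c, hB' 0 2 (by decide) c, hA' 2 0 (by decide) c, hA' 2 1 (by decide) c,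
      hB' 1 2 (by decide) c, h03 3 0 (Or.inr ⟨rfl, rfl⟩) c, hB' 2 0 (by decide) c, hB' 2 1 (by decide) c]
  · intro r hr
    simp only [E, List.mem_append, List.mem_cons, List.not_mem_nil, or_false, List.mem_map] at hr
    rcases hr with (rfl | rfl | rfl | rfl) | ⟨⟨s, t⟩, hst, rfl⟩
    · simp [jA, jB, hiA (1 : Fin 3) 2 (by decide), hiB (0 : Fin 3) 1 (by decide)]
      exact mul_inv_eq_one.2 rfl
    · simp [jA, jB, hA (1 : Fin 3) 2 (by decide), hB (0 : Fin 3) 1 (by decide)]
      exact mul_inv_eq_one.2 rfl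
    · simp [jA, jB, hiA (2 : Fin 3) 1 (by decide), hiB (1 : Fin 3) 0 (by decide)]
      exact mul_inv_eq_one.2 rfl
    · simp [jA, jB, hA (2 : Fin 3) 1 (by decide), hB (1 : Fin 3) 0 (by decide)]
      exact mul_inv_eq_one.2 rfl
    · obtain ⟨hs, ht⟩ := List.pair_mem_product.1 hst
      simp only [map_commutatorElement, jA, jB, Coprod.lift_apply_inl, Coprod.lift_apply_inr]
      rw [commutatorElement_eq_one_iff_commute]
      have key : ∀ (i j k l : Fin 4), (i = 0 ∨ i = 1) → (j = 0 ∨ j = 1) → (k = 2 ∨ k = 3) → (l = 2 ∨ l = 3) →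
          i ≠ j → k ≠ l → ∀ a b : F, Commute (T i j a) (T k l b) := by
        intro i j k l hi hj hk hl hij hkl a b
        refine T_commute hij hkl ?_ ?_ a b
        · rcases hi with rfl | rfl <;> rcases hl with rfl | rfl <;> decide
        · rcases hj with rfl | rfl <;> rcases hk with rfl | rfl <;> decide
      have hleft : ∀ w : SpecialLinearGroup (Fin 4) F,
          (∀ i j, (i = 0 ∨ i = 1) → (j = 0 ∨ j = 1) → i ≠ j → ∀ a, Commute (T i j a) w) → Commute (iA s) w := by
        intro w hw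
        have w1 := hw 0 1 (Or.inl rfl) (Or.inr rfl) (by decide)
        have w2 := hw 1 0 (Or.inr rfl) (Or.inl rfl) (by decide)
        rcases (hmemS s).1 hs with rfl | rfl | rfl | rfl
        · rw [hiA _ _ (by decide)]; exact w1 1
        · rw [hA _ _ (by decide)]
          exact (((w1 _).mul_left (w2 _)).mul_left (w1 _)).mul_left (((w1 _).mul_left (w2 _)).mul_left (w1 _))
        · rw [hiA _ _ (by decide)]; exact w2 1
        · rw [hA _ _ (by decide)]
          exact (((w2 _).mul_left (w1 _)).mul_left (w2 _)).mul_left (((w2 _).mul_left (w1 _)).mul_left (w2 _))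
      refine hleft _ fun i j hi hj hij a => ?_
      have k1 : ∀ b, Commute (T i j a) (T (2 : Fin 4) 3 b) := fun b =>
        key i j 2 3 hi hj (Or.inl rfl) (Or.inr rfl) hij (by decide) a b
      have k2 : ∀ b, Commute (T i j a) (T (3 : Fin 4) 2 b) := fun b =>
        key i j 3 2 hi hj (Or.inr rfl) (Or.inl rfl) hij (by decide) a b
      simp only [S', List.mem_cons, List.not_mem_nil, or_false] at ht
      rcases ht with rfl | rfl | rfl | rfl
      · rw [hiB _ _ (by decide)]; exact k1 1
      · rw [hB _ _ (by decide)]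
        exact (((k1 _).mul_right (k2 _)).mul_right (k1 _)).mul_right (((k1 _).mul_right (k2 _)).mul_right (k1 _))
      · rw [hiB _ _ (by decide)]; exact k2 1
      · rw [hB _ _ (by decide)]
        exact (((k2 _).mul_right (k1 _)).mul_right (k2 _)).mul_right (((k2 _).mul_right (k1 _)).mul_right (k2 _))
  intro H _ α β hE
  simp only [E, List.mem_append, or_imp, forall_and] at hE
  obtain ⟨h1, h2⟩ := hE
  simp only [List.forall_mem_cons, List.not_mem_nil, false_imp_iff, implies_true, and_true, jA, jB, map_mul, map_inv,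
    Coprod.lift_apply_inl, Coprod.lift_apply_inr, mul_inv_eq_one] at h1
  obtain ⟨e1, e2, e3, e4⟩ := h1
  have hcm : ∀ s ∈ S, ∀ t ∈ S', Commute (α s) (β t) := by
    intro s hs t ht
    have h := h2 _ (List.mem_map.2 ⟨(s, t), List.pair_mem_product.2 ⟨hs, ht⟩, rfl⟩)
    simpa [jA, jB, commutatorElement_eq_one_iff_commute] using h
  have agree : ∀ i j x y : Fin 3, i ≠ j → x ≠ y → α (T i j 1) = β (T x y 1) →
      α (hT i j (z : F)) = β (hT x y (z : F)) → ∀ c, α (T i j c) = β (T x y c) := by
    intro i j x y hij hxy h1 h2 c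
    have ei : ∀ (f : SpecialLinearGroup (Fin 3) F →* H) {i j : Fin 3}, i ≠ j → ∀ a,
        f (T i j (-a)) = (f (T i j a))⁻¹ := fun f i j h a =>
      eq_inv_of_mul_eq_one_left (by rw [← map_mul, ← T_add h, neg_add_cancel, T_zero, map_one])
    let P : AddSubgroup F :=
      { carrier := {c | α (T i j c) = β (T x y c)}
        zero_mem' := by simp [T_zero]
        add_mem' := fun {a b} ha hb => by
          show _ = _
          rw [T_add hij, T_add hxy, map_mul, map_mul, ha, hb]
        neg_mem' := fun {a} ha => by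
          show _ = _
          rw [ei α hij, ei β hxy, ha] }
    refine top_of_scale hz P h1 (fun a ha => ?_) c
    show _ = _
    rw [← hT_conj hij z.ne_zero, ← hT_conj hxy z.ne_zero, map_mul, map_mul, map_inv, map_mul, map_mul, map_inv,
      h2, (show α (T i j a) = β (T x y a) from ha)]
  have g12 := agree 1 2 0 1 (by decide) (by decide) e1 e2
  have g21 := agree 2 1 1 0 (by decide) (by decide) e3 e4
  let U : ℕ → F → H := fun k c => if k = 0 then α (T 0 1 c) else if k = 1 then α (T 1 2 c) else β (T 1 2 c)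
  let V : ℕ → F → H := fun k c => if k = 0 then α (T 1 0 c) else if k = 1 then α (T 2 1 c) else β (T 2 1 c)
  have hUA : Chain.Agree U V 0 α := by
    intro k hk a
    obtain rfl | rfl : k = 0 ∨ k = 1 := by omega
    · exact ⟨rfl, rfl⟩
    · exact ⟨rfl, rfl⟩
  have hUB : Chain.Agree U V 1 β := by
    intro k hk a
    obtain rfl | rfl : k = 0 ∨ k = 1 := by omega
    · exact ⟨(g12 a).symm, (g21 a).symm⟩
    · exact ⟨rfl, rfl⟩
  have hall : ∀ i j x y : Fin 3, i ≠ j → x ≠ y → T i j 1 ∈ S → hT i j (z : F) ∈ S → T x y 1 ∈ S' →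
      hT x y (z : F) ∈ S' → ∀ a b, Commute (α (T i j a)) (β (T x y b)) := by
    intro i j x y hij hxy a1 a2 b1 b2 a b
    refine map_T_commute α hij hz ?_ ?_ a
    · exact (map_T_commute β hxy hz (hcm _ a1 _ b1).symm (hcm _ a1 _ b2).symm b).symm
    · exact (map_T_commute β hxy hz (hcm _ a2 _ b1).symm (hcm _ a2 _ b2).symm b).symm
  obtain ⟨f, hf⟩ := Chain.exists_hom (U := U) (V := V) (n := 3)
    (fun k hk => by
      obtain rfl | rfl : k = 0 ∨ k = 1 := by omega
      · exact ⟨α, hUA⟩
      · exact ⟨β, hUB⟩)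
    (fun i j hij hj a b => by
      obtain ⟨rfl, rfl⟩ : i = 0 ∧ j = 2 := by omega
      exact ⟨hall 0 1 1 2 (by decide) (by decide) (by simp [S]) (by simp [S]) (by simp [S']) (by simp [S']) a b,
        hall 0 1 2 1 (by decide) (by decide) (by simp [S]) (by simp [S]) (by simp [S']) (by simp [S']) a b,
        hall 1 0 1 2 (by decide) (by decide) (by simp [S]) (by simp [S]) (by simp [S']) (by simp [S']) a b,
        hall 1 0 2 1 (by decide) (by decide) (by simp [S]) (by simp [S]) (by simp [S']) (by simp [S']) a b⟩)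
    4 (by norm_num) 0 (by norm_num)
  refine ⟨f, Chain.hom_ext fun k hk a => ?_, Chain.hom_ext fun k hk a => ?_⟩
  · rw [MonoidHom.comp_apply, MonoidHom.comp_apply, (hUA k hk a).1, (hUA k hk a).2, hiA _ _ (by simp [Fin.ext_iff]),
      hiA _ _ (by simp [Fin.ext_iff])]
    exact hf k (by omega) a
  · rw [MonoidHom.comp_apply, MonoidHom.comp_apply, (hUB k hk a).1, (hUB k hk a).2, hiB _ _ (by simp [Fin.ext_iff]),
      hiB _ _ (by simp [Fin.ext_iff])]
    have := hf (k + 1) (by omega) a
    rw [show 0 + (k + 1) = 1 + k by omega] at this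
    exact this

theorem _root_.Cfsg.Agent.ShortPres.Bound.Pres.mod_center {G : Type*} [Group G] {k : ℕ} (h : Pres G k)
    (hc : IsCyclic (Subgroup.center G)) : Pres (G ⧸ Subgroup.center G) (k + 1) := by
  obtain ⟨⟨c, hcm⟩, hc'⟩ := hc.exists_generator
  refine h.quotient (QuotientGroup.mk' (Subgroup.center G)) (QuotientGroup.mk'_surjective _) c ?_ ?_
  · exact (QuotientGroup.eq_one_iff (N := Subgroup.center G) c).2 hcm
  · rw [QuotientGroup.ker_mk']
    intro x hx
    obtain ⟨j, hj⟩ := Subgroup.mem_zpowers_iff.1 (hc' ⟨x, hx⟩)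
    have e : c ^ j = x := (map_zpow (Subgroup.center G).subtype ⟨c, hcm⟩ j).symm.trans (congrArg (Subgroup.center G).subtype hj)
    rw [← e]
    exact Subgroup.zpow_mem (Subgroup.normalClosure ({c} : Set G)) (Subgroup.subset_normalClosure (Set.mem_singleton c)) j

theorem center_isCyclic {n : ℕ} (hn : 0 < n) : IsCyclic (Subgroup.center (SpecialLinearGroup (Fin n) F)) := by
  have : NeZero (Fintype.card (Fin n)) := ⟨by simp; omega⟩
  have hc : IsCyclic (rootsOfUnity (Fintype.card (Fin n)) F) := inferInstance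
  exact (SpecialLinearGroup.center_equiv_rootsOfUnity' (R := F) (⟨0, hn⟩ : Fin n)).isCyclic.2 hc

set_option maxHeartbeats 1000000 in
/-- Bounded presentations of the projective groups. -/
theorem pres_psl {n : ℕ} (hn : 2 ≤ n) :
    Pres (ProjectiveSpecialLinearGroup (Fin n) F) 78 := by
  classical
  rcases Nat.eq_or_lt_of_le hn with rfl | h3
  · obtain ⟨-, ⟨R, hR, he⟩, -⟩ := Cfsg.Agent.S2286.result (F := F)
    exact (Pres.of_presented R hR he).mono (by norm_num)
  have hsl : Pres (SpecialLinearGroup (Fin n) F) 62 := by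
    rcases Nat.lt_or_ge n 5 with h | h
    · obtain rfl | rfl : n = 3 ∨ n = 4 := by omega
      · exact pres_three.mono (by norm_num)
      · exact pres_four
    · exact pres_sl h
  exact (Pres.mod_center hsl (center_isCyclic (F := F) (n := n) (by omega))).mono (by norm_num)

/-- Two generators. -/
theorem two_gen {n : ℕ} (hn : 2 ≤ n) :
    ∃ g : Fin 2 → ProjectiveSpecialLinearGroup (Fin n) F, Subgroup.closure (Set.range g) = ⊤ := by
  classical
  obtain ⟨m, rfl⟩ : ∃ m, n = m + 1 := ⟨n - 1, by omega⟩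
  have h01 : (0 : Fin (m + 1)) ≠ 1 := by
    intro e
    have := congrArg Fin.val e
    rw [Fin.val_zero, Fin.val_one', Nat.one_mod_eq_one.2 (by omega)] at this
    omega
  obtain ⟨k, hk⟩ := IsCyclic.exists_generator (α := Fˣ)
  let W : Matrix (Fin (m + 1)) (Fin (m + 1)) F := Matrix.of fun i j =>
    if j.val = i.val + 1 then 1 else if i.val = m ∧ j.val = 0 then (-1) ^ m else 0
  have hW : W = (finRotate (m + 1)).permMatrix F * Matrix.diagonal fun j => if j = 0 then (-1) ^ m else 1 := by
    ext i j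
    rw [Matrix.mul_diagonal, Equiv.Perm.permMatrix, PEquiv.toMatrix_apply]
    simp only [W, Matrix.of_apply, Equiv.toPEquiv_apply, Option.mem_def, Option.some.injEq, finRotate_apply,
      Fin.ext_iff, Fin.val_add_one, Fin.val_last, Fin.val_zero]
    split_ifs <;> first | omega | grind
  have hdet : W.det = 1 := by
    rw [hW, Matrix.det_mul, Matrix.det_permutation, sign_finRotate, Matrix.det_diagonal,
      Finset.prod_ite_eq' Finset.univ (0 : Fin (m + 1)) (fun _ => ((-1 : F)) ^ m)]
    simp [← pow_add, ← two_mul, pow_mul]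
  let w : SpecialLinearGroup (Fin (m + 1)) F := ⟨W, hdet⟩
  let x : SpecialLinearGroup (Fin (m + 1)) F := T 0 1 (1 : F)
  have hx : x.1 = Matrix.transvection (0 : Fin (m + 1)) 1 (1 : F) := T_coe (F := F) h01 1
  have key : ∃ a b : SpecialLinearGroup (Fin (m + 1)) F,
      Subgroup.closure ({a, b} : Set (SpecialLinearGroup (Fin (m + 1)) F)) ⊔ Subgroup.center _ = ⊤ := by
    rcases Nat.lt_or_ge 3 (Fintype.card F) with hF | hF
    · refine ⟨hT 0 1 (k : F), x * w, Cfsg.Agent.S2402.result hF m (by omega) k hk _ x w ?_ hx rfl⟩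
      have hm := h_monomial (σ := MonoidHom.id (SpecialLinearGroup (Fin (m + 1)) F)) (idSys (F := F)) h01 k.ne_zero
      ext i j
      show (hT 0 1 (k : F) : SpecialLinearGroup (Fin (m + 1)) F).1 i j = _
      rw [show hT 0 1 (k : F) = (MonoidHom.id (SpecialLinearGroup (Fin (m + 1)) F))
        (hWord (fun a b c => T a b c) 0 1 (k : F)) from rfl, hm.2, Matrix.diagonal_apply, Perm.one_apply]
      simp only [Fin.ext_iff, Fin.val_zero, Fin.val_one', Nat.one_mod_eq_one.2 (show m + 1 ≠ 1 by omega)]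
      split_ifs <;> simp_all
    · exact ⟨x, w, Cfsg.Agent.S2403.result hF m (by omega) x w hx rfl⟩
  obtain ⟨a, b, hab⟩ := key
  let π := QuotientGroup.mk' (Subgroup.center (SpecialLinearGroup (Fin (m + 1)) F))
  refine ⟨![π a, π b], ?_⟩
  have e := congrArg (Subgroup.map π) hab
  rw [Subgroup.map_sup, Subgroup.map_top_of_surjective π (QuotientGroup.mk'_surjective _),
    QuotientGroup.map_mk'_self, sup_bot_eq, MonoidHom.map_closure, Set.image_pair] at e
  rw [← e]
  congr 1
  ext y
  simp [eq_comm, or_comm]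

end Cfsg.Agent.ShortPres.Linear
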