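import Cfsg.Agent.Lib.ShortPres.Pres
import Mathlib

/-!
Presentations that keep count of the generators as well as the relations.
-/

set_option autoImplicit false

namespace Cfsg.Agent.ShortPres.Bound

open Monoid

/-- Some `m` generators have a kernel normally generated by at most `k` elements. -/
def PresN (G : Type*) [Group G] (m k : ℕ) : Prop :=
  ∃ (f : Fin m → G) (R : List (FreeGroup (Fin m))), R.length ≤ k ∧
    (∀ r ∈ R, FreeGroup.lift f r = 1) ∧ Function.Surjective (FreeGroup.lift f) ∧
    ∀ r, FreeGroup.lift f r = 1 → r ∈ Subgroup.normalClosure {r | r ∈ R}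

variable {G : Type*} [Group G] {k : ℕ}

theorem PresN.toPres {m : ℕ} (h : PresN G m k) : Pres G k := ⟨m, h⟩

theorem PresN.mono {m k' : ℕ} (h : PresN G m k) (hk : k ≤ k') : PresN G m k' := by
  obtain ⟨f, R, h1, h2⟩ := h
  exact ⟨f, R, h1.trans hk, h2⟩

theorem PresN.congr {G' : Type*} [Group G'] {m : ℕ} (h : PresN G m k) (e : G ≃* G') : PresN G' m k := by
  obtain ⟨f, R, h1, h2, h3, h4⟩ := h
  have he : FreeGroup.lift (fun i => e (f i)) = e.toMonoidHom.comp (FreeGroup.lift f) :=
    FreeGroup.ext_hom _ _ fun i => by simp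
  refine ⟨fun i => e (f i), R, h1, fun r hr => ?_, ?_, fun r hr => h4 r ?_⟩
  · rw [he, MonoidHom.comp_apply, h2 r hr, map_one]
  · rw [he]; exact e.surjective.comp h3
  · rw [he] at hr; exact e.map_eq_one_iff.1 hr

/-- Generators and relators satisfying the universal property. -/
theorem PresN.of_universal {m : ℕ} (f : Fin m → G) (R : List (FreeGroup (Fin m))) (hlen : R.length ≤ k)
    (hR : ∀ r ∈ R, FreeGroup.lift f r = 1) (hs : Function.Surjective (FreeGroup.lift f))
    (hu : ∀ (H : Type) [Group H] (h : Fin m → H), (∀ r ∈ R, FreeGroup.lift h r = 1) →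
      ∃ φ : G →* H, ∀ i, φ (f i) = h i) : PresN G m k := by
  refine ⟨f, R, hlen, hR, hs, fun r hr => ?_⟩
  set N := Subgroup.normalClosure {r | r ∈ R}
  obtain ⟨φ, hφ⟩ := hu (FreeGroup (Fin m) ⧸ N) (fun i => QuotientGroup.mk' N (FreeGroup.of i)) fun x hx => by
    rw [show FreeGroup.lift (fun i => QuotientGroup.mk' N (FreeGroup.of i)) = QuotientGroup.mk' N from
      FreeGroup.ext_hom _ _ fun i => by simp]
    exact (QuotientGroup.eq_one_iff x).2 (Subgroup.subset_normalClosure hx)
  have e : φ.comp (FreeGroup.lift f) = QuotientGroup.mk' N := FreeGroup.ext_hom _ _ fun i => by simp [hφ]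
  exact (QuotientGroup.eq_one_iff r).1 (show QuotientGroup.mk' N r = 1 by
    rw [← e, MonoidHom.comp_apply, hr, map_one])

/-- A presented group, its generators counted. -/
theorem PresN.of_presented {m : ℕ} (rels : Finset (FreeGroup (Fin m))) (hk : rels.card ≤ k)
    (h : Nonempty (PresentedGroup (↑rels : Set (FreeGroup (Fin m))) ≃* G)) : PresN G m k := by
  obtain ⟨e⟩ := h
  refine PresN.congr ?_ e
  refine ⟨PresentedGroup.of, rels.toList, by rwa [Finset.length_toList], fun r hr => ?_, ?_, fun r hr => ?_⟩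
  all_goals have hl : FreeGroup.lift (PresentedGroup.of (rels := (↑rels : Set (FreeGroup (Fin m))))) =
      PresentedGroup.mk _ := FreeGroup.ext_hom _ _ fun i => by simp [PresentedGroup.of]
  · rw [hl]; exact PresentedGroup.one_of_mem (by simpa using hr)
  · rw [hl]; exact PresentedGroup.mk_surjective _
  · rw [hl] at hr
    have hset : {r | r ∈ rels.toList} = (↑rels : Set (FreeGroup (Fin m))) := by ext; simp
    rw [hset]
    exact PresentedGroup.mk_eq_one_iff.1 hr

/-- A group glued from two presented groups along a list of extra relations. -/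
theorem PresN.glue {A B : Type*} [Group A] [Group B] {a b kA kB : ℕ} (hA : PresN A a kA) (hB : PresN B b kB)
    (iA : A →* G) (iB : B →* G) (hgen : iA.range ⊔ iB.range = ⊤) (E : List (Coprod A B))
    (hE : ∀ e ∈ E, Coprod.lift iA iB e = 1)
    (hu : ∀ (H : Type) [Group H] (α : A →* H) (β : B →* H), (∀ e ∈ E, Coprod.lift α β e = 1) →
      ∃ φ : G →* H, φ.comp iA = α ∧ φ.comp iB = β) : PresN G (a + b) (kA + kB + E.length) := by
  obtain ⟨fA, RA, lA, tA, sA, nA⟩ := hA
  obtain ⟨fB, RB, lB, tB, sB, nB⟩ := hB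
  let jA : FreeGroup (Fin a) →* FreeGroup (Fin (a + b)) := FreeGroup.map (Fin.castAdd b)
  let jB : FreeGroup (Fin b) →* FreeGroup (Fin (a + b)) := FreeGroup.map (Fin.natAdd a)
  obtain ⟨sec, hsec⟩ := (coprod_map_surjective sA sB).hasRightInverse
  let word : Coprod A B → FreeGroup (Fin (a + b)) := fun e => Coprod.lift jA jB (sec e)
  have word_eq : ∀ e, Coprod.map (FreeGroup.lift fA) (FreeGroup.lift fB) (sec e) = e := hsec
  let f : Fin (a + b) → G := Fin.append (fun i => iA (fA i)) (fun i => iB (fB i))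
  obtain ⟨kfA, kfB, kfE⟩ := word_eval fA fB jA jB rfl rfl iA iB f (fun i => Fin.append_left _ _ i) (fun i => Fin.append_right _ _ i)
  refine PresN.of_universal f (RA.map jA ++ RB.map jB ++ E.map word) (by simp; omega) (fun r hr => ?_) ?_ ?_
  · simp only [List.mem_append, List.mem_map] at hr
    rcases hr with (⟨r, h, rfl⟩ | ⟨r, h, rfl⟩) | ⟨e, h, rfl⟩
    · rw [kfA, tA r h, map_one]
    · rw [kfB, tB r h, map_one]
    · rw [kfE, word_eq, hE e h]
  · rw [← MonoidHom.range_eq_top, eq_top_iff, ← hgen, sup_le_iff]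
    constructor
    · rintro _ ⟨x, rfl⟩
      obtain ⟨r, rfl⟩ := sA x
      exact ⟨jA r, kfA r⟩
    · rintro _ ⟨x, rfl⟩
      obtain ⟨r, rfl⟩ := sB x
      exact ⟨jB r, kfB r⟩
  · intro H _ h hR
    have hh : ∀ {n : ℕ} (j : Fin n → Fin (a + b)) (r : FreeGroup (Fin n)),
        FreeGroup.lift (fun i => h (j i)) r = FreeGroup.lift h (FreeGroup.map j r) := fun j r =>
      DFunLike.congr_fun (show FreeGroup.lift (fun i => h (j i)) = (FreeGroup.lift h).comp (FreeGroup.map j) from
        FreeGroup.ext_hom _ _ fun i => by simp) r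
    obtain ⟨α, hα⟩ := exists_hom_of fA RA sA nA (fun i => h (Fin.castAdd b i)) fun r hr => (hh _ r).trans <| hR _ (by
      simp only [List.mem_append, List.mem_map]; exact Or.inl (Or.inl ⟨r, hr, rfl⟩))
    obtain ⟨β, hβ⟩ := exists_hom_of fB RB sB nB (fun i => h (Fin.natAdd a i)) fun r hr => (hh _ r).trans <| hR _ (by
      simp only [List.mem_append, List.mem_map]; exact Or.inl (Or.inr ⟨r, hr, rfl⟩))
    obtain ⟨-, -, khE⟩ := word_eval fA fB jA jB rfl rfl α β h (fun i => (hα i).symm) (fun i => (hβ i).symm)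
    obtain ⟨φ, hφA, hφB⟩ := hu H α β fun e he => by
      rw [← word_eq e, ← khE]
      exact hR _ (by simp only [List.mem_append, List.mem_map]; exact Or.inr ⟨e, he, rfl⟩)
    refine ⟨φ, fun i => ?_⟩
    induction i using Fin.addCases with
    | left i => simp [f, ← hα, ← hφA]
    | right i => simp [f, ← hβ, ← hφB]

/-- A quotient by the normal closure of one element costs one relation. -/
theorem PresN.quotient {Q : Type*} [Group Q] {m : ℕ} (h : PresN G m k) (π : G →* Q) (hπ : Function.Surjective π) (z : G)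
    (hz : π z = 1) (hker : π.ker ≤ Subgroup.normalClosure {z}) : PresN Q m (k + 1) := by
  obtain ⟨f, R, h1, h2, h3, h4⟩ := h
  obtain ⟨w, hw⟩ := h3 z
  have he : FreeGroup.lift (fun i => π (f i)) = π.comp (FreeGroup.lift f) := FreeGroup.ext_hom _ _ fun i => by simp
  refine ⟨fun i => π (f i), w :: R, by simpa using h1, fun r hr => ?_, ?_, fun r hr => ?_⟩
  · rw [he, MonoidHom.comp_apply]
    rcases List.mem_cons.1 hr with rfl | hr
    · rw [hw, hz]
    · rw [h2 r hr, map_one]
  · rw [he]; exact hπ.comp h3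
  · rw [he] at hr
    set N := Subgroup.normalClosure {x | x ∈ w :: R}
    have : N.Normal := Subgroup.normalClosure_normal
    have hzN : Subgroup.normalClosure {z} ≤ N.map (FreeGroup.lift f) := by
      have : (N.map (FreeGroup.lift f)).Normal := Subgroup.Normal.map inferInstance _ h3
      refine Subgroup.normalClosure_le_normal ?_
      rintro _ rfl
      exact ⟨w, Subgroup.subset_normalClosure (List.mem_cons_self ..), hw⟩
    obtain ⟨r', hr', e⟩ := hzN (hker hr)
    have hmono : Subgroup.normalClosure {x | x ∈ R} ≤ N :=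
      Subgroup.normalClosure_mono fun x hx => List.mem_cons_of_mem _ hx
    have e2 : r * r'⁻¹ ∈ N := hmono (h4 _ (by rw [map_mul, map_inv, e, mul_inv_cancel]))
    simpa using N.mul_mem e2 hr'


theorem conj_lift {A H : Type*} [Group A] [Group H] (ρ : A →* A) (α : A →* H) (β : FreeGroup (Fin 1) →* H)
    (e : Coprod A A) : Coprod.lift α β (Coprod.lift Coprod.inl
        (((MulAut.conj (Coprod.inr (FreeGroup.of (0 : Fin 1)) : Coprod A (FreeGroup (Fin 1)))).toMonoidHom.comp
          Coprod.inl).comp ρ) e) =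
      Coprod.lift α (((MulAut.conj (β (FreeGroup.of 0))).toMonoidHom.comp α).comp ρ) e :=
  DFunLike.congr_fun (show (Coprod.lift α β).comp (Coprod.lift Coprod.inl
        (((MulAut.conj (Coprod.inr (FreeGroup.of (0 : Fin 1)) : Coprod A (FreeGroup (Fin 1)))).toMonoidHom.comp
          Coprod.inl).comp ρ)) =
      Coprod.lift α (((MulAut.conj (β (FreeGroup.of 0))).toMonoidHom.comp α).comp ρ) from
    Coprod.hom_ext (MonoidHom.ext fun g => by simp) (MonoidHom.ext fun g => by simp)) e

/-- Gluing a presented group to a conjugate of itself costs one generator and one relation more than the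
gluing. -/
theorem PresN.conjugate {A : Type*} [Group A] {a kA : ℕ} (hA : PresN A a kA) (iA iB : A →* G) (x : G)
    (ρ : A →* A) (hx : ∀ g, iB g = x * iA (ρ g) * x⁻¹) (hgen : iA.range ⊔ iB.range = ⊤) (E : List (Coprod A A))
    (hE : ∀ e ∈ E, Coprod.lift iA iB e = 1)
    (hu : ∀ (H : Type) [Group H] (α β : A →* H), (∀ e ∈ E, Coprod.lift α β e = 1) →
      ∃ φ : G →* H, φ.comp iA = α ∧ φ.comp iB = β) : PresN G (a + 1) (kA + E.length + 1) := by
  let y : Coprod A (FreeGroup (Fin 1)) := Coprod.inr (FreeGroup.of 0)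
  let cB : A →* Coprod A (FreeGroup (Fin 1)) := ((MulAut.conj y).toMonoidHom.comp Coprod.inl).comp ρ
  let jB : FreeGroup (Fin 1) →* G := FreeGroup.lift fun _ => x
  have hC : ∀ (α : A →* G) (β : FreeGroup (Fin 1) →* G) (e : Coprod A A),
      Coprod.lift α β (Coprod.lift Coprod.inl cB e) =
        Coprod.lift α (((MulAut.conj (β (FreeGroup.of 0))).toMonoidHom.comp α).comp ρ) e := conj_lift ρ
  have hC' : ∀ (H : Type) [Group H] (α : A →* H) (β : FreeGroup (Fin 1) →* H) (e : Coprod A A),
      Coprod.lift α β (Coprod.lift Coprod.inl cB e) =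
        Coprod.lift α (((MulAut.conj (β (FreeGroup.of 0))).toMonoidHom.comp α).comp ρ) e := fun _ _ => conj_lift ρ
  have hiB : iB = ((MulAut.conj (jB (FreeGroup.of 0))).toMonoidHom.comp iA).comp ρ :=
    MonoidHom.ext fun g => by simp [jB, hx]
  obtain ⟨w, hw⟩ : ∃ w, Coprod.lift iA iB w = x := by
    have : x ∈ (Coprod.lift iA iB).range := by rw [Coprod.range_lift, hgen]; trivial
    exact this
  have hF : PresN (FreeGroup (Fin 1)) 1 0 := by
    refine PresN.of_universal FreeGroup.of [] le_rfl (by simp) ?_ fun H _ h _ => ⟨FreeGroup.lift h, fun i => by simp⟩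
    rw [show FreeGroup.lift (FreeGroup.of : Fin 1 → FreeGroup (Fin 1)) = MonoidHom.id _ from
      FreeGroup.ext_hom _ _ fun i => by simp]
    exact fun z => ⟨z, rfl⟩
  have hjB : Coprod.lift iA jB (Coprod.lift Coprod.inl cB w) = x := by rw [hC, ← hiB, hw]
  refine (PresN.glue hA hF iA jB ?_ (E.map (Coprod.lift Coprod.inl cB) ++ [y * (Coprod.lift Coprod.inl cB w)⁻¹])
    ?_ ?_).mono (by simp [Nat.add_assoc])
  · rw [eq_top_iff, ← hgen, sup_le_iff]
    refine ⟨le_sup_left, ?_⟩
    rintro _ ⟨g, rfl⟩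
    rw [hx]
    have hxm : x ∈ iA.range ⊔ jB.range := Subgroup.mem_sup_right ⟨FreeGroup.of 0, by simp [jB]⟩
    exact mul_mem (mul_mem hxm (Subgroup.mem_sup_left ⟨_, rfl⟩)) (inv_mem hxm)
  · intro e he
    simp only [List.mem_append, List.mem_map, List.mem_singleton] at he
    rcases he with ⟨e, h, rfl⟩ | rfl
    · rw [hC, ← hiB]; exact hE e h
    · rw [map_mul, map_inv, hjB]; simp [y, jB]
  · intro H _ α β hE'
    obtain ⟨φ, hA', hB'⟩ := hu H α (((MulAut.conj (β (FreeGroup.of 0))).toMonoidHom.comp α).comp ρ) fun e he => by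
      rw [← hC' H]; exact hE' _ (List.mem_append_left _ (List.mem_map_of_mem he))
    refine ⟨φ, hA', FreeGroup.ext_hom _ _ fun i => ?_⟩
    obtain rfl : i = 0 := Subsingleton.elim _ _
    have h := hE' _ (List.mem_append_right _ (List.mem_singleton_self _))
    rw [map_mul, map_inv, mul_inv_eq_one, hC' H] at h
    have e : φ (Coprod.lift iA iB w) = Coprod.lift α (((MulAut.conj (β (FreeGroup.of 0))).toMonoidHom.comp α).comp ρ) w := by
      rw [← MonoidHom.comp_apply, Coprod.comp_lift, hA', hB']
    simp only [MonoidHom.comp_apply, jB, FreeGroup.lift_apply_of]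
    rw [← hw, e, ← h]
    simp [y]

/-- A trivial extra generator costs one relation. -/
theorem PresN.pad {m : ℕ} (h : PresN G m k) : PresN G (m + 1) (k + 1) := by
  obtain ⟨f, R, h1, h2, h3, h4⟩ := h
  let j : FreeGroup (Fin m) →* FreeGroup (Fin (m + 1)) := FreeGroup.map Fin.castSucc
  let g : Fin (m + 1) → G := Fin.snoc f 1
  have hj : ∀ r, FreeGroup.lift g (j r) = FreeGroup.lift f r := fun r =>
    DFunLike.congr_fun (show (FreeGroup.lift g).comp j = FreeGroup.lift f from
      FreeGroup.ext_hom _ _ fun i => by simp [j, g]) r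
  refine PresN.of_universal g (FreeGroup.of (Fin.last m) :: R.map j) (by simpa using h1) (fun r hr => ?_) ?_ ?_
  · rcases List.mem_cons.1 hr with rfl | hr
    · simp [g]
    · obtain ⟨r', hr', rfl⟩ := List.mem_map.1 hr
      rw [hj, h2 r' hr']
  · intro x
    obtain ⟨r, rfl⟩ := h3 x
    exact ⟨j r, hj r⟩
  · intro H _ h hR
    obtain ⟨φ, hφ⟩ := exists_hom_of f R h3 h4 (fun i => h i.castSucc) fun r hr => by
      rw [show FreeGroup.lift (fun i => h (Fin.castSucc i)) = (FreeGroup.lift h).comp j from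
        FreeGroup.ext_hom _ _ fun i => by simp [j], MonoidHom.comp_apply]
      exact hR _ (List.mem_cons_of_mem _ (List.mem_map_of_mem hr))
    refine ⟨φ, fun i => ?_⟩
    induction i using Fin.lastCases with
    | last =>
      rw [show g (Fin.last m) = 1 by simp [g], map_one]
      simpa using (hR _ (List.mem_cons_self ..)).symm
    | cast i => rw [show g i.castSucc = f i by simp [g], hφ]

theorem PresN.pads {m : ℕ} (h : PresN G m k) : ∀ d, PresN G (m + d) (k + d)
  | 0 => h
  | d + 1 => (PresN.pads h d).pad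

/-- The presentation as a presented group. -/
theorem PresN.presented {m : ℕ} (h : PresN G m k) : ∃ rels : Finset (FreeGroup (Fin m)), rels.card ≤ k ∧
    Nonempty (PresentedGroup (↑rels : Set (FreeGroup (Fin m))) ≃* G) := by
  classical
  obtain ⟨f, R, h1, h2, h3, h4⟩ := h
  refine ⟨R.toFinset, (List.toFinset_card_le _).trans h1, ?_⟩
  have hset : (↑R.toFinset : Set (FreeGroup (Fin m))) = {r | r ∈ R} := by ext; simp
  have hk : Subgroup.normalClosure (↑R.toFinset : Set (FreeGroup (Fin m))) = (FreeGroup.lift f).ker := by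
    rw [hset]
    exact le_antisymm (Subgroup.normalClosure_le_normal fun r hr => h2 r hr) fun r hr => h4 r hr
  exact ⟨(QuotientGroup.quotientMulEquivOfEq hk).trans
    (QuotientGroup.quotientKerEquivOfSurjective _ h3)⟩

/-- A cyclic centre costs one relation. -/
theorem PresN.mod_center {m : ℕ} (h : PresN G m k) (hc : IsCyclic (Subgroup.center G)) :
    PresN (G ⧸ Subgroup.center G) m (k + 1) := by
  obtain ⟨⟨c, hcm⟩, hc'⟩ := hc.exists_generator
  refine h.quotient (QuotientGroup.mk' (Subgroup.center G)) (QuotientGroup.mk'_surjective _) c ?_ ?_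
  · exact (QuotientGroup.eq_one_iff (N := Subgroup.center G) c).2 hcm
  · rw [QuotientGroup.ker_mk']
    intro x hx
    obtain ⟨i, hi⟩ := Subgroup.mem_zpowers_iff.1 (hc' ⟨x, hx⟩)
    have e : c ^ i = x :=
      (map_zpow (Subgroup.center G).subtype ⟨c, hcm⟩ i).symm.trans (congrArg (Subgroup.center G).subtype hi)
    rw [← e]
    exact Subgroup.zpow_mem (Subgroup.normalClosure ({c} : Set G))
      (Subgroup.subset_normalClosure (Set.mem_singleton c)) i

end Cfsg.Agent.ShortPres.Bound
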