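import Cfsg.Agent.Lib.ShortPres.FourCosets
import Cfsg.Agent.Lib.ShortPres.Tracked
import Cfsg.Agent.Lib.ShortPres.PSLBounded
import Mathlib

/-!
A presentation of the symplectic group of rank two on six generators.
-/

set_option autoImplicit false
set_option linter.unusedSectionVars false
set_option linter.unusedSimpArgs false

namespace Cfsg.Agent.ShortPres.Four

open Matrix Monoid Cfsg.Agent.Classical.GL2 Cfsg.Agent.ShortPres Cfsg.Agent.ShortPres.Bound
  Cfsg.Agent.Forms.SympStd Cfsg.Agent.Classical.Symplectic Cfsg.Agent.SimpleFacts.SpMult.Levels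
open scoped MatrixGroups commutatorElement

universe u w

variable {F : Type u} [Field F] [Fintype F]

local notation "Sp" => symplecticGroup (Fin 2) F
local notation "Mat" => Matrix (Fin 2 ⊕ Fin 2) (Fin 2 ⊕ Fin 2) F

theorem sl_two_gen : ∃ a b : SL(2, F), Subgroup.closure ({a, b} : Set SL(2, F)) = ⊤ := by
  classical
  by_cases h3 : ∀ c : F, c = 0 ∨ c = 1 ∨ c = -1
  · refine ⟨uniSL 1, stEl, (Subgroup.eq_top_iff' _).2 fun g => sl_gen (fun c => ?_) (Subgroup.subset_closure (by simp)) g⟩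
    rcases h3 c with rfl | rfl | rfl
    · rw [uni_zero]; exact one_mem _
    · exact Subgroup.subset_closure (by simp)
    · rw [← uni_inv]; exact inv_mem (Subgroup.subset_closure (by simp))
  push Not at h3
  obtain ⟨t, t0, t1, t2⟩ := h3
  obtain ⟨g, hg⟩ := Linear.two_gen (F := F) (n := 2) le_rfl
  let π := QuotientGroup.mk' (Subgroup.center SL(2, F))
  obtain ⟨a, ha⟩ := QuotientGroup.mk'_surjective (Subgroup.center SL(2, F)) (g 0)
  obtain ⟨b, hb⟩ := QuotientGroup.mk'_surjective (Subgroup.center SL(2, F)) (g 1)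
  set H := Subgroup.closure ({a, b} : Set SL(2, F)) with hH
  have hmap : H.map π = ⊤ := by
    rw [hH, MonoidHom.map_closure, Set.image_pair, ← top_le_iff, ← hg]
    refine Subgroup.closure_mono ?_
    rintro _ ⟨i, rfl⟩
    fin_cases i <;> simp [π, ← ha, ← hb]
  have split : ∀ x : SL(2, F), ∃ y ∈ H, ∃ c ∈ Subgroup.center SL(2, F), x = y * c := fun x => by
    obtain ⟨y, hy, e⟩ : π x ∈ H.map π := by rw [hmap]; trivial
    exact ⟨y, hy, y⁻¹ * x, QuotientGroup.eq.1 e, by group⟩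
  have hcomm : ∀ x y : SL(2, F), ⁅x, y⁆ ∈ H := fun x y => by
    obtain ⟨x', hx', c, hc, rfl⟩ := split x
    obtain ⟨y', hy', d, hd, rfl⟩ := split y
    have hc' := Subgroup.mem_center_iff.1 hc
    have hd' := Subgroup.mem_center_iff.1 hd
    have e : ⁅x' * c, y' * d⁆ = ⁅x', y'⁆ := by
      rw [commutatorElement_def, commutatorElement_def]
      calc x' * c * (y' * d) * (x' * c)⁻¹ * (y' * d)⁻¹
          = x' * (c * (y' * d)) * c⁻¹ * x'⁻¹ * d⁻¹ * y'⁻¹ := by group
        _ = x' * ((y' * d) * c) * c⁻¹ * x'⁻¹ * d⁻¹ * y'⁻¹ := by rw [hc' (y' * d)]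
        _ = x' * y' * (d * x'⁻¹) * d⁻¹ * y'⁻¹ := by group
        _ = x' * y' * (x'⁻¹ * d) * d⁻¹ * y'⁻¹ := by rw [hd' x'⁻¹]
        _ = _ := by group
    rw [e, commutatorElement_def]
    exact mul_mem (mul_mem (mul_mem hx' hy') (inv_mem hx')) (inv_mem hy')
  have huni : ∀ c, uniSL c ∈ H := fun c => by
    have h1 : t ^ 2 - 1 ≠ 0 := fun e => by
      rcases mul_self_eq_one_iff.1 (by linear_combination e) with h | h
      exacts [t1 h, t2 h]
    have e : ⁅shEl (Units.mk0 t t0), uniSL (c / (t ^ 2 - 1))⁆ = uniSL c := by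
      rw [commutatorElement_def, sh_conj_uni, uni_inv, ← uni_add, Units.val_mk0]
      congr 1
      field_simp
      ring
    rw [← e]; exact hcomm _ _
  have hst : stEl ∈ H := by
    have hlow : lowSL (-1 : F) ∈ H := by
      have h1 : t ^ 2 - 1 ≠ 0 := fun e => by
        rcases mul_self_eq_one_iff.1 (by linear_combination e) with h | h
        exacts [t1 h, t2 h]
      have e : ⁅(shEl (Units.mk0 t t0))⁻¹, lowSL (-1 / (t ^ 2 - 1))⁆ = lowSL (-1 : F) := by
        rw [commutatorElement_def, sh_inv, sh_conj_low, Units.val_inv_eq_inv_val, inv_inv, Units.val_mk0,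
          show (lowSL (-1 / (t ^ 2 - 1)) : SL(2, F))⁻¹ = lowSL (-(-1 / (t ^ 2 - 1))) from
            inv_eq_of_mul_eq_one_right (by rw [← low_add, add_neg_cancel, low_zero]), ← low_add]
        congr 1
        field_simp
        ring
      rw [← e]; exact hcomm _ _
    rw [st_eq]
    exact mul_mem (mul_mem (huni 1) hlow) (huni 1)
  exact ⟨a, b, (Subgroup.eq_top_iff' _).2 fun g => sl_gen huni hst g⟩

theorem col_exists (a c : F) (h : a ≠ 0 ∨ c ≠ 0) : ∃ g : SL(2, F), g.1 0 0 = a ∧ g.1 1 0 = c := by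
  by_cases ha : a = 0
  · have hc : c ≠ 0 := h.resolve_left (not_not.2 ha)
    exact ⟨⟨!![a, -c⁻¹; c, 0], by simp [det_fin_two, hc]⟩, rfl, rfl⟩
  · exact ⟨⟨!![a, 0; c, a⁻¹], by simp [det_fin_two, ha]⟩, rfl, rfl⟩

theorem gen_top : (eps (F := F)).range ⊔ (Symp.gl : SL(2, F) →* Sp).range = ⊤ := by
  classical
  set K := (eps (F := F)).range ⊔ (Symp.gl : SL(2, F) →* Sp).range
  have hβ : ∀ g, β eps Symp.gl g ∈ K := fun g => by
    rw [beta_apply]
    exact mul_mem (mul_mem (Subgroup.mem_sup_right ⟨_, rfl⟩) (Subgroup.mem_sup_left ⟨_, rfl⟩))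
      (inv_mem (Subgroup.mem_sup_right ⟨_, rfl⟩))
  have htrans : ∀ v : Fin 2 ⊕ Fin 2 → F, v ≠ 0 → ∃ x ∈ K, (x : Mat) *ᵥ Pi.single (Sum.inr 0) 1 = v := by
    intro v hv
    by_cases hw : v (Sum.inr 1) = 0 ∧ v (Sum.inl 1) = 0
    · obtain ⟨d, hd0, hd1⟩ := col_exists (v (Sum.inr 0)) (v (Sum.inl 0)) (by
        by_contra hne
        push Not at hne
        exact hv (funext fun l => by rcases l with l | l <;> fin_cases l <;> simp [hne.1, hne.2, hw.1, hw.2]))
      refine ⟨eps d, Subgroup.mem_sup_left ⟨d, rfl⟩, ?_⟩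
      rw [coe_eps]
      ext (l | l) <;> fin_cases l <;> simp [epsMat, Matrix.fromBlocks, hd0, hd1, hw.1, hw.2]
    have hw' : v (Sum.inr 1) ≠ 0 ∨ v (Sum.inl 1) ≠ 0 := by tauto
    by_cases hu : v (Sum.inr 0) = 0 ∧ v (Sum.inl 0) = 0
    · obtain ⟨e, he0, he1⟩ := col_exists (-v (Sum.inr 1)) (-v (Sum.inl 1)) (by simpa using hw')
      refine ⟨β eps Symp.gl e * Symp.gl stEl, mul_mem (hβ e) (Subgroup.mem_sup_right ⟨_, rfl⟩), ?_⟩
      rw [Submonoid.coe_mul, coe_beta, coe_gl, coe_stEl, Matrix.fromBlocks_multiply]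
      ext (l | l) <;> fin_cases l <;> simp [Matrix.fromBlocks, Matrix.mul_apply, Fin.sum_univ_two, he0, he1, hu.1, hu.2]
    obtain ⟨e, he0, he1⟩ := col_exists (v (Sum.inr 1)) (v (Sum.inl 1)) hw'
    obtain ⟨d, hd0, hd1⟩ := col_exists (v (Sum.inr 0)) (v (Sum.inl 0)) (by tauto)
    refine ⟨eps d * β eps Symp.gl e * Symp.gl (lowSL 1), mul_mem (mul_mem (Subgroup.mem_sup_left ⟨d, rfl⟩) (hβ e))
      (Subgroup.mem_sup_right ⟨_, rfl⟩), ?_⟩
    rw [Submonoid.coe_mul, Submonoid.coe_mul, coe_eps, coe_beta, coe_gl, coe_lowSL, epsMat,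
      Matrix.fromBlocks_multiply, Matrix.fromBlocks_multiply]
    ext (l | l) <;> fin_cases l <;> simp [Matrix.fromBlocks, Matrix.mul_apply, Fin.sum_univ_two, he0, he1, hd0, hd1]
  rw [Subgroup.eq_top_iff']
  intro A
  have hA : A ∈ fixer (Symp.off (F := F) (Finset.univ : Finset (Fin 2))) :=
    Symp.mem_fx_of_fix fun j hj => absurd (Finset.mem_univ j) hj
  rw [fixer_eq (Symp.good _)] at hA
  refine (Subgroup.closure_le K).2 ?_ hA
  rintro x ⟨w, c, -, hx⟩
  have ex : x = tv w c := Subtype.ext hx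
  rw [ex]
  by_cases hw : w = 0
  · have e : tv w c = (1 : Sp) := sp_ext fun y => by
      rw [tv_mulVec, hw, f_zero_right]
      simp
    rw [e]; exact one_mem _
  obtain ⟨g, hg, hgw⟩ := htrans w hw
  rw [← hgw, ← tv_conj]
  refine mul_mem (mul_mem hg (Subgroup.mem_sup_left ⟨uniSL (-c), sp_ext fun y => ?_⟩)) (inv_mem hg)
  rw [tv_mulVec, coe_eps]
  ext (l | l) <;> fin_cases l <;>
    simp [epsMat, Matrix.fromBlocks, Matrix.mulVec, dotProduct, Fintype.sum_sum_type, Fin.sum_univ_two,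
      coe_uniSL, sympForm_eq] <;> ring

set_option maxHeartbeats 2000000 in
theorem rels_true {z : Fˣ} (hz : ∀ x : Fˣ, x ∈ Subgroup.zpowers z) :
    Rels (eps (F := F)) Symp.gl z := by
  have hi : ((stEl : SL(2, F))⁻¹ : SL(2, F)).1 = !![0, -1; 1, 0] := by
    rw [Matrix.SpecialLinearGroup.coe_inv, coe_stEl, Matrix.adjugate_fin_two]
    simp
  have hu : ((uniSL (1 : F))⁻¹ : SL(2, F)).1 = !![1, -1; 0, 1] := by rw [uni_inv, coe_uniSL]
  have hz' : ((shEl z)⁻¹ : SL(2, F)).1 = !![(z : F)⁻¹, 0; 0, (z : F)] := by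
    rw [sh_inv, coe_shEl, Units.val_inv_eq_inv_val, inv_inv]
  refine ⟨hz, fun x y => Subtype.ext ?_, Subtype.ext ?_, ?_, Subtype.ext ?_, ?_, ?_, ?_⟩
  · rw [Submonoid.coe_mul, Submonoid.coe_mul, coe_eps, coe_beta, epsMat, Matrix.fromBlocks_multiply,
      Matrix.fromBlocks_multiply]
    congr 1 <;> (ext i j; fin_cases i <;> fin_cases j <;> simp [Matrix.mul_apply, Fin.sum_univ_two])
  · rw [Submonoid.coe_mul, coe_eps, coe_beta, coe_gl, epsMat, coe_shEl, coe_shEl, Matrix.fromBlocks_multiply]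
    congr 1 <;> (ext i j; fin_cases i <;> fin_cases j <;> simp [Matrix.mul_apply, Fin.sum_univ_two])
  · rw [← map_inv]
    refine Subtype.ext ?_
    rw [Submonoid.coe_mul, Submonoid.coe_mul, coe_eps, coe_eps, coe_gl, coe_gl, epsMat, epsMat, hz', coe_shEl,
      coe_uniSL, coe_uniSL, Matrix.fromBlocks_multiply, Matrix.fromBlocks_multiply]
    congr 1 <;> (ext i j; fin_cases i <;> fin_cases j <;> simp [Matrix.mul_apply, Fin.sum_univ_two])
  · rw [Submonoid.coe_mul, Submonoid.coe_mul, coe_gl, coe_beta, coe_lowSL, coe_uniSL, Matrix.fromBlocks_multiply,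
      Matrix.fromBlocks_multiply]
    congr 1 <;> (ext i j; fin_cases i <;> fin_cases j <;> simp [Matrix.mul_apply, Fin.sum_univ_two])
  all_goals simp only [← map_inv]
  all_goals refine Subtype.ext ?_
  all_goals simp only [Submonoid.coe_mul, coe_eps, coe_gl, coe_beta, hi, hu, coe_stEl, coe_uniSL, coe_lowSL, epsMat,
    Matrix.fromBlocks_multiply]
  all_goals congr 1 <;> (ext i j; fin_cases i <;> fin_cases j <;> simp [Matrix.mul_apply, Fin.sum_univ_two] <;> ring)

theorem lift_beta {H : Type w} [Group H] (iA iB : SL(2, F) →* Coprod SL(2, F) SL(2, F))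
    (hA : iA = Coprod.inl) (hB : iB = Coprod.inr) (α ψ : SL(2, F) →* H) (x : SL(2, F)) :
    Coprod.lift α ψ (β iA iB x) = β α ψ x := by
  subst hA hB
  simp [beta_apply]

theorem comm_of_gens {H : Type w} [Group H] (α ψ : SL(2, F) →* H) {a b : SL(2, F)}
    (hab : Subgroup.closure ({a, b} : Set SL(2, F)) = ⊤) (c1 : Commute (α a) (β α ψ a))
    (c2 : Commute (α a) (β α ψ b)) (c3 : Commute (α b) (β α ψ a)) (c4 : Commute (α b) (β α ψ b)) (x y : SL(2, F)) :
    Commute (α x) (β α ψ y) := by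
  have hy : ∀ w : H, Commute w (β α ψ a) → Commute w (β α ψ b) → Commute w (β α ψ y) := fun w wa wb => by
    have hy' : y ∈ Subgroup.closure ({a, b} : Set SL(2, F)) := by rw [hab]; trivial
    induction hy' using Subgroup.closure_induction with
    | mem u hu => rcases hu with rfl | rfl <;> assumption
    | one => rw [map_one]; exact Commute.one_right _
    | mul u v _ _ hu hv => rw [map_mul]; exact hu.mul_right hv
    | inv u _ hu => rw [map_inv]; exact hu.inv_right
  have hx' : x ∈ Subgroup.closure ({a, b} : Set SL(2, F)) := by rw [hab]; trivial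
  induction hx' using Subgroup.closure_induction with
  | mem u hu =>
    rcases hu with rfl | rfl
    exacts [hy _ c1 c2, hy _ c3 c4]
  | one => rw [map_one]; exact Commute.one_left _
  | mul u v _ _ hu hv => rw [map_mul]; exact hu.mul_left hv
  | inv u _ hu => rw [map_inv]; exact hu.inv_left

set_option maxHeartbeats 2000000 in
/-- The symplectic group of rank two on six generators. -/
theorem pres : PresN Sp 6 28 := by
  classical
  obtain ⟨z, hz⟩ := IsCyclic.exists_generator (α := Fˣ)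
  obtain ⟨a, b, hab⟩ := sl_two_gen (F := F)
  obtain ⟨⟨R, hR, he⟩, -, -⟩ := Cfsg.Agent.S2286.result (F := F)
  have hsl : PresN SL(2, F) 3 9 := PresN.of_presented R hR he
  let iA : SL(2, F) →* Coprod SL(2, F) SL(2, F) := Coprod.inl
  let iB : SL(2, F) →* Coprod SL(2, F) SL(2, F) := Coprod.inr
  let E : List (Coprod SL(2, F) SL(2, F)) :=
    [⁅iA a, β iA iB a⁆, ⁅iA a, β iA iB b⁆, ⁅iA b, β iA iB a⁆, ⁅iA b, β iA iB b⁆,
      iB (shEl z) * (iA (shEl z) * β iA iB (shEl z⁻¹))⁻¹,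
      iA (shEl z) * iB (uniSL 1) * (iA (shEl z))⁻¹ * (iB (uniSL (z : F)))⁻¹,
      ⁅iB (lowSL 1), β iA iB (uniSL 1)⁆,
      β iA iB (uniSL 1) * iB (uniSL 1) * (β iA iB (uniSL 1))⁻¹ *
        (iB (uniSL 1) * (iA stEl * iB (lowSL 1) * (iA stEl)⁻¹) * iA (uniSL 1))⁻¹,
      iA stEl * iB (lowSL 1) * (iA stEl)⁻¹ * (β iA iB stEl * iB (uniSL 1) * (β iA iB stEl)⁻¹)⁻¹,
      iA stEl * iB (lowSL 1) * (iA stEl)⁻¹ * iB (uniSL 1) *
        (iB (uniSL 1) * (iA stEl * iB (lowSL 1) * (iA stEl)⁻¹) * iA (uniSL 2))⁻¹]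
  have ht := rels_true (F := F) hz
  refine (PresN.glue hsl hsl eps Symp.gl gen_top E ?_ ?_).mono (by simp [E])
  · simp only [E, List.forall_mem_cons, List.not_mem_nil, false_imp_iff, implies_true, and_true, map_mul, map_inv,
      map_commutatorElement, lift_beta iA iB rfl rfl, iA, iB, Coprod.lift_apply_inl, Coprod.lift_apply_inr, mul_inv_eq_one,
      commutatorElement_eq_one_iff_commute]
    exact ⟨ht.comm _ _, ht.comm _ _, ht.comm _ _, ht.comm _ _, ht.hsh, ht.sT, ht.r1, ht.r2, ht.flip, ht.qT⟩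
  · intro H _ α ψ hE
    simp only [E, List.forall_mem_cons, List.not_mem_nil, false_imp_iff, implies_true, and_true, map_mul, map_inv,
      map_commutatorElement, lift_beta iA iB rfl rfl, iA, iB, Coprod.lift_apply_inl, Coprod.lift_apply_inr, mul_inv_eq_one,
      commutatorElement_eq_one_iff_commute] at hE
    obtain ⟨c1, c2, c3, c4, e1, e2, e3, e4, e5, e6⟩ := hE
    have hH : Rels α ψ z := ⟨hz, comm_of_gens α ψ hab c1 c2 c3 c4, e1, e2, e3, e4, e5, e6⟩
    let A : SL(2, F) →* Sp × H := eps.prod α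
    let B : SL(2, F) →* Sp × H := Symp.gl.prod ψ
    have hb : ∀ x, β A B x = (β eps Symp.gl x, β α ψ x) := fun x => rfl
    have hp : Rels A B z := ⟨hz, fun x y => Prod.ext (ht.comm x y).eq (hH.comm x y).eq, Prod.ext ht.hsh e1,
      Prod.ext ht.sT e2, Prod.ext ht.r1.eq e3.eq, Prod.ext ht.r2 e4, Prod.ext ht.flip e5, Prod.ext ht.qT e6⟩
    let Γ : Subgroup (Sp × H) := A.range ⊔ B.range
    let A' : SL(2, F) →* Γ := A.codRestrict Γ fun x => Subgroup.mem_sup_left ⟨x, rfl⟩
    let B' : SL(2, F) →* Γ := B.codRestrict Γ fun x => Subgroup.mem_sup_right ⟨x, rfl⟩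
    have hp' : Rels A' B' z := ⟨hz, fun x y => Subtype.ext (hp.comm x y).eq, Subtype.ext hp.hsh,
      Subtype.ext hp.sT, Subtype.ext hp.r1.eq, Subtype.ext hp.r2, Subtype.ext hp.flip, Subtype.ext hp.qT⟩
    have hgen' : A'.range ⊔ B'.range = ⊤ := by
      apply Subgroup.map_injective (f := Γ.subtype) Subtype.coe_injective
      rw [Subgroup.map_sup, MonoidHom.map_range, MonoidHom.map_range, ← MonoidHom.range_eq_map,
        Subgroup.range_subtype]
      rfl
    let π : Γ →* Sp := (MonoidHom.fst Sp H).comp Γ.subtype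
    have hinj : Function.Injective π := injective hp' hgen' π rfl rfl
    have hsur : Function.Surjective π := by
      rw [← MonoidHom.range_eq_top, ← top_le_iff, ← gen_top, sup_le_iff]
      exact ⟨fun y ⟨x, hx⟩ => ⟨A' x, hx⟩, fun y ⟨x, hx⟩ => ⟨B' x, hx⟩⟩
    let e := MulEquiv.ofBijective π ⟨hinj, hsur⟩
    refine ⟨((MonoidHom.snd Sp H).comp Γ.subtype).comp e.symm.toMonoidHom, MonoidHom.ext fun x => ?_,
      MonoidHom.ext fun x => ?_⟩
    · show (e.symm (eps x)).1.2 = α x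
      rw [show eps x = e (A' x) from rfl, MulEquiv.symm_apply_apply]
      rfl
    · show (e.symm (Symp.gl x)).1.2 = ψ x
      rw [show Symp.gl x = e (B' x) from rfl, MulEquiv.symm_apply_apply]
      rfl

end Cfsg.Agent.ShortPres.Four
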