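import Cfsg.Agent.Lib.ShortPres.SLThree
import Cfsg.Agent.Lib.Chevalley.SingleBond.Linear
import Mathlib

/-!
`SL₃` satisfies the fourteen relations, and is presented by them.
-/

set_option autoImplicit false
set_option linter.unusedSectionVars false

namespace Cfsg.Agent.ShortPres.Three

open Cfsg.Agent.Classical.GL2 Matrix Cfsg.Agent.SimpleFacts.SLnRootLifts Cfsg.Agent.Chevalley.SingleBond
open scoped MatrixGroups commutatorElement

variable {F : Type*} [Field F] {p d : ℕ} [Fact p.Prime] [Algebra (ZMod p) F]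
  (B : Module.Basis (Fin d) (ZMod p) F)

/-- The fourteen relators on four elements. -/
noncomputable def relators {G : Type*} [Group G] (n m : ℕ) (z : Fˣ) (u g t s : G) : List G :=
  [u ^ p,
    (if 3 ≤ d then g ^ m * u * (g ^ m)⁻¹ * (u * (hEl g t * u * (hEl g t)⁻¹))⁻¹
      else if d = 2 ∧ p = 2 then
        ⁅root B u g t s 0 2 ((z : F) ^ 2), root B u g t s 2 1 ((z : F) ^ 2)⁆ *
          (xx B u g t ((z : F) ^ 2 * (z : F) ^ 2))⁻¹
      else u ^ p),
    (hEl g t ^ 1) ^ d * u * ((hEl g t ^ 1) ^ d)⁻¹ * (xx B u g t (((z : F) ^ 2) ^ d))⁻¹,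
    g * u * g⁻¹ * (xx B u g t (z : F))⁻¹,
    ⁅g, t * g * t⁻¹⁆,
    t * t * (hEl g t ^ n)⁻¹,
    hEl g t * t *
      (xx B u g t (z : F) * (t * xx B u g t (z : F)⁻¹ * t⁻¹) * xx B u g t (z : F))⁻¹,
    t * (u * (t * u * t⁻¹) * u)⁻¹,
    s * s * s,
    s * (t * (s * t * s⁻¹))⁻¹,
    g * (hEl g t * (s * hEl g t * s⁻¹))⁻¹,
    ⁅u, root B u g t s 0 2 (1 : F)⁆,
    ⁅u, root B u g t s 2 1 ((z : F) ^ 2)⁆,
    ⁅root B u g t s 0 2 (1 : F), root B u g t s 2 1 ((z : F) ^ 2)⁆ * (xx B u g t ((z : F) ^ 2))⁻¹]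

theorem map_hEl {G H : Type*} [Group G] [Group H] (f : G →* H) (g t : G) :
    f (hEl g t) = hEl (f g) (f t) := by
  simp [hEl]

theorem relators_map {G H : Type*} [Group G] [Group H] (f : G →* H) (n m : ℕ) (z : Fˣ) (u g t s : G) :
    (relators B n m z u g t s).map f = relators B n m z (f u) (f g) (f t) (f s) := by
  simp only [relators, List.map_cons, List.map_nil, apply_ite f, map_mul, map_inv, map_pow,
    map_commutatorElement, map_xx, map_root, map_hEl]

theorem hyp_iff {G : Type*} [Group G] (n m : ℕ) (z : Fˣ) (u g t s : G) :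
    (∀ r ∈ relators B n m z u g t s, r = 1) ↔ Hyp3 B n m z u g t s := by
  simp only [relators, List.forall_mem_cons, List.not_mem_nil, false_imp_iff, implies_true, and_true,
    mul_inv_eq_one, commutatorElement_eq_one_iff_commute]
  constructor
  · rintro ⟨h1, h2, h3, h4, h5, h6, h7, h8, h9, h10, h11, h12, h13, h14⟩
    refine ⟨h1, fun hd => ?_, h3, h4, h5, h6, h7, h8, h9, h10, h11, h12, h13, h14, fun h2' hp => ?_⟩
    · rw [if_pos hd, mul_inv_eq_one] at h2; exact h2
    · rw [if_neg (by omega), if_pos ⟨h2', hp⟩, mul_inv_eq_one] at h2; exact h2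
  · intro H
    refine ⟨H.pow, ?_, H.min, H.gu, H.cgg, H.tt, H.ht, H.tu, H.s3, H.sw, H.rg, H.row, H.col, H.brk⟩
    split_ifs with h1 h2
    · rw [mul_inv_eq_one]; exact H.b h1
    · rw [mul_inv_eq_one]; exact H.brk' h2.1 h2.2
    · exact H.pow

section matrices

/-- The unipotent generator. -/
def uM : SL(3, F) := B01 (uniSL 1)

/-- The torus generator. -/
def gM (z : Fˣ) : SL(3, F) := B01 (shEl z) * B12 (shEl z)

/-- The Weyl generator. -/
def tM : SL(3, F) := B01 stEl

/-- The three-cycle generator. -/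
def sM : SL(3, F) := B01 stEl * B12 stEl

theorem coe_gM (z : Fˣ) :
    (gM z : Matrix (Fin 3) (Fin 3) F) = !![(z : F), 0, 0; 0, 1, 0; 0, 0, (z : F)⁻¹] := by
  rw [gM, Matrix.SpecialLinearGroup.coe_mul, coe_B01, coe_B12, coe_shEl]
  ext i j
  fin_cases i <;> fin_cases j <;> simp [Matrix.mul_apply, Fin.sum_univ_three]

theorem coe_tM : ((tM : SL(3, F)) : Matrix (Fin 3) (Fin 3) F) = !![0, 1, 0; -1, 0, 0; 0, 0, 1] := by
  rw [tM, coe_B01, coe_stEl]
  simp

theorem coe_sM : ((sM : SL(3, F)) : Matrix (Fin 3) (Fin 3) F) = !![0, 0, 1; -1, 0, 0; 0, -1, 0] := by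
  rw [sM, Matrix.SpecialLinearGroup.coe_mul, coe_B01, coe_B12, coe_stEl]
  ext i j
  fin_cases i <;> fin_cases j <;> simp [Matrix.mul_apply, Fin.sum_univ_three]

theorem mat3_ext {g h : SL(3, F)} (H : (g : Matrix (Fin 3) (Fin 3) F) = (h : Matrix (Fin 3) (Fin 3) F)) :
    g = h := by
  ext i j
  exact congrFun (congrFun H i) j

theorem T_blocks (a : F) : T (0 : Fin 3) 1 a = B01 (uniSL a) ∧ T (1 : Fin 3) 0 a = B01 (lowSL a) ∧
    T (1 : Fin 3) 2 a = B12 (uniSL a) ∧ T (2 : Fin 3) 1 a = B12 (lowSL a) := by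
  refine ⟨?_, ?_, ?_, ?_⟩
  all_goals
    apply mat3_ext
    rw [T_coe (by decide)]
    simp only [coe_B01, coe_B12, coe_uniSL, coe_lowSL]
    ext i j
    fin_cases i <;> fin_cases j <;> simp [Matrix.transvection]

theorem hEl_M (z : Fˣ) : hEl (gM z) (tM : SL(3, F)) = B01 (shEl z) := by
  have e : gM z * tM = B01 (shEl z) * (tM * gM z) := by
    apply mat3_ext
    simp only [Matrix.SpecialLinearGroup.coe_mul, coe_gM, coe_tM, coe_B01, coe_shEl]
    ext i j
    fin_cases i <;> fin_cases j <;> simp [Matrix.mul_apply, Fin.sum_univ_three]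
  rw [hEl, show gM z * (tM * gM z * (tM : SL(3, F))⁻¹)⁻¹ = gM z * tM * (tM * gM z)⁻¹ by group, e,
    mul_inv_cancel_right]

variable {B} (z : Fˣ) (hB : ∀ i : Fin d, B i = ((z : F) ^ 2) ^ (i : ℕ))
include hB

theorem xx_M (c : F) : xx B uM (gM z) tM c = B01 (uniSL c) := by
  rw [xx, hEl_M, uM, ← map_elt, elt_sl B 1 z (e := (z : F) ^ 2) (by rw [mul_one]) hB]

theorem root_M (i j : Fin 3) (hij : i ≠ j) (a : F) : root B uM (gM z) tM sM i j a = T i j a := by
  have ht : ∀ c, tM * T (0 : Fin 3) 1 c * (tM : SL(3, F))⁻¹ = T 1 0 (-c) := fun c => by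
    rw [mul_inv_eq_iff_eq_mul]
    apply mat3_ext
    simp only [Matrix.SpecialLinearGroup.coe_mul, T_coe (show (0 : Fin 3) ≠ 1 by decide),
      T_coe (show (1 : Fin 3) ≠ 0 by decide), coe_tM]
    ext i j
    fin_cases i <;> fin_cases j <;> simp [Matrix.mul_apply, Fin.sum_univ_three, Matrix.transvection]
  have hs : ∀ c, sM * T (0 : Fin 3) 1 c * (sM : SL(3, F))⁻¹ = T 1 2 c ∧
      sM * T (1 : Fin 3) 2 c * (sM : SL(3, F))⁻¹ = T 2 0 (-c) ∧
      sM * T (1 : Fin 3) 0 c * (sM : SL(3, F))⁻¹ = T 2 1 c ∧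
      sM * T (2 : Fin 3) 1 c * (sM : SL(3, F))⁻¹ = T 0 2 (-c) := fun c => by
    refine ⟨?_, ?_, ?_, ?_⟩
    all_goals
      rw [mul_inv_eq_iff_eq_mul]
      apply mat3_ext
      rw [Matrix.SpecialLinearGroup.coe_mul, Matrix.SpecialLinearGroup.coe_mul, T_coe (by decide), T_coe (by decide),
        coe_sM]
      ext i j
      fin_cases i <;> fin_cases j <;> simp [Matrix.mul_apply, Fin.sum_univ_three, Matrix.transvection]
  have h2 : ∀ P : SL(3, F), sM * sM * P * ((sM : SL(3, F))⁻¹ * sM⁻¹) = sM * (sM * P * sM⁻¹) * sM⁻¹ :=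
    fun P => by group
  have hx : ∀ c, xx B uM (gM z) tM c = T (0 : Fin 3) 1 c := fun c => by rw [xx_M z hB, (T_blocks c).1]
  fin_cases i <;> fin_cases j <;> simp only [Fin.zero_eta, Fin.mk_one, Fin.reduceFinMk] at hij ⊢ <;>
    first | exact absurd rfl hij | skip
  all_goals simp [root, hx, ht, h2, (hs _).1, (hs _).2.1, (hs _).2.2.1, (hs _).2.2.2]

theorem hyp_M [CharP F p] {n m : ℕ} (hn : (z : F) ^ n = -1) (hm : 3 ≤ d → (z : F) ^ m = (z : F) ^ 2 + 1) :
    Hyp3 B n m z (uM : SL(3, F)) (gM z) tM sM := by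
  have hu : ∀ c, (T (0 : Fin 3) 1 c : SL(3, F)) = B01 (uniSL c) := fun c => (T_blocks c).1
  have hg : ∀ (k : ℕ) c, gM z ^ k * B01 (uniSL c) * (gM z ^ k)⁻¹ = B01 (uniSL ((z : F) ^ k * c)) := by
    intro k
    induction k with
    | zero => intro c; simp
    | succ k ih =>
      intro c
      rw [pow_succ', show gM z * gM z ^ k * B01 (uniSL c) * (gM z * gM z ^ k)⁻¹ =
        gM z * (gM z ^ k * B01 (uniSL c) * (gM z ^ k)⁻¹) * (gM z)⁻¹ by group, ih, mul_inv_eq_iff_eq_mul]
      apply mat3_ext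
      simp only [Matrix.SpecialLinearGroup.coe_mul, coe_gM, coe_B01, coe_uniSL]
      ext i j
      fin_cases i <;> fin_cases j <;> simp [Matrix.mul_apply, Fin.sum_univ_three] <;> ring
  have hshn : ∀ k : ℕ, shEl z ^ k = shEl (z ^ k) := by
    intro k
    induction k with
    | zero =>
      apply mat_ext
      rw [pow_zero, pow_zero, coe_shEl, Matrix.SpecialLinearGroup.coe_one]
      simp [Matrix.one_fin_two]
    | succ k ih =>
      apply mat_ext
      rw [pow_succ, ih, Matrix.SpecialLinearGroup.coe_mul, coe_shEl, coe_shEl, coe_shEl, mul_fin_two]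
      simp [pow_succ, mul_comm]
  have hconj : ∀ c : F, stEl * uniSL c * (stEl : SL(2, F))⁻¹ = lowSL (-c) := fun c => by
    rw [mul_inv_eq_iff_eq_mul]
    refine mat_ext ?_
    rw [Matrix.SpecialLinearGroup.coe_mul, Matrix.SpecialLinearGroup.coe_mul, coe_uniSL, coe_lowSL, coe_stEl,
      mul_fin_two, mul_fin_two]
    simp
  refine ⟨?_, fun hd => ?_, ?_, ?_, ?_, ?_, ?_, ?_, ?_, ?_, ?_, ?_, ?_, ?_, fun _ _ => ?_⟩
  · have h := map_pow ((B01 (F := F)).comp (uniHom F)) (Multiplicative.ofAdd (1 : F)) p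
    rw [← ofAdd_nsmul, nsmul_one, CharP.cast_eq_zero, ofAdd_zero, map_one] at h
    exact h.symm
  · rw [hEl_M, uM, hg, mul_one, hm hd, ← map_inv B01, ← map_mul, ← map_mul, conj_sh, mul_one, ← map_mul,
      uniSL_mul, add_comm]
  · rw [hEl_M, pow_one, uM, ← uM, xx_M z hB, uM, ← map_pow, ← map_inv, ← map_mul, ← map_mul, conj_sh_pow,
      mul_one, ← pow_mul]
  · have h := hg 1 1
    rw [pow_one, pow_one, mul_one] at h
    rw [xx_M z hB, uM, h]
  · have e : tM * gM z * (tM : SL(3, F))⁻¹ = (B01 (shEl z))⁻¹ * gM z := by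
      rw [mul_inv_eq_iff_eq_mul, mul_assoc, eq_inv_mul_iff_mul_eq]
      apply mat3_ext
      simp only [Matrix.SpecialLinearGroup.coe_mul, coe_gM, coe_tM, coe_B01, coe_shEl]
      ext i j
      fin_cases i <;> fin_cases j <;> simp [Matrix.mul_apply, Fin.sum_univ_three]
    rw [e]
    refine Commute.mul_right ?_ (Commute.refl _)
    refine Commute.inv_right ?_
    apply mat3_ext
    simp only [Matrix.SpecialLinearGroup.coe_mul, coe_gM, coe_B01, coe_shEl]
    ext i j
    fin_cases i <;> fin_cases j <;> simp [Matrix.mul_apply, Fin.sum_univ_three]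
  · rw [hEl_M, tM, ← map_mul, ← map_pow, hshn, st_sq]
    congr 1
    apply mat_ext
    rw [Matrix.SpecialLinearGroup.coe_neg, Matrix.SpecialLinearGroup.coe_one, coe_shEl, Units.val_pow_eq_pow_val, hn]
    ext i j
    fin_cases i <;> fin_cases j <;> simp
  · rw [hEl_M, xx_M z hB, xx_M z hB, tM]
    simp only [← map_inv B01, ← map_mul, sh_st_eq, hconj]
  · rw [uM, tM]
    simp only [← map_inv B01, ← map_mul, hconj, ← st_eq]
  · apply mat3_ext
    simp only [Matrix.SpecialLinearGroup.coe_mul, coe_sM, Matrix.SpecialLinearGroup.coe_one]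
    ext i j
    fin_cases i <;> fin_cases j <;> simp [Matrix.mul_apply, Fin.sum_univ_three]
  · have e : sM * tM * (sM : SL(3, F))⁻¹ = B12 stEl := by
      rw [mul_inv_eq_iff_eq_mul]
      apply mat3_ext
      simp only [Matrix.SpecialLinearGroup.coe_mul, coe_sM, coe_tM, coe_B12, coe_stEl]
      ext i j
      fin_cases i <;> fin_cases j <;> simp [Matrix.mul_apply, Fin.sum_univ_three]
    rw [e]; rfl
  · have e : sM * B01 (shEl z) * (sM : SL(3, F))⁻¹ = B12 (shEl z) := by
      rw [mul_inv_eq_iff_eq_mul]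
      apply mat3_ext
      simp only [Matrix.SpecialLinearGroup.coe_mul, coe_sM, coe_B01, coe_B12, coe_shEl]
      ext i j
      fin_cases i <;> fin_cases j <;> simp [Matrix.mul_apply, Fin.sum_univ_three]
    rw [hEl_M, e]; rfl
  · rw [root_M z hB 0 2 (by decide), uM, ← hu]
    exact T_comm (by decide) (by decide) (by decide) (by decide) _ _
  · rw [root_M z hB 2 1 (by decide), uM, ← hu]
    exact T_comm (by decide) (by decide) (by decide) (by decide) _ _
  · rw [root_M z hB 0 2 (by decide), root_M z hB 2 1 (by decide), xx_M z hB, ← hu,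
      T_bracket (by decide) (by decide) (by decide), one_mul]
  · rw [root_M z hB 0 2 (by decide), root_M z hB 2 1 (by decide), xx_M z hB, ← hu,
      T_bracket (by decide) (by decide) (by decide)]

end matrices

variable {B}

/-- The presentation. -/
theorem exists_iso3 [Finite F] [CharP F p] {z : Fˣ} (hz : ∀ x : Fˣ, x ∈ Subgroup.zpowers z)
    (hd3 : Module.finrank (ZMod p) F = d) (hd : 0 < d) (hB : ∀ i : Fin d, B i = ((z : F) ^ 2) ^ (i : ℕ))
    {n m : ℕ} (hn : (z : F) ^ n = -1) (hm : 3 ≤ d → (z : F) ^ m = (z : F) ^ 2 + 1)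
    (R : Set (FreeGroup (Fin 4))) (hR : ∀ r, r ∈ R ↔ r ∈
      relators B n m z (FreeGroup.of (0 : Fin 4)) (FreeGroup.of 1) (FreeGroup.of 2) (FreeGroup.of 3)) :
    Nonempty (PresentedGroup R ≃* SL(3, F)) := by
  classical
  set f : Fin 4 → SL(3, F) := ![uM, gM z, tM, sM] with hf
  have hR' : ∀ r ∈ R, FreeGroup.lift f r = 1 := by
    intro r hr
    have h := (hyp_iff B n m z _ _ _ _).2 (hyp_M z hB hn hm) (FreeGroup.lift f r) ?_
    · exact h
    · have e := relators_map B (FreeGroup.lift f) n m z (FreeGroup.of (0 : Fin 4)) (FreeGroup.of 1)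
        (FreeGroup.of 2) (FreeGroup.of 3)
      simp only [FreeGroup.lift_apply_of, hf, Matrix.cons_val_zero, Matrix.cons_val_one, Matrix.cons_val] at e
      rw [← e]
      exact List.mem_map_of_mem ((hR r).1 hr)
  let σ : PresentedGroup R →* SL(3, F) := PresentedGroup.toGroup hR'
  set u : PresentedGroup R := PresentedGroup.of 0
  set g : PresentedGroup R := PresentedGroup.of 1
  set t : PresentedGroup R := PresentedGroup.of 2
  set s : PresentedGroup R := PresentedGroup.of 3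
  have H : Hyp3 B n m z u g t s := by
    refine (hyp_iff B n m z _ _ _ _).1 fun r hr => ?_
    have e := relators_map B (PresentedGroup.mk R) n m z (FreeGroup.of (0 : Fin 4)) (FreeGroup.of 1)
        (FreeGroup.of 2) (FreeGroup.of 3)
    rw [show relators B n m z u g t s = _ from e.symm] at hr
    obtain ⟨r', hr', rfl⟩ := List.mem_map.1 hr
    exact PresentedGroup.one_of_mem ((hR r').2 hr')
  obtain ⟨Φ, hΦ⟩ := exists_hom3 hz hd3 hd hB hn H
  have hσ : ∀ i, σ (PresentedGroup.of i) = f i := fun i => PresentedGroup.toGroup.of hR'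
  have hone : xx B u g t (1 : F) = u := elt_one hd hB
  have h01 : ∀ c, Φ (B01 (uniSL c)) = xx B u g t c := fun c => by
    rw [← (T_blocks c).1, hΦ 0 1 (by decide)]; rfl
  have h10 : ∀ c, Φ (B01 (lowSL c)) = t * xx B u g t (-c) * t⁻¹ := fun c => by
    rw [← (T_blocks c).2.1, hΦ 1 0 (by decide)]; rfl
  have h12 : ∀ c, Φ (B12 (uniSL c)) = s * xx B u g t c * s⁻¹ := fun c => by
    rw [← (T_blocks c).2.2.1, hΦ 1 2 (by decide)]; rfl
  have h21 : ∀ c, Φ (B12 (lowSL c)) = s * (t * xx B u g t (-c) * t⁻¹) * s⁻¹ := fun c => by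
    rw [← (T_blocks c).2.2.2, hΦ 2 1 (by decide)]; rfl
  have ht : Φ tM = t := by
    rw [tM, st_eq, map_mul, map_mul, map_mul, map_mul, h01, h10, neg_neg, hone]
    exact H.tu.symm
  have ht' : Φ (B12 stEl) = s * t * s⁻¹ := by
    rw [st_eq, map_mul, map_mul, map_mul, map_mul, h12, h21, neg_neg, hone]
    calc s * u * s⁻¹ * (s * (t * u * t⁻¹) * s⁻¹) * (s * u * s⁻¹) = s * (u * (t * u * t⁻¹) * u) * s⁻¹ := by group
      _ = _ := by rw [← H.tu]
  have hh : Φ (B01 (shEl z)) = hEl g t := by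
    have e1 : Φ (B01 (shEl z)) * Φ (B01 stEl) = hEl g t * t := by
      rw [← map_mul, ← map_mul, sh_st_eq, map_mul, map_mul, map_mul, map_mul, h01, h10, neg_neg]
      exact H.ht.symm
    rw [← tM, ht] at e1
    exact mul_right_cancel e1
  have hh' : Φ (B12 (shEl z)) = s * hEl g t * s⁻¹ := by
    have e1 : Φ (B12 (shEl z)) * Φ (B12 stEl) = s * hEl g t * s⁻¹ * (s * t * s⁻¹) := by
      rw [← map_mul, ← map_mul, sh_st_eq, map_mul, map_mul, map_mul, map_mul, h12, h21, neg_neg]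
      calc _ = s * (xx B u g t (z : F) * (t * xx B u g t (z : F)⁻¹ * t⁻¹) * xx B u g t (z : F)) * s⁻¹ := by group
        _ = _ := by rw [← H.ht]; group
    rw [ht'] at e1
    exact mul_right_cancel e1
  have h1 : Φ.comp σ = MonoidHom.id _ := PresentedGroup.ext fun i => by
    rw [MonoidHom.comp_apply, hσ, MonoidHom.id_apply]
    fin_cases i
    · show Φ uM = u
      rw [uM, h01, hone]
    · show Φ (gM z) = g
      rw [gM, map_mul, hh, hh', ← H.rg]
    · exact ht
    · show Φ sM = s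
      rw [sM, map_mul, ht', ← tM, ht, ← H.sw]
  have h2 : σ.comp Φ = MonoidHom.id _ := by
    refine MonoidHom.ext fun x => ?_
    suffices hloc : (σ.comp Φ).eqLocus (MonoidHom.id _) = ⊤ by
      exact (hloc ▸ Subgroup.mem_top x : x ∈ (σ.comp Φ).eqLocus (MonoidHom.id _))
    refine Classical.Linear.eq_top_of_transvection_mem _ fun i j hij c => ?_
    show σ (Φ _) = _
    rw [← T_eq hij, hΦ i j hij, map_root, hσ, hσ, hσ, hσ]
    exact root_M z hB i j hij c
  exact ⟨MonoidHom.toMulEquiv σ Φ h1 h2⟩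

end Cfsg.Agent.ShortPres.Three
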