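import Cfsg.Agent.Lib.ShortPres.AltBounded
import Cfsg.Agent.Lib.ShortPres.SLThreePres
import Cfsg.Agent.Lib.SteinbergSL.Outer
import Mathlib

/-!
The special linear groups of degree at least five have presentations with boundedly many relations:
an alternating group permuting the roots is glued to a copy of the group of degree three.
-/

set_option autoImplicit false

namespace Cfsg.Agent.ShortPres.Linear

open Equiv Bound Monoid Matrix Cfsg.Agent.SimpleFacts.SLnRootLifts Cfsg.Agent.SimpleFacts.SLnCosets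
  Cfsg.Agent.SimpleFacts.SLnSystem
open scoped commutatorElement

variable {F : Type*} [Field F]

/-- The presentation of the group of degree three. -/
theorem pres_three [Fintype F] : Pres (SpecialLinearGroup (Fin 3) F) 14 := by
  classical
  obtain ⟨p, hchar⟩ := CharP.exists F
  have : Fact p.Prime := ⟨CharP.char_is_prime F p⟩
  let : Algebra (ZMod p) F := ZMod.algebra F p
  obtain ⟨z, hz⟩ := IsCyclic.exists_generator (α := Fˣ)
  have hd0 : 0 < Module.finrank (ZMod p) F := Module.finrank_pos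
  have hgood := Cfsg.Agent.ShortPres.sq_generator_good (p := p) hz
  obtain ⟨B, hB⟩ := Cfsg.Agent.ShortPres.exists_basis (p := p) (e := (z : F) ^ 2) hgood
  have hlog : ∀ x : F, x ≠ 0 → ∃ n : ℕ, (z : F) ^ n = x := fun x hx => by
    obtain ⟨n, hn⟩ := mem_powers_iff_mem_zpowers.2 (hz (Units.mk0 x hx))
    exact ⟨n, by rw [← Units.val_pow_eq_pow_val]; exact congrArg Units.val hn⟩
  obtain ⟨n, hn⟩ := hlog (-1) (by simp)
  obtain ⟨m, hm⟩ : ∃ m : ℕ, 3 ≤ Module.finrank (ZMod p) F → (z : F) ^ m = (z : F) ^ 2 + 1 := by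
    by_cases h3 : 3 ≤ Module.finrank (ZMod p) F
    · have hne : (z : F) ^ 2 + 1 ≠ 0 := fun h => hgood 1 one_pos (by omega) (by
        rw [eq_neg_of_add_eq_zero_left h, pow_one]
        exact map_neg (frobenius F p) 1 |>.trans (by rw [map_one]))
      obtain ⟨m, hm⟩ := hlog _ hne
      exact ⟨m, fun _ => hm⟩
    · exact ⟨0, fun h => absurd h h3⟩
  let l := Cfsg.Agent.ShortPres.Three.relators B n m z (FreeGroup.of (0 : Fin 4)) (FreeGroup.of 1)
    (FreeGroup.of 2) (FreeGroup.of 3)
  refine Pres.of_presented l.toFinset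
    ((List.toFinset_card_le _).trans (by simp [l, Cfsg.Agent.ShortPres.Three.relators])) ?_
  exact Cfsg.Agent.ShortPres.Three.exists_iso3 hz rfl hd0 hB hn hm _ fun r => by simp [l]

section scale

variable [Fintype F] {z : Fˣ} (hz : ∀ x : Fˣ, x ∈ Subgroup.zpowers z)
include hz

/-- An additive subgroup containing one and stable under the square of the generator is everything. -/
theorem top_of_scale (S : AddSubgroup F) (h1 : (1 : F) ∈ S) (hs : ∀ c ∈ S, (z : F) * z * c ∈ S) (c : F) :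
    c ∈ S := by
  classical
  obtain ⟨p, hchar⟩ := CharP.exists F
  have : Fact p.Prime := ⟨CharP.char_is_prime F p⟩
  let : Algebra (ZMod p) F := ZMod.algebra F p
  obtain ⟨B, hB⟩ := Cfsg.Agent.ShortPres.exists_basis (p := p) (e := (z : F) ^ 2)
    (Cfsg.Agent.ShortPres.sq_generator_good (p := p) hz)
  have hpow : ∀ i : ℕ, ((z : F) ^ 2) ^ i ∈ S := by
    intro i
    induction i with
    | zero => simpa using h1
    | succ i ih => rw [pow_succ', sq, ← sq]; simpa [sq, mul_assoc] using hs _ ih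
  rw [← B.sum_repr c]
  refine sum_mem fun i _ => ?_
  rw [← ZMod.natCast_zmod_val (B.repr c i), Nat.cast_smul_eq_nsmul, hB]
  exact S.nsmul_mem (hpow _) _

end scale

section words

variable {n : Type*} [Fintype n] [DecidableEq n]

/-- The torus word in the transvections. -/
def hT (i j : n) (z : F) : SpecialLinearGroup n F := hWord (fun a b c => T a b c) i j z

theorem idSys : IsSystem (MonoidHom.id (SpecialLinearGroup n F)) (fun i j a => T i j a) :=
  ⟨fun _ _ _ _ => rfl, fun _ _ h => T_add h, fun _ _ _ _ h1 h2 h3 h4 => T_comm h1 h2 h3 h4,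
    fun _ _ _ h1 h2 h3 a b => T_bracket h3 h1 h2 a b⟩

theorem hT_conj {i j : n} (hij : i ≠ j) {z : F} (hz : z ≠ 0) (c : F) :
    hT i j z * T i j c * (hT i j z)⁻¹ = T i j (z * z * c) := by
  have h := h_monomial (σ := MonoidHom.id (SpecialLinearGroup n F)) (idSys (F := F)) hij hz
  have := h.conj hij c
  simp only [MonoidHom.id_apply, if_true, if_neg hij.symm, Equiv.Perm.one_apply, div_inv_eq_mul] at this
  exact this

theorem T_mem {i j : n} (hij : i ≠ j) [Fintype F] {z : Fˣ} (hz : ∀ x : Fˣ, x ∈ Subgroup.zpowers z) (c : F) :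
    T i j c ∈ Subgroup.closure ({T i j 1, hT i j (z : F)} : Set (SpecialLinearGroup n F)) := by
  set K := Subgroup.closure ({T i j 1, hT i j (z : F)} : Set (SpecialLinearGroup n F))
  let S : AddSubgroup F :=
    { carrier := {c | T i j c ∈ K}
      zero_mem' := by simp [T_zero]
      add_mem' := fun ha hb => by simpa [T_add hij] using K.mul_mem ha hb
      neg_mem' := fun {a} ha => by
        have e : T i j (-a) = (T i j a)⁻¹ := eq_inv_of_mul_eq_one_left (by rw [← T_add hij, neg_add_cancel, T_zero])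
        show T i j (-a) ∈ K
        rw [e]; exact K.inv_mem ha }
  refine top_of_scale hz S (Subgroup.subset_closure (Set.mem_insert _ _)) (fun a ha => ?_) c
  show T i j ((z : F) * z * a) ∈ K
  rw [← hT_conj hij z.ne_zero]
  have hh : hT i j (z : F) ∈ K := Subgroup.subset_closure (by simp)
  exact K.mul_mem (K.mul_mem hh ha) (K.inv_mem hh)

theorem map_T_commute {G : Type*} [Group G] (f : SpecialLinearGroup n F →* G) {i j : n} (hij : i ≠ j) [Fintype F]
    {z : Fˣ} (hz : ∀ x : Fˣ, x ∈ Subgroup.zpowers z) {w : G} (h1 : Commute (f (T i j 1)) w)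
    (h2 : Commute (f (hT i j (z : F))) w) (c : F) : Commute (f (T i j c)) w := by
  have h : Subgroup.closure ({T i j 1, hT i j (z : F)} : Set (SpecialLinearGroup n F)) ≤
      (Subgroup.centralizer ({w} : Set G)).comap f := by
    rw [Subgroup.closure_le]
    rintro _ (rfl | rfl) <;> simp only [SetLike.mem_coe, Subgroup.mem_comap, Subgroup.mem_centralizer_singleton_iff]
    · exact h1.eq
    · exact h2.eq
  exact Subgroup.mem_centralizer_singleton_iff.1 (h (T_mem hij hz c))

theorem T_abelian {i j : n} (hij : i ≠ j) (a b : F) : Commute (T i j a) (T i j b) := by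
  show T i j a * T i j b = T i j b * T i j a
  rw [← T_add hij, ← T_add hij, add_comm]

theorem T_commute {i j k l : n} (hij : i ≠ j) (hkl : k ≠ l) (hil : i ≠ l) (hjk : j ≠ k) (a b : F) :
    Commute (T i j a) (T k l b) :=
  T_comm hij hkl hil hjk a b

/-- The permutation matrices. -/
def pm : alternatingGroup n →* SpecialLinearGroup n F :=
  MonoidHom.mk' (fun g => permEl g.1 (Perm.mem_alternatingGroup.1 g.2)) fun g h => Subtype.ext (by
    show ((g * h : alternatingGroup n).1)⁻¹.permMatrix F = g.1⁻¹.permMatrix F * h.1⁻¹.permMatrix F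
    rw [Subgroup.coe_mul, _root_.mul_inv_rev, Matrix.permMatrix_mul])

theorem pm_conj (g : alternatingGroup n) {i j : n} (hij : i ≠ j) (c : F) :
    pm g * T i j c * (pm g)⁻¹ = T (g.1 i) (g.1 j) c := by
  have := (permEl_monomial (F := F) g.1 (Perm.mem_alternatingGroup.1 g.2)).conj hij c
  rw [div_one, one_mul] at this
  exact this

theorem pm_conj_hT (g : alternatingGroup n) {i j : n} (hij : i ≠ j) (z : F) :
    pm g * hT i j z * (pm g)⁻¹ = hT (g.1 i) (g.1 j) z := by
  simp only [← MulAut.conj_apply, hT, hWord, wWord, map_mul]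
  simp only [MulAut.conj_apply, pm_conj g hij, pm_conj g hij.symm]

theorem monomial_ext {g g' : SpecialLinearGroup n F} {π : Equiv.Perm n} {d d' : n → F}
    (h : IsMonomial g π d) (h' : IsMonomial g' π d') (hd : ∀ k, d k = d' k) : g = g' := by
  refine Subtype.ext (Matrix.ext fun i j => ?_)
  rw [h.2, h'.2, hd]

/-- A three-cycle as a product of transvections. -/
theorem three_word {i j k : n} (hij : i ≠ j) (hjk : j ≠ k) (hik : i ≠ k) (g : alternatingGroup n)
    (hg : g.1 = swap i j * swap j k) :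
    wWord (fun a b c => T a b c) i j (1 : F) * wWord (fun a b c => T a b c) j k 1 * hT i j (-1) = pm g := by
  have hX := idSys (F := F) (n := n)
  have h1 := w_monomial hX hij (one_ne_zero (α := F))
  have h2 := w_monomial hX hjk (one_ne_zero (α := F))
  have h3 := h_monomial hX hij (neg_ne_zero.2 (one_ne_zero (α := F)))
  have h := SteinbergSL.Many.monomial_mul (SteinbergSL.Many.monomial_mul h1 h2) h3
  have h' := permEl_monomial (F := F) g.1 (Perm.mem_alternatingGroup.1 g.2)
  refine monomial_ext (π := swap i j * swap j k * 1) h (d' := fun _ => 1) ?_ fun w => ?_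
  · refine ⟨h'.1, fun a b => ?_⟩
    rw [mul_one, ← hg]; exact h'.2 a b
  · simp only [Perm.one_apply, swap_apply_def]
    split_ifs <;> first | grind | simp_all

end words

section embed

variable {β α : Type*} [Fintype β] [DecidableEq β] [Fintype α] [DecidableEq α] [Finite F]

/-- The group on a set of indices inside a larger one. -/
theorem exists_block (h3 : 3 ≤ Fintype.card β) (e : β ↪ α) :
    ∃ f : SpecialLinearGroup β F →* SpecialLinearGroup α F, ∀ i j, i ≠ j → ∀ c, f (T i j c) = T (e i) (e j) c :=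
  SteinbergSL.Outer.exists_hom h3 (Y := fun i j c => T (e i) (e j) c)
    ⟨fun _ _ h a b => T_add (e.injective.ne h) a b,
      fun _ _ _ _ h1 h2 h3 h4 a b => T_comm (e.injective.ne h1) (e.injective.ne h2) (e.injective.ne h3)
        (e.injective.ne h4) a b,
      fun _ _ _ h1 h2 h3 a b => T_bracket (e.injective.ne h3) (e.injective.ne h1) (e.injective.ne h2) a b⟩

omit [Finite F] in
theorem mem_range_altEmb (f : β ↪ α) (g : alternatingGroup α) (h : ∀ x ∉ Set.range f, (g : Perm α) x = x) :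
    ∃ k, Alt.altEmb f k = g := by
  classical
  have hstab : ∀ x, (g : Perm α) x ∈ Set.range f ↔ x ∈ Set.range f := by
    intro x
    constructor
    · intro hx
      by_contra hn
      rw [h x hn] at hx
      exact hn hx
    · intro hx
      by_contra hn
      exact hn ((g.1.injective (h _ hn)).symm ▸ hx)
  let k : Perm β := (Equiv.ofInjective f f.injective).symm.permCongr ((g : Perm α).subtypePerm hstab)
  have hk : k.viaEmbedding f = (g : Perm α) := by
    refine Equiv.ext fun x => ?_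
    by_cases hx : x ∈ Set.range f
    · obtain ⟨y, rfl⟩ := hx
      rw [Perm.viaEmbedding_apply]
      show f ((Equiv.ofInjective f f.injective).symm _) = _
      rw [Equiv.apply_ofInjective_symm f.injective]
      rfl
    · rw [Perm.viaEmbedding_apply_of_notMem k f x hx, h x hx]
  have hs : k ∈ alternatingGroup β := by
    rw [Perm.mem_alternatingGroup, ← Alt.sign_viaEmbedding f, hk]
    exact Perm.mem_alternatingGroup.1 g.2
  exact ⟨⟨k, hs⟩, Subtype.ext hk⟩

omit [Finite F] in
/-- An even permutation with three prescribed images. -/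
theorem exists_three (h5 : 5 ≤ Fintype.card α) {a b c x y w : α} (hab : a ≠ b) (hac : a ≠ c) (hbc : b ≠ c)
    (hxy : x ≠ y) (hxw : x ≠ w) (hyw : y ≠ w) :
    ∃ g : alternatingGroup α, g.1 a = x ∧ g.1 b = y ∧ g.1 c = w := by
  let σ1 : Perm α := swap a x
  let σ2 : Perm α := swap (σ1 b) y * σ1
  let σ3 : Perm α := swap (σ2 c) w * σ2
  have e1 : σ1 a = x := swap_apply_left a x
  have n1 : x ≠ σ1 b := e1 ▸ σ1.injective.ne hab
  have e2 : σ2 a = x ∧ σ2 b = y := by
    refine ⟨?_, swap_apply_left _ _⟩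
    show swap (σ1 b) y (σ1 a) = x
    rw [e1, swap_apply_of_ne_of_ne n1 hxy]
  have e3 : σ3 a = x ∧ σ3 b = y ∧ σ3 c = w := by
    refine ⟨?_, ?_, swap_apply_left _ _⟩
    · show swap (σ2 c) w (σ2 a) = x
      rw [e2.1, swap_apply_of_ne_of_ne (e2.1 ▸ σ2.injective.ne hac) hxw]
    · show swap (σ2 c) w (σ2 b) = y
      rw [e2.2, swap_apply_of_ne_of_ne (e2.2 ▸ σ2.injective.ne hbc) hyw]
  obtain ⟨p, -, hp⟩ := Finset.exists_mem_notMem_of_card_lt_card (s := ({a, b, c} : Finset α)) (t := Finset.univ)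
    (lt_of_le_of_lt Finset.card_le_three (by rw [Finset.card_univ]; omega))
  obtain ⟨q, -, hq⟩ := Finset.exists_mem_notMem_of_card_lt_card (s := ({a, b, c, p} : Finset α)) (t := Finset.univ)
    (lt_of_le_of_lt Finset.card_le_four (by rw [Finset.card_univ]; omega))
  simp only [Finset.mem_insert, Finset.mem_singleton, not_or] at hp hq
  rcases Int.units_eq_one_or (Perm.sign σ3) with e | e
  · exact ⟨⟨σ3, Perm.mem_alternatingGroup.2 e⟩, e3⟩
  · refine ⟨⟨σ3 * swap p q, Perm.mem_alternatingGroup.2 ?_⟩, ?_, ?_, ?_⟩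
    · rw [map_mul, e, Perm.sign_swap (Ne.symm hq.2.2.2)]; decide
    · show σ3 (swap p q a) = x
      rw [swap_apply_of_ne_of_ne (Ne.symm hp.1) (Ne.symm hq.1), e3.1]
    · show σ3 (swap p q b) = y
      rw [swap_apply_of_ne_of_ne (Ne.symm hp.2.1) (Ne.symm hq.2.1), e3.2.1]
    · show σ3 (swap p q c) = w
      rw [swap_apply_of_ne_of_ne (Ne.symm hp.2.2) (Ne.symm hq.2.2.1), e3.2.2]

omit [Finite F] in
/-- An even permutation with four prescribed images, the last two up to order. -/
theorem exists_four (h5 : 5 ≤ Fintype.card α) {a b c d x y w v : α} (hab : a ≠ b) (hac : a ≠ c) (hbc : b ≠ c)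
    (had : a ≠ d) (hbd : b ≠ d) (hcd : c ≠ d)
    (hxy : x ≠ y) (hxw : x ≠ w) (hyw : y ≠ w) (hxv : x ≠ v) (hyv : y ≠ v) (hwv : w ≠ v) :
    ∃ g : alternatingGroup α, g.1 a = x ∧ g.1 b = y ∧ ((g.1 c = w ∧ g.1 d = v) ∨ (g.1 c = v ∧ g.1 d = w)) := by
  obtain ⟨g, g1, g2, g3⟩ := exists_three h5 hab hac hbc hxy hxw hyw
  let τ : Perm α := swap (g.1 d) v
  have n : ∀ {e e'}, e ≠ d → g.1 e = e' → e' ≠ v → τ e' = e' := fun he hee hev =>
    swap_apply_of_ne_of_ne (hee ▸ g.1.injective.ne he) hev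
  by_cases hd : g.1 d = v
  · exact ⟨g, g1, g2, Or.inl ⟨g3, hd⟩⟩
  refine ⟨⟨swap w v * (τ * g.1), Perm.mem_alternatingGroup.2 ?_⟩, ?_, ?_, Or.inr ⟨?_, ?_⟩⟩
  · rw [map_mul, map_mul, Perm.sign_swap hwv, Perm.sign_swap hd, Perm.mem_alternatingGroup.1 g.2]; decide
  · show swap w v (τ (g.1 a)) = x
    rw [g1, n had g1 hxv, swap_apply_of_ne_of_ne hxw hxv]
  · show swap w v (τ (g.1 b)) = y
    rw [g2, n hbd g2 hyv, swap_apply_of_ne_of_ne hyw hyv]
  · show swap w v (τ (g.1 c)) = v
    rw [g3, n hcd g3 hwv, swap_apply_left]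
  · show swap w v (τ (g.1 d)) = w
    rw [show τ (g.1 d) = v from swap_apply_left _ _, swap_apply_right]

end embed

section main

variable [Fintype F]

set_option maxHeartbeats 1600000 in
theorem pres_sl {n : ℕ} (h5 : 5 ≤ n) : Pres (SpecialLinearGroup (Fin n) F) 62 := by
  classical
  obtain ⟨z, hz⟩ := IsCyclic.exists_generator (α := Fˣ)
  have hcard : 5 ≤ Fintype.card (Fin n) := by simpa using h5
  let e : Fin 3 ↪ Fin n := ⟨fun i => ⟨i, by omega⟩, fun i j h => by simpa [Fin.ext_iff] using h⟩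
  obtain ⟨iB, hiB⟩ := exists_block (F := F) (β := Fin 3) (by simp) e
  let iA : alternatingGroup (Fin n) →* SpecialLinearGroup (Fin n) F := pm
  have he : ∀ {i j : Fin 3}, i ≠ j → e i ≠ e j := fun h => e.injective.ne h
  have hiBh : ∀ i j, i ≠ j → iB (hT i j (z : F)) = hT (e i) (e j) (z : F) := by
    intro i j hij
    simp only [hT, hWord, wWord, map_mul, hiB i j hij, hiB j i hij.symm]
  let p0 : Fin n := ⟨0, by omega⟩
  let p1 : Fin n := ⟨1, by omega⟩
  let p2 : Fin n := ⟨2, by omega⟩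
  let p3 : Fin n := ⟨3, by omega⟩
  let p4 : Fin n := ⟨4, by omega⟩
  have d01 : p0 ≠ p1 := by simp [p0, p1]
  have d02 : p0 ≠ p2 := by simp [p0, p2]
  have d12 : p1 ≠ p2 := by simp [p1, p2]
  have d03 : p0 ≠ p3 := by simp [p0, p3]
  have d13 : p1 ≠ p3 := by simp [p1, p3]
  have d23 : p2 ≠ p3 := by simp [p2, p3]
  obtain ⟨c3, hc0, hc1, hc2, hc3⟩ : ∃ c : alternatingGroup (Fin n),
      c.1 p0 = p1 ∧ c.1 p1 = p2 ∧ c.1 p2 = p0 ∧ c.1 = swap p0 p1 * swap p1 p2 := by
    refine ⟨⟨swap p0 p1 * swap p1 p2, Perm.mem_alternatingGroup.2 (by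
      rw [map_mul, Perm.sign_swap d01, Perm.sign_swap d12]; decide)⟩, ?_, ?_, ?_, rfl⟩ <;>
      simp [swap_apply_def, d01, d01.symm, d02, d02.symm, d12, d12.symm]
  obtain ⟨t1, ht0, ht1, -⟩ := exists_three hcard d01 d02 d12 d01.symm d12 d02
  obtain ⟨ga, ga0, ga1, -⟩ := exists_three hcard d01 d02 d12 d23 d02.symm d03.symm
  obtain ⟨gb, gb0, gb1, -⟩ := exists_three hcard d01 d02 d12 d23.symm d03.symm d02.symm
  let eS : Fin (n - 2) ↪ Fin n := ⟨fun i => ⟨i + 2, by omega⟩, fun i j h => by simpa [Fin.ext_iff] using h⟩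
  obtain ⟨s₁, s₂, hs⟩ := Alt.exists_pair (n := n - 2) (by omega)
  have heS : ∀ g, (Alt.altEmb eS g).1 p0 = p0 ∧ (Alt.altEmb eS g).1 p1 = p1 := fun g =>
    ⟨Alt.altEmb_fix _ _ (by rintro ⟨w, hw⟩; have := congrArg Fin.val hw; change w.1 + 2 = 0 at this; omega),
      Alt.altEmb_fix _ _ (by rintro ⟨w, hw⟩; have := congrArg Fin.val hw; change w.1 + 2 = 1 at this; omega)⟩
  let jA : alternatingGroup (Fin n) →* Coprod (alternatingGroup (Fin n)) (SpecialLinearGroup (Fin 3) F) := Coprod.inl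
  let jB : SpecialLinearGroup (Fin 3) F →* Coprod (alternatingGroup (Fin n)) (SpecialLinearGroup (Fin 3) F) :=
    Coprod.inr
  let act := fun g b b' => jA g * jB b * (jA g)⁻¹ * (jB b')⁻¹
  let com := fun g b b' => ⁅jB b, jA g * jB b' * (jA g)⁻¹⁆
  let u3 : SpecialLinearGroup (Fin 3) F := T 0 1 1
  let h3 : SpecialLinearGroup (Fin 3) F := hT 0 1 (z : F)
  let P3 : SpecialLinearGroup (Fin 3) F :=
    wWord (fun a b c => T a b c) 0 1 (1 : F) * wWord (fun a b c => T a b c) 1 2 1 * hT 0 1 (-1)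
  let E :=
    [⁅jA (Alt.altEmb eS s₁), jB u3⁆, ⁅jA (Alt.altEmb eS s₁), jB h3⁆,
      ⁅jA (Alt.altEmb eS s₂), jB u3⁆, ⁅jA (Alt.altEmb eS s₂), jB h3⁆,
      act t1 u3 (T 1 0 1), act t1 h3 (hT 1 0 (z : F)),
      act c3 u3 (T 1 2 1), act c3 h3 (hT 1 2 (z : F)),
      act c3 (T 1 2 1) (T 2 0 1), act c3 (hT 1 2 (z : F)) (hT 2 0 (z : F)),
      act c3 (T 1 0 1) (T 2 1 1), act c3 (hT 1 0 (z : F)) (hT 2 1 (z : F)),
      act c3 (T 2 1 1) (T 0 2 1), act c3 (hT 2 1 (z : F)) (hT 0 2 (z : F)),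
      com ga u3 u3, com ga u3 h3, com ga h3 u3, com ga h3 h3,
      com gb u3 u3, com gb u3 h3, com gb h3 u3, com gb h3 h3,
      jA c3 * (jB P3)⁻¹]
  have hmove : ∀ g i j, i ≠ j → ∀ x y : Fin 3, x ≠ y → g.1 (e i) = e x → g.1 (e j) = e y →
      iA g * iB (T i j 1) * (iA g)⁻¹ = iB (T x y 1) ∧
      iA g * iB (hT i j (z : F)) * (iA g)⁻¹ = iB (hT x y (z : F)) := by
    intro g i j hij x y hxy hx hy
    rw [hiB i j hij, hiB x y hxy, hiBh i j hij, hiBh x y hxy, ← hx, ← hy]
    exact ⟨pm_conj g (he hij) _, pm_conj_hT g (he hij) _⟩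
  refine (Pres.glue (Alt.pres_alt n) pres_three iA iB ?_ E ?_ ?_).mono (by simp [E])
  · rw [eq_top_iff]
    intro g _
    rw [Classical.Linear.eq_top_of_transvection_mem (iA.range ⊔ iB.range) fun i j hij c => ?_]
    · trivial
    obtain ⟨k, hk, g', hk0, hk1, -⟩ : ∃ k : Fin n, ∃ _ : k ≠ i ∧ k ≠ j, ∃ g : alternatingGroup (Fin n),
        g.1 p0 = i ∧ g.1 p1 = j ∧ g.1 p2 = k := by
      obtain ⟨k, hki, hkj⟩ := Classical.Linear.exists_third (n := Fin n) (by simp; omega) i j
      exact ⟨k, ⟨hki, hkj⟩, exists_three hcard d01 d02 d12 hij hki.symm hkj.symm⟩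
    rw [← T_eq hij, ← hk0, ← hk1, ← pm_conj g' d01,
      show T p0 p1 c = iB (T 0 1 c) from (hiB 0 1 (by decide) c).symm]
    exact mul_mem (mul_mem (Subgroup.mem_sup_left ⟨g', rfl⟩) (Subgroup.mem_sup_right ⟨_, rfl⟩))
      (inv_mem (Subgroup.mem_sup_left ⟨g', rfl⟩))
  · have hfix : ∀ s, Commute (iA (Alt.altEmb eS s)) (iB u3) ∧ Commute (iA (Alt.altEmb eS s)) (iB h3) := by
      intro s
      have h := hmove (Alt.altEmb eS s) 0 1 (by decide) 0 1 (by decide) (heS s).1 (heS s).2
      exact ⟨mul_inv_eq_iff_eq_mul.1 h.1, mul_inv_eq_iff_eq_mul.1 h.2⟩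
    have hcom : ∀ g : alternatingGroup (Fin n), (g.1 p0 = p2 ∧ g.1 p1 = p3 ∨ g.1 p0 = p3 ∧ g.1 p1 = p2) →
        ∀ b b', (b = u3 ∨ b = h3) → (b' = u3 ∨ b' = h3) → Commute (iB b) (iA g * iB b' * (iA g)⁻¹) := by
      intro g hg b b' hb hb'
      have hgd : g.1 p0 ≠ g.1 p1 := g.1.injective.ne d01
      have hd : g.1 p0 ≠ p0 ∧ g.1 p0 ≠ p1 ∧ g.1 p1 ≠ p0 ∧ g.1 p1 ≠ p1 := by
        rcases hg with ⟨h0, h1⟩ | ⟨h0, h1⟩ <;> rw [h0, h1] <;>
          exact ⟨by simp [p0, p2, p3], by simp [p1, p2, p3], by simp [p0, p2, p3], by simp [p1, p2, p3]⟩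
      obtain ⟨n00, n01, n10, n11⟩ := hd
      have eb : ∀ c, Commute (T p0 p1 c : SpecialLinearGroup (Fin n) F) (T (g.1 p0) (g.1 p1) (1 : F)) ∧
          Commute (T p0 p1 c : SpecialLinearGroup (Fin n) F) (T (g.1 p1) (g.1 p0) (1 : F)) := fun c =>
        ⟨T_comm d01 hgd n10.symm n01.symm _ _, T_comm d01 hgd.symm n00.symm n11.symm _ _⟩
      have key : ∀ x y, x ≠ y → (x = p0 ∨ x = p1) → (y = p0 ∨ y = p1) → ∀ c k l, k ≠ l →
          (k = g.1 p0 ∨ k = g.1 p1) → (l = g.1 p0 ∨ l = g.1 p1) → ∀ c',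
          Commute (T x y c : SpecialLinearGroup (Fin n) F) (T k l (c' : F)) := by
        intro x y hxy hx hy c k l hkl hk hl c'
        refine T_comm hxy hkl ?_ ?_ _ _
        · rcases hx with rfl | rfl <;> rcases hl with rfl | rfl <;>
            first | exact n00.symm | exact n01.symm | exact n10.symm | exact n11.symm
        · rcases hy with rfl | rfl <;> rcases hk with rfl | rfl <;>
            first | exact n00.symm | exact n01.symm | exact n10.symm | exact n11.symm
      have hcentral : ∀ (w : SpecialLinearGroup (Fin n) F),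
          (∀ x y, x ≠ y → (x = p0 ∨ x = p1) → (y = p0 ∨ y = p1) → ∀ c, Commute (T x y c) w) →
          Commute (iB b) w := by
        intro w hw
        have hh : ∀ u : F, Commute (wWord (fun a b c => T a b c) p0 p1 u : SpecialLinearGroup (Fin n) F) w :=
          fun u => ((hw p0 p1 d01 (Or.inl rfl) (Or.inr rfl) _).mul_left
            (hw p1 p0 d01.symm (Or.inr rfl) (Or.inl rfl) _)).mul_left (hw p0 p1 d01 (Or.inl rfl) (Or.inr rfl) _)
        rcases hb with rfl | rfl
        · rw [show iB u3 = T p0 p1 1 from hiB 0 1 (by decide) 1]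
          exact hw p0 p1 d01 (Or.inl rfl) (Or.inr rfl) 1
        · rw [show iB h3 = hT p0 p1 (z : F) from hiBh 0 1 (by decide)]
          exact (hh _).mul_left (hh _)
      refine hcentral _ fun x y hxy hx hy c => ?_
      rcases hb' with rfl | rfl
      · rw [show iB u3 = T p0 p1 1 from hiB 0 1 (by decide) 1, pm_conj g d01]
        exact key x y hxy hx hy c _ _ hgd (Or.inl rfl) (Or.inr rfl) _
      · rw [show iB h3 = hT p0 p1 (z : F) from hiBh 0 1 (by decide), pm_conj_hT g d01]
        have k1 := fun c' => key x y hxy hx hy c _ _ hgd (Or.inl rfl) (Or.inr rfl) c'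
        have k2 := fun c' => key x y hxy hx hy c _ _ hgd.symm (Or.inr rfl) (Or.inl rfl) c'
        exact (((k1 _).mul_right (k2 _)).mul_right (k1 _)).mul_right (((k1 _).mul_right (k2 _)).mul_right (k1 _))
    have hP : iA c3 = iB P3 := by
      show pm c3 = _
      rw [← three_word d01 d12 d02 c3 hc3]
      simp only [P3, hT, hWord, wWord, map_mul, hiB (0 : Fin 3) 1 (by decide), hiB (1 : Fin 3) 0 (by decide),
        hiB (1 : Fin 3) 2 (by decide), hiB (2 : Fin 3) 1 (by decide)]
      rfl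
    intro r hr
    simp only [E, act, com, jA, jB, List.mem_cons, List.not_mem_nil, or_false] at hr
    rcases hr with rfl | rfl | rfl | rfl | rfl | rfl | rfl | rfl | rfl | rfl | rfl | rfl | rfl | rfl | rfl | rfl |
      rfl | rfl | rfl | rfl | rfl | rfl | rfl
    all_goals simp only [map_commutatorElement, map_mul, map_inv, Coprod.lift_apply_inl, Coprod.lift_apply_inr,
      mul_inv_eq_one, commutatorElement_eq_one_iff_commute]
    · exact (hfix s₁).1
    · exact (hfix s₁).2
    · exact (hfix s₂).1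
    · exact (hfix s₂).2
    · exact (hmove t1 0 1 (by decide) 1 0 (by decide) ht0 ht1).1
    · exact (hmove t1 0 1 (by decide) 1 0 (by decide) ht0 ht1).2
    · exact (hmove c3 0 1 (by decide) 1 2 (by decide) hc0 hc1).1
    · exact (hmove c3 0 1 (by decide) 1 2 (by decide) hc0 hc1).2
    · exact (hmove c3 1 2 (by decide) 2 0 (by decide) hc1 hc2).1
    · exact (hmove c3 1 2 (by decide) 2 0 (by decide) hc1 hc2).2
    · exact (hmove c3 1 0 (by decide) 2 1 (by decide) hc1 hc0).1
    · exact (hmove c3 1 0 (by decide) 2 1 (by decide) hc1 hc0).2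
    · exact (hmove c3 2 1 (by decide) 0 2 (by decide) hc2 hc1).1
    · exact (hmove c3 2 1 (by decide) 0 2 (by decide) hc2 hc1).2
    · exact hcom ga (Or.inl ⟨ga0, ga1⟩) u3 u3 (Or.inl rfl) (Or.inl rfl)
    · exact hcom ga (Or.inl ⟨ga0, ga1⟩) u3 h3 (Or.inl rfl) (Or.inr rfl)
    · exact hcom ga (Or.inl ⟨ga0, ga1⟩) h3 u3 (Or.inr rfl) (Or.inl rfl)
    · exact hcom ga (Or.inl ⟨ga0, ga1⟩) h3 h3 (Or.inr rfl) (Or.inr rfl)
    · exact hcom gb (Or.inr ⟨gb0, gb1⟩) u3 u3 (Or.inl rfl) (Or.inl rfl)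
    · exact hcom gb (Or.inr ⟨gb0, gb1⟩) u3 h3 (Or.inl rfl) (Or.inr rfl)
    · exact hcom gb (Or.inr ⟨gb0, gb1⟩) h3 u3 (Or.inr rfl) (Or.inl rfl)
    · exact hcom gb (Or.inr ⟨gb0, gb1⟩) h3 h3 (Or.inr rfl) (Or.inr rfl)
    · exact hP
  intro H _ α β hE
  simp only [E, act, com, jA, jB, List.forall_mem_cons, List.not_mem_nil, false_imp_iff, implies_true, and_true,
    map_mul, map_inv, map_commutatorElement, Coprod.lift_apply_inl, Coprod.lift_apply_inr, mul_inv_eq_one,
    commutatorElement_eq_one_iff_commute] at hE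
  obtain ⟨f1, f2, f3, f4, t1u, t1h, cu, ch, cu', ch', cu'', ch'', cu3, ch3, a1, a2, a3, a4, b1, b2, b3, b4, hP⟩ := hE
  have add : ∀ {i j : Fin 3}, i ≠ j → ∀ a b, β (T i j (a + b)) = β (T i j a) * β (T i j b) := fun h a b => by
    rw [T_add h, map_mul]
  have hext : ∀ g i j x y, i ≠ j → x ≠ y → α g * β (T i j 1) * (α g)⁻¹ = β (T x y 1) →
      α g * β (hT i j (z : F)) * (α g)⁻¹ = β (hT x y (z : F)) →
      ∀ c, α g * β (T i j c) * (α g)⁻¹ = β (T x y c) := by
    intro g i j x y hij hxy e1 e2 c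
    let S : AddSubgroup F :=
      { carrier := {c | α g * β (T i j c) * (α g)⁻¹ = β (T x y c)}
        zero_mem' := by simp [T_zero]
        add_mem' := fun {a b} ha hb => by
          show _ = _
          rw [add hij, add hxy, ← ha, ← hb]; group
        neg_mem' := fun {a} ha => by
          have ei : ∀ {i j : Fin 3}, i ≠ j → β (T i j (-a)) = (β (T i j a))⁻¹ := fun h =>
            eq_inv_of_mul_eq_one_left (by rw [← add h, neg_add_cancel, T_zero, map_one])
          show _ = _
          rw [ei hij, ei hxy, ← ha]; group }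
    refine top_of_scale hz S e1 (fun a ha => ?_) c
    show _ = _
    rw [← hT_conj hij z.ne_zero, ← hT_conj hxy z.ne_zero, map_mul, map_mul, map_inv, map_mul, map_mul, map_inv,
      ← e2, ← (show α g * β (T i j a) * (α g)⁻¹ = β (T x y a) from ha)]
    group
  have t01 := hext t1 0 1 1 0 (by decide) (by decide) t1u t1h
  have c01 := hext c3 0 1 1 2 (by decide) (by decide) cu ch
  have c12 := hext c3 1 2 2 0 (by decide) (by decide) cu' ch'
  have c10 := hext c3 1 0 2 1 (by decide) (by decide) cu'' ch''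
  have c21 := hext c3 2 1 0 2 (by decide) (by decide) cu3 ch3
  have hstab : ∀ g : alternatingGroup (Fin n), g.1 p0 = p0 → g.1 p1 = p1 → ∀ c,
      Commute (β (T 0 1 c)) (α g) := by
    intro g g0 g1 c
    obtain ⟨s, rfl⟩ := mem_range_altEmb eS g fun x hx => by
      rcases (show x = p0 ∨ x = p1 by
        by_contra h
        push Not at h
        exact hx ⟨⟨x.1 - 2, by omega⟩, Fin.ext (by
          simp only [p0, p1, ne_eq, Fin.ext_iff] at h
          show x.1 - 2 + 2 = x.1
          omega)⟩) with rfl | rfl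
      · exact g0
      · exact g1
    have hs' : s ∈ Subgroup.closure ({s₁, s₂} : Set (alternatingGroup (Fin (n - 2)))) := hs ▸ Subgroup.mem_top s
    induction hs' using Subgroup.closure_induction with
    | one => simp
    | mul a b _ _ ha hb =>
      simpa using (ha (heS a).1 (heS a).2).mul_right (hb (heS b).1 (heS b).2)
    | inv a _ ha => simpa using (ha (heS a).1 (heS a).2).inv_right
    | mem a ha =>
      rcases ha with rfl | rfl
      · exact map_T_commute β (by decide) hz f1.symm f2.symm c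
      · exact map_T_commute β (by decide) hz f3.symm f4.symm c
  have hex : ∀ i j : Fin n, i ≠ j → ∃ g : alternatingGroup (Fin n), g.1 p0 = i ∧ g.1 p1 = j := by
    intro i j hij
    obtain ⟨k, hki, hkj⟩ := Classical.Linear.exists_third (n := Fin n) (by simp; omega) i j
    obtain ⟨g, h1, h2, -⟩ := exists_three hcard d01 d02 d12 hij hki.symm hkj.symm
    exact ⟨g, h1, h2⟩
  let Y : Fin n → Fin n → F → H := fun i j c =>
    if h : i ≠ j then α (hex i j h).choose * β (T 0 1 c) * (α (hex i j h).choose)⁻¹ else 1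
  have hY : ∀ (g : alternatingGroup (Fin n)) c, Y (g.1 p0) (g.1 p1) c = α g * β (T 0 1 c) * (α g)⁻¹ := by
    intro g c
    have hne := g.1.injective.ne d01
    simp only [Y, dif_pos hne]
    obtain ⟨q0, q1⟩ := (hex _ _ hne).choose_spec
    set q := (hex _ _ hne).choose
    have hfix : ∀ x, q.1 x = g.1 x → (g⁻¹ * q : alternatingGroup (Fin n)).1 x = x := fun x hx => by
      show g.1⁻¹ (q.1 x) = x
      rw [hx]; exact g.1.symm_apply_apply x
    have h := hstab (g⁻¹ * q) (hfix _ q0) (hfix _ q1) c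
    rw [show α q = α g * α (g⁻¹ * q) by rw [← map_mul, mul_inv_cancel_left]]
    calc α g * α (g⁻¹ * q) * β (T 0 1 c) * (α g * α (g⁻¹ * q))⁻¹
        = α g * (α (g⁻¹ * q) * β (T 0 1 c)) * (α (g⁻¹ * q))⁻¹ * (α g)⁻¹ := by group
      _ = _ := by rw [← h.eq]; group
  have hequiv : ∀ (g : alternatingGroup (Fin n)) i j, i ≠ j → ∀ c,
      α g * Y i j c * (α g)⁻¹ = Y (g.1 i) (g.1 j) c := by
    intro g i j hij c
    obtain ⟨k, rfl, rfl⟩ := hex i j hij
    rw [hY k, show g.1 (k.1 p0) = (g * k).1 p0 from rfl, show g.1 (k.1 p1) = (g * k).1 p1 from rfl, hY (g * k),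
      map_mul]
    group
  have Y01 : ∀ c, Y p0 p1 c = β (T 0 1 c) := fun c => by
    have := hY 1 c
    simpa using this
  have Y12 : ∀ c, Y p1 p2 c = β (T 1 2 c) := fun c => by
    rw [← c01, ← Y01, hequiv c3 _ _ d01, hc0, hc1]
  have Y20 : ∀ c, Y p2 p0 c = β (T 2 0 c) := fun c => by
    rw [← c12, ← Y12, hequiv c3 _ _ d12, hc1, hc2]
  have Y10 : ∀ c, Y p1 p0 c = β (T 1 0 c) := fun c => by
    rw [← t01, ← Y01, hequiv t1 _ _ d01, ht0, ht1]
  have Y21 : ∀ c, Y p2 p1 c = β (T 2 1 c) := fun c => by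
    rw [← c10, ← Y10, hequiv c3 _ _ d01.symm, hc1, hc0]
  have Y02 : ∀ c, Y p0 p2 c = β (T 0 2 c) := fun c => by
    rw [← c21, ← Y21, hequiv c3 _ _ d12.symm, hc2, hc1]
  have hW : ∀ g, Commute (β u3) (α g * β u3 * (α g)⁻¹) → Commute (β u3) (α g * β h3 * (α g)⁻¹) →
      Commute (β h3) (α g * β u3 * (α g)⁻¹) → Commute (β h3) (α g * β h3 * (α g)⁻¹) →
      ∀ a b, Commute (β (T 0 1 a)) (α g * β (T 0 1 b) * (α g)⁻¹) := by
    intro g w1 w2 w3 w4 a b
    refine map_T_commute β (by decide) hz ?_ ?_ a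
    all_goals
      refine Commute.symm (map_T_commute ((MulAut.conj (α g)).toMonoidHom.comp β) (by decide) hz ?_ ?_ b)
    · exact w1.symm
    · exact w2.symm
    · exact w3.symm
    · exact w4.symm
  have hrels : SteinbergSL.Outer.Rels Y fun i j => i ≠ j := by
    refine ⟨fun i j hij a b => ?_, fun i j k l hij hkl hil hjk a b => ?_, fun i j k hij hjk hik a b => ?_⟩
    · obtain ⟨g, rfl, rfl⟩ := hex i j hij
      rw [hY, hY, hY, add (show (0 : Fin 3) ≠ 1 by decide)]
      group
    · by_cases hik : i = k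
      · subst hik
        by_cases hjl : j = l
        · subst hjl
          obtain ⟨g, rfl, rfl⟩ := hex i j hij
          rw [hY, hY, Commute.conj_iff]
          exact (T_abelian (by decide) a b).map β
        · obtain ⟨g, rfl, rfl, rfl⟩ := exists_three hcard d01 d02 d12 hij hil hjl
          rw [← hequiv g _ _ d01, ← hequiv g _ _ d02, Commute.conj_iff, Y01, Y02]
          exact (T_commute (by decide) (by decide) (by decide) (by decide) a b).map β
      · by_cases hjl : j = l
        · subst hjl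
          obtain ⟨g, rfl, rfl, rfl⟩ := exists_three hcard d01 d02 d12 hij hik hjk
          rw [← hequiv g _ _ d01, ← hequiv g _ _ d12.symm, Commute.conj_iff, Y01, Y21]
          exact (T_commute (by decide) (by decide) (by decide) (by decide) a b).map β
        · obtain ⟨g, rfl, rfl, h | h⟩ :=
            exists_four hcard d01 d02 d12 d03 d13 d23 hij hik hjk hil hjl hkl
          · rw [← h.1, ← h.2, ← hequiv g _ _ d01, ← hequiv g _ _ d23, Commute.conj_iff, Y01, ← ga0, ← ga1, hY]
            exact hW ga a1 a2 a3 a4 a b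
          · rw [← h.1, ← h.2, ← hequiv g _ _ d01, ← hequiv g _ _ d23.symm, Commute.conj_iff, Y01, ← gb0, ← gb1, hY]
            exact hW gb b1 b2 b3 b4 a b
    · obtain ⟨g, rfl, rfl, rfl⟩ := exists_three hcard d01 d02 d12 hij hik hjk
      rw [← hequiv g _ _ d01, ← hequiv g _ _ d12, ← hequiv g _ _ d02, ← conjugate_commutatorElement, Y01, Y12, Y02,
        ← map_commutatorElement, T_bracket (by decide) (by decide) (by decide)]
  obtain ⟨φ, hφ⟩ := SteinbergSL.Outer.exists_hom (by simp; omega) hrels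
  have hBB : φ.comp iB = β := by
    refine MonoidHom.ext fun x => ?_
    suffices hloc : (φ.comp iB).eqLocus β = ⊤ from
      (hloc ▸ Subgroup.mem_top x : x ∈ (φ.comp iB).eqLocus β)
    refine Classical.Linear.eq_top_of_transvection_mem _ fun i j hij c => ?_
    show φ (iB _) = β _
    rw [← T_eq hij, hiB i j hij, hφ _ _ (he hij)]
    fin_cases i <;> fin_cases j <;> first | exact absurd rfl hij | skip
    exacts [Y01 c, Y02 c, Y10 c, Y12 c, Y20 c, Y21 c]
  refine ⟨φ, ?_, hBB⟩
  have hconj : ∀ g x, α g * φ x * (α g)⁻¹ = φ (iA g * x * (iA g)⁻¹) := by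
    intro g x
    suffices hloc : ((MulAut.conj (α g)).toMonoidHom.comp φ).eqLocus
        (φ.comp (MulAut.conj (iA g)).toMonoidHom) = ⊤ from
      (hloc ▸ Subgroup.mem_top x : x ∈ ((MulAut.conj (α g)).toMonoidHom.comp φ).eqLocus
        (φ.comp (MulAut.conj (iA g)).toMonoidHom))
    refine Classical.Linear.eq_top_of_transvection_mem _ fun i j hij c => ?_
    show α g * φ _ * (α g)⁻¹ = φ (iA g * _ * (iA g)⁻¹)
    rw [← T_eq hij, pm_conj g hij, hφ i j hij, hφ _ _ (g.1.injective.ne hij), hequiv g i j hij]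
  set D := (φ.comp iA).eqLocus α
  have hD : D.Normal := by
    refine ⟨fun x hx g => ?_⟩
    have hx' : φ (iA x) = α x := hx
    show φ (iA (g * x * g⁻¹)) = α (g * x * g⁻¹)
    rw [map_mul iA, map_mul iA, map_inv iA, ← hconj, map_mul α, map_mul α, map_inv α, hx']
  have hmem : c3 ∈ D := by
    show φ (iA c3) = α c3
    rw [hP, ← hBB]
    have hP' : iA c3 = iB P3 := by
      show pm c3 = _
      rw [← three_word d01 d12 d02 c3 hc3]
      simp only [P3, hT, hWord, wWord, map_mul, hiB (0 : Fin 3) 1 (by decide), hiB (1 : Fin 3) 0 (by decide),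
        hiB (1 : Fin 3) 2 (by decide), hiB (2 : Fin 3) 1 (by decide)]
      rfl
    rw [hP']; rfl
  have htop : D = ⊤ := by
    have h3c : Perm.IsThreeCycle c3.1 := by
      rw [hc3, Equiv.swap_comm p0 p1]
      exact Perm.isThreeCycle_swap_mul_swap_same d01.symm d12 d02
    have := h3c.alternating_normalClosure (by simpa using h5)
    rw [eq_top_iff, ← this]
    exact Subgroup.normalClosure_le_normal (by rintro _ rfl; exact hmem)
  exact MonoidHom.ext fun g => (htop ▸ Subgroup.mem_top g : g ∈ D)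

end main

end Cfsg.Agent.ShortPres.Linear
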