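import Cfsg.Agent.Lib.ShortPres.SympBasics
import Cfsg.Agent.Lib.ShortPres.SLBounded
import Cfsg.Agent.Lib.ShortPres.FourPres
import Mathlib

/-!
Embeddings of small symplectic groups, permutations of the pairs, and flips.
-/

set_option autoImplicit false
set_option linter.unusedSectionVars false

namespace Cfsg.Agent.ShortPres.Symp


open Matrix Cfsg.Agent.Forms.SympStd Cfsg.Agent.Classical.Symplectic Cfsg.Agent.SimpleFacts.SpMult.Levels
  Cfsg.Agent.SimpleFacts.SLnRootLifts Cfsg.Agent.SimpleFacts.SLnCosets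

universe u

variable {F : Type u} [Field F] {m k : ℕ}

local notation "Vec" => (Fin m ⊕ Fin m → F)
local notation "Mat" => Matrix (Fin m ⊕ Fin m) (Fin m ⊕ Fin m) F
local notation "Sp" => symplecticGroup (Fin m) F
local notation "f" => Cfsg.sympForm m F

/-- The inclusion of the small space. -/
def incl (e : Fin k ↪ Fin m) : Matrix (Fin m ⊕ Fin m) (Fin k ⊕ Fin k) F :=
  Matrix.of fun a b => if a = Sum.map e e b then 1 else 0

theorem map_inj (e : Fin k ↪ Fin m) : Function.Injective (Sum.map e e) :=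
  Sum.map_injective.2 ⟨e.injective, e.injective⟩

theorem incl_tmul (e : Fin k ↪ Fin m) : (incl (F := F) e)ᵀ * incl (F := F) e = 1 := by
  refine Matrix.ext fun a b => ?_
  simp only [Matrix.mul_apply, incl, Matrix.transpose_apply, Matrix.of_apply, ite_mul, one_mul, zero_mul,
    Finset.sum_ite_eq', Finset.mem_univ, if_true, Matrix.one_apply]
  simp [(map_inj e).eq_iff]

theorem incl_mulVec (e : Fin k ↪ Fin m) (w : Fin k ⊕ Fin k → F) (b : Fin k ⊕ Fin k) :
    (incl (F := F) e *ᵥ w) (Sum.map e e b) = w b := by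
  simp only [incl, Matrix.mulVec, dotProduct, Matrix.of_apply, ite_mul, one_mul, zero_mul, (map_inj e).eq_iff,
    Finset.sum_ite_eq, Finset.mem_univ, if_true]

theorem incl_mulVec_off (e : Fin k ↪ Fin m) (w : Fin k ⊕ Fin k → F) {a : Fin m ⊕ Fin m}
    (ha : a ∉ Set.range (Sum.map e e)) : (incl (F := F) e *ᵥ w) a = 0 := by
  simp only [incl, Matrix.mulVec, dotProduct, Matrix.of_apply, ite_mul, one_mul, zero_mul]
  exact Finset.sum_eq_zero fun b _ => if_neg fun h => ha ⟨b, h.symm⟩

theorem tincl_mulVec (e : Fin k ↪ Fin m) (v : Vec) (b : Fin k ⊕ Fin k) :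
    ((incl (F := F) e)ᵀ *ᵥ v) b = v (Sum.map e e b) := by
  simp [incl, Matrix.mulVec, dotProduct]

theorem J_incl (e : Fin k ↪ Fin m) : Matrix.J (Fin m) F * incl (F := F) e = incl (F := F) e * Matrix.J (Fin k) F := by
  refine Matrix.ext fun a b => ?_
  rcases a with i | i <;> rcases b with j | j <;>
    (rw [Matrix.mul_apply, Matrix.mul_apply]
     simp [Matrix.J, Fintype.sum_sum_type, incl, Matrix.one_apply, neg_mul, mul_neg, Finset.sum_neg_distrib, ite_mul,
       mul_ite]
     try (rw [Finset.sum_eq_single j (fun x _ hx => by simp [hx]) (by simp)]; split_ifs <;> simp_all))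

theorem incl_J (e : Fin k ↪ Fin m) : (incl (F := F) e)ᵀ * Matrix.J (Fin m) F = Matrix.J (Fin k) F * (incl (F := F) e)ᵀ := by
  have h := congrArg Matrix.transpose (J_incl (F := F) e)
  rw [Matrix.transpose_mul, Matrix.transpose_mul, Matrix.J_transpose, Matrix.J_transpose, Matrix.mul_neg,
    Matrix.neg_mul, neg_inj] at h
  exact h

/-- The matrix of the embedded element. -/
def embMat (e : Fin k ↪ Fin m) (g : Matrix (Fin k ⊕ Fin k) (Fin k ⊕ Fin k) F) : Mat :=
  1 + incl (F := F) e * (g - 1) * (incl (F := F) e)ᵀ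

theorem embMat_mem (e : Fin k ↪ Fin m) (g : symplecticGroup (Fin k) F) :
    embMat e g.1 ∈ symplecticGroup (Fin m) F := by
  have hg := SymplecticGroup.mem_iff.1 g.2
  rw [SymplecticGroup.mem_iff, embMat, Matrix.transpose_add, Matrix.transpose_one, Matrix.transpose_mul,
    Matrix.transpose_mul, Matrix.transpose_transpose, Matrix.transpose_sub, Matrix.transpose_one]
  set E := incl (F := F) e
  set D := g.1 - 1
  calc (1 + E * D * Eᵀ) * Matrix.J (Fin m) F * (1 + E * ((g.1ᵀ - 1) * Eᵀ))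
      = Matrix.J (Fin m) F + E * D * (Eᵀ * Matrix.J (Fin m) F) + (Matrix.J (Fin m) F * E) * (g.1ᵀ - 1) * Eᵀ +
          E * D * (Eᵀ * Matrix.J (Fin m) F * E) * (g.1ᵀ - 1) * Eᵀ := by
        simp only [Matrix.mul_add, Matrix.add_mul, Matrix.one_mul, Matrix.mul_one, Matrix.mul_assoc]
        abel
    _ = Matrix.J (Fin m) F +
          E * (D * Matrix.J (Fin k) F + Matrix.J (Fin k) F * (g.1ᵀ - 1) + D * Matrix.J (Fin k) F * (g.1ᵀ - 1)) * Eᵀ := by
        rw [incl_J, J_incl]
        simp only [Matrix.mul_add, Matrix.add_mul, Matrix.mul_assoc]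
        rw [← Matrix.mul_assoc (Eᵀ) E, incl_tmul, Matrix.one_mul]
        abel
    _ = Matrix.J (Fin m) F := by
        rw [show D * Matrix.J (Fin k) F + Matrix.J (Fin k) F * (g.1ᵀ - 1) + D * Matrix.J (Fin k) F * (g.1ᵀ - 1) =
          g.1 * Matrix.J (Fin k) F * g.1ᵀ - Matrix.J (Fin k) F by
            simp only [D, Matrix.sub_mul, Matrix.mul_sub, Matrix.one_mul, Matrix.mul_one]; abel, hg, sub_self,
          Matrix.mul_zero, Matrix.zero_mul, add_zero]

/-- The embedding along an injection of pairs. -/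
def emb (e : Fin k ↪ Fin m) : symplecticGroup (Fin k) F →* symplecticGroup (Fin m) F where
  toFun g := ⟨embMat e g.1, embMat_mem e g⟩
  map_one' := Subtype.ext (by
    show embMat e (1 : Matrix (Fin k ⊕ Fin k) (Fin k ⊕ Fin k) F) = 1
    simp [embMat])
  map_mul' g g' := Subtype.ext (by
    show embMat e (g.1 * g'.1) = embMat e g.1 * embMat e g'.1
    simp only [embMat, Matrix.mul_add, Matrix.add_mul, Matrix.one_mul, Matrix.mul_one]
    rw [show incl (F := F) e * (g.1 - 1) * (incl (F := F) e)ᵀ * (incl (F := F) e * (g'.1 - 1) * (incl (F := F) e)ᵀ) =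
      incl (F := F) e * (g.1 - 1) * ((incl (F := F) e)ᵀ * incl (F := F) e) * (g'.1 - 1) * (incl (F := F) e)ᵀ by simp only [Matrix.mul_assoc],
      incl_tmul, Matrix.mul_one,
      show g.1 * g'.1 - 1 = (g.1 - 1) * (g'.1 - 1) + (g.1 - 1) + (g'.1 - 1) by
        simp only [Matrix.sub_mul, Matrix.mul_sub, Matrix.one_mul, Matrix.mul_one]; abel,
      Matrix.mul_add, Matrix.mul_add, Matrix.add_mul, Matrix.add_mul]
    simp only [Matrix.mul_assoc]
    abel)

theorem coe_emb (e : Fin k ↪ Fin m) (g : symplecticGroup (Fin k) F) : (emb e g : Mat) = embMat e g.1 := rfl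

theorem emb_mulVec (e : Fin k ↪ Fin m) (g : symplecticGroup (Fin k) F) (v : Vec) :
    (emb e g : Mat) *ᵥ v = v + incl (F := F) e *ᵥ ((g : Matrix (Fin k ⊕ Fin k) (Fin k ⊕ Fin k) F) *ᵥ ((incl (F := F) e)ᵀ *ᵥ v) -
      (incl (F := F) e)ᵀ *ᵥ v) := by
  rw [coe_emb, embMat, Matrix.add_mulVec, Matrix.one_mulVec, ← Matrix.mulVec_mulVec, ← Matrix.mulVec_mulVec,
    Matrix.sub_mulVec, Matrix.one_mulVec]

theorem emb_injective (e : Fin k ↪ Fin m) : Function.Injective (emb (F := F) e) := by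
  intro g g' h
  refine Subtype.ext ?_
  have := congrArg (fun A : Sp => (incl (F := F) e)ᵀ * (A : Mat) * incl (F := F) e) h
  have key : ∀ G : Matrix (Fin k ⊕ Fin k) (Fin k ⊕ Fin k) F, (incl (F := F) e)ᵀ * embMat e G * incl (F := F) e = G := fun G => by
    rw [embMat, Matrix.mul_add, Matrix.add_mul, Matrix.mul_one, incl_tmul,
      show (incl (F := F) e)ᵀ * (incl (F := F) e * (G - 1) * (incl (F := F) e)ᵀ) * incl (F := F) e =
        ((incl (F := F) e)ᵀ * incl (F := F) e) * (G - 1) * ((incl (F := F) e)ᵀ * incl (F := F) e) by simp only [Matrix.mul_assoc], incl_tmul,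
      Matrix.one_mul, Matrix.mul_one, add_sub_cancel]
  simp only [coe_emb, key] at this
  exact this

theorem form_incl (e : Fin k ↪ Fin m) (v : Vec) (w : Fin k ⊕ Fin k → F) :
    f v (incl (F := F) e *ᵥ w) = Cfsg.sympForm k F ((incl (F := F) e)ᵀ *ᵥ v) w := by
  rw [sympForm_eq, sympForm_eq]
  refine (Finset.sum_subset (Finset.subset_univ (Finset.univ.map e)) fun a _ ha => ?_).symm.trans ?_
  · simp only [Finset.mem_map, Finset.mem_univ, true_and, not_exists] at ha
    rw [incl_mulVec_off e w (a := Sum.inl a), incl_mulVec_off e w (a := Sum.inr a)]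
    · simp
    all_goals rintro ⟨b | b, hb⟩ <;> simp at hb <;> exact ha b hb
  · rw [Finset.sum_map]
    refine Finset.sum_congr rfl fun b _ => ?_
    rw [tincl_mulVec, tincl_mulVec, show Sum.inl (e b) = Sum.map e e (Sum.inl b) from rfl,
      show Sum.inr (e b) = Sum.map e e (Sum.inr b) from rfl, incl_mulVec, incl_mulVec]

theorem emb_tv (e : Fin k ↪ Fin m) (w : Fin k ⊕ Fin k → F) (c : F) : emb e (tv w c) = tv (incl (F := F) e *ᵥ w) c := by
  refine sp_ext fun v => ?_
  rw [emb_mulVec, tv_mulVec, tv_mulVec, add_sub_cancel_left, Matrix.mulVec_smul, form_incl]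

theorem incl_mem (e : Fin k ↪ Fin m) {s : Finset (Fin k)} {w : Fin k ⊕ Fin k → F} (hw : w ∈ perp (off s)) :
    incl (F := F) e *ᵥ w ∈ perp (off (s.map e)) := by
  refine mem_sp.2 fun a ha => ?_
  by_cases hr : a ∈ Set.range e
  · obtain ⟨b, rfl⟩ := hr
    have hb : b ∉ s := fun h => ha (Finset.mem_map_of_mem e h)
    rw [show Sum.inl (e b) = Sum.map e e (Sum.inl b) from rfl,
      show Sum.inr (e b) = Sum.map e e (Sum.inr b) from rfl, incl_mulVec, incl_mulVec]
    exact mem_sp.1 hw b hb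
  · constructor <;> refine incl_mulVec_off e w ?_ <;> rintro ⟨b | b, hb⟩ <;> simp at hb <;> exact hr ⟨b, hb⟩

/-- The fixers correspond. -/
theorem map_fx (e : Fin k ↪ Fin m) (s : Finset (Fin k)) : (fx (F := F) s).map (emb e) = fx (s.map e) := by
  rw [fx, fx, fixer_eq (good s), fixer_eq (good (s.map e)), MonoidHom.map_closure]
  congr 1
  ext A
  constructor
  · rintro ⟨x, ⟨w, c, hw, hx⟩, rfl⟩
    have ex : x = tv w c := Subtype.ext hx
    rw [ex, emb_tv]
    exact ⟨_, c, incl_mem e hw, rfl⟩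
  · rintro ⟨v, c, hv, hA⟩
    have ex : A = tv v c := Subtype.ext hA
    have hv' : v ∈ perp (off (s.map e)) := hv
    refine ⟨tv ((incl (F := F) e)ᵀ *ᵥ v) c, ⟨_, c, ?_, rfl⟩, ?_⟩
    · show (incl (F := F) e)ᵀ *ᵥ v ∈ perp (off s)
      refine mem_sp.2 fun b hb => ?_
      rw [tincl_mulVec, tincl_mulVec]
      exact mem_sp.1 hv' (e b) fun h => hb ((Finset.mem_map' e).1 h)
    · rw [ex, emb_tv]
      congr 1
      funext a
      by_cases ha : a ∈ Set.range (Sum.map e e)
      · obtain ⟨b, rfl⟩ := ha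
        rw [incl_mulVec, tincl_mulVec]
      · rw [incl_mulVec_off e _ ha]
        rcases a with a | a
        all_goals
          have hna : a ∉ s.map e := fun h => by
            obtain ⟨b, -, rfl⟩ := Finset.mem_map.1 h
            exact ha (by first | exact ⟨Sum.inl b, rfl⟩ | exact ⟨Sum.inr b, rfl⟩)
        exacts [(mem_sp.1 hv' a hna).1.symm, (mem_sp.1 hv' a hna).2.symm]

theorem fx_univ : fx (F := F) (Finset.univ : Finset (Fin m)) = ⊤ :=
  (Subgroup.eq_top_iff' _).2 fun _ => mem_fx_of_fix fun j hj => absurd (Finset.mem_univ j) hj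

/-- The small group is the fixer of the image. -/
noncomputable def embEquiv (e : Fin k ↪ Fin m) : symplecticGroup (Fin k) F ≃* ↥(fx (F := F) (Finset.univ.map e)) :=
  (MonoidHom.ofInjective (emb_injective e)).trans (MulEquiv.subgroupCongr (by
    rw [MonoidHom.range_eq_map, ← fx_univ, map_fx]))

theorem embEquiv_val (e : Fin k ↪ Fin m) (g : symplecticGroup (Fin k) F) : (embEquiv e g).1 = emb e g := rfl

theorem emb_gl_T (e : Fin k ↪ Fin m) {i j : Fin k} (hij : i ≠ j) (c : F) :
    emb e (gl (T i j c)) = gl (T (e i) (e j) c) := by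
  refine sp_ext fun v => ?_
  have hw : Cfsg.sympForm k F (be i) (c • bh j) = 0 := by rw [f_smul_right, f_be]; simp [bh, hij]
  have hw' : f (be (e i)) (c • bh (e j) : Vec) = 0 := by
    rw [f_smul_right, f_be]; simp [bh, e.injective.ne hij]
  have hb : ∀ l : Fin k, incl (F := F) e *ᵥ (be l : Fin k ⊕ Fin k → F) = be (e l) := fun l => by
    funext a
    by_cases ha : a ∈ Set.range (Sum.map e e)
    · obtain ⟨b, rfl⟩ := ha
      rw [incl_mulVec]
      rcases b with b | b <;> simp [be, Pi.single_apply]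
    · rw [incl_mulVec_off e _ ha]
      rcases a with a | a
      · simp [be]
      · simp [be, show a ≠ e l from fun h => ha ⟨Sum.inr l, by simp [h]⟩]
  have hh : ∀ l : Fin k, incl (F := F) e *ᵥ (bh l : Fin k ⊕ Fin k → F) = bh (e l) := fun l => by
    funext a
    by_cases ha : a ∈ Set.range (Sum.map e e)
    · obtain ⟨b, rfl⟩ := ha
      rw [incl_mulVec]
      rcases b with b | b <;> simp [bh, Pi.single_apply]
    · rw [incl_mulVec_off e _ ha]
      rcases a with a | a
      · simp [bh, show a ≠ e l from fun h => ha ⟨Sum.inl l, by simp [h]⟩]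
      · simp [bh]
  rw [emb_mulVec, gl_T_un hij, gl_T_un (e.injective.ne hij), un_mulVec hw, un_mulVec hw', ← hb i, ← hh j,
    ← Matrix.mulVec_smul, form_incl, form_incl]
  simp only [Matrix.mulVec_sub, Matrix.mulVec_add, Matrix.mulVec_smul, zero_mul, sub_zero, add_zero]
  module

/-! ### Flips -/

/-- An element turning a pair over. -/
theorem exists_flip' (a : Fin m) :
    ∃ A : Sp, A ∈ fx {a} ∧ (A : Mat) *ᵥ be a = -bh a ∧ (A : Mat) *ᵥ bh a = be a := by
  obtain ⟨A, hA, h1, h2⟩ := move (pair (F := F) {a} (Finset.mem_singleton_self a))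
    (show Pair (off ({a} : Finset (Fin m))) (-bh a : Vec) (be a) from
      ⟨neg_mem (bh_mem (Finset.mem_singleton_self a)), be_mem (Finset.mem_singleton_self a), by
        rw [f_neg_left, sympForm_swap, f_be_bh, neg_neg]⟩)
  exact ⟨A, hA, h1, h2⟩

theorem flip_T {a b : Fin m} (hab : a ≠ b) {A B : Sp} (hA : A ∈ fx {a}) (hA1 : (A : Mat) *ᵥ be a = -bh a)
    (hB : B ∈ fx {b}) (hB1 : (B : Mat) *ᵥ bh b = be b) (c : F) :
    A * B * gl (T a b c) * (A * B)⁻¹ = gl (T b a (-c)) := by
  have hw : f (-bh a) (c • be b : Vec) = 0 := by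
    rw [f_neg_left, f_smul_right, f_bh]; simp [be, hab]
  have hw' : f (be b) ((-c) • bh a : Vec) = 0 := by
    rw [f_smul_right, f_be]; simp [bh, hab.symm]
  rw [gl_T_un hab, gl_T_un hab.symm, un_conj, Matrix.mulVec_smul, mul_mulVec_sp, mul_mulVec_sp,
    fix_be hB (by simpa using hab), hA1, hB1, fix_be hA (by simpa using hab.symm)]
  refine sp_ext fun x => ?_
  rw [un_mulVec hw, un_mulVec hw']
  simp only [f_neg_right, f_smul_right]
  module

/-- Even permutations move the pairs. -/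
theorem pm_mem (g : alternatingGroup (Fin m)) {s t : Finset (Fin m)} (hst : ∀ a ∈ s, g.1 a ∈ t) {A : Sp}
    (hA : A ∈ fx s) : gl (Linear.pm g) * A * (gl (Linear.pm g))⁻¹ ∈ fx t :=
  gl_conj_mem (permEl_monomial g.1 (Equiv.Perm.mem_alternatingGroup.1 g.2)) hst hA

theorem pm_gl_T (g : alternatingGroup (Fin m)) {i j : Fin m} (hij : i ≠ j) (c : F) :
    gl (Linear.pm g) * gl (T i j c) * (gl (Linear.pm g))⁻¹ = (gl (T (g.1 i) (g.1 j) c) : Sp) := by
  rw [← map_inv, ← map_mul, ← map_mul, Linear.pm_conj g hij]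

end Cfsg.Agent.ShortPres.Symp
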