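import Mathlib
import Cfsg.Agent.Lib.ShortPres.Carmichael
import Cfsg.Agent.Lib.ShortPres.Tracked

/-!
Eight relations for the alternating group of degree a prime plus two.
-/

set_option autoImplicit false

namespace Cfsg.Agent.ShortPres.Alt

open Equiv Bound

section piece

variable {p : ℕ} [Fact p.Prime]

/-- A power with exponent modulo the prime. -/
def pw {H : Type*} [Group H] (a : H) (k : ZMod p) : H := a ^ k.val

theorem pw_add {H : Type*} [Group H] {a : H} (ha : a ^ p = 1) (k l : ZMod p) :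
    pw a (k + l) = pw a k * pw a l := by
  rw [pw, pw, pw, ← pow_add, ZMod.val_add]
  exact (pow_eq_pow_mod (k.val + l.val) ha).symm

theorem pw_natCast {H : Type*} [Group H] {a : H} (ha : a ^ p = 1) (n : ℕ) : pw a (n : ZMod p) = a ^ n := by
  rw [pw, ZMod.val_natCast]
  exact (pow_eq_pow_mod n ha).symm

/-- The shifted copies of the three-cycle. -/
def xi {H : Type*} [Group H] (a x : H) (k : ZMod p) : H := pw a k * x * (pw a k)⁻¹

theorem map_xi {H H' : Type*} [Group H] [Group H'] (f : H →* H') (a x : H) (k : ZMod p) :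
    f (xi a x k) = xi (f a) (f x) k := by simp [xi, pw]

/-- The even permutations of the affine line. -/
theorem sign_shift (hp : p ≠ 2) : Perm.sign (Equiv.addRight (1 : ZMod p)) = 1 := by
  have h : (Equiv.addRight (1 : ZMod p)) ^ p = 1 := by
    have e : ∀ (n : ℕ) (w : ZMod p), ((Equiv.addRight (1 : ZMod p)) ^ n) w = w + n := by
      intro n
      induction n with
      | zero => simp
      | succ n ih => intro w; rw [pow_succ', Perm.mul_apply, ih]; simp [add_assoc]
    ext w; rw [e, ZMod.natCast_self, add_zero, Perm.one_apply]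
  have h2 := congrArg Perm.sign h
  rw [map_pow, map_one] at h2
  rcases Int.units_eq_one_or (Perm.sign (Equiv.addRight (1 : ZMod p))) with e | e
  · exact e
  · rw [e, ((Fact.out : p.Prime).odd_of_ne_two hp).neg_one_pow] at h2
    exact absurd h2 (by decide)

theorem conj_cyc {α : Type*} [DecidableEq α] (π : Perm α) (i u v : α) :
    π * (swap i u * swap u v) * π⁻¹ = swap (π i) (π u) * swap (π u) (π v) := by
  rw [swap_apply_apply, swap_apply_apply]; group

set_option maxHeartbeats 1000000 in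
theorem exists_piece (h5 : 5 ≤ p) : PresN (alternatingGroup (ZMod p ⊕ Fin 2)) 3 8 := by
  classical
  have hpp : p.Prime := Fact.out
  obtain ⟨r, hr⟩ := IsCyclic.exists_generator (α := (ZMod p)ˣ)
  have hord : orderOf r = p - 1 := by
    rw [orderOf_eq_card_of_forall_mem_zpowers hr, Nat.card_eq_fintype_card, ZMod.card_units]
  set R2 : ZMod p := ((r * r : (ZMod p)ˣ) : ZMod p) with hR2
  have hR : R2 ≠ 1 := fun h => by
    have h' : r ^ 2 = 1 := by rw [sq]; exact Units.ext h
    have := Nat.le_of_dvd two_pos (orderOf_dvd_of_pow_eq_one h')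
    omega
  set q := (p - 1) / 2 with hq
  have hq2 : 2 * q = p - 1 := by
    have h2 := (hpp.odd_of_ne_two (by omega))
    obtain ⟨w, hw⟩ := h2
    omega
  set s := ((R2 - 1)⁻¹ : ZMod p).val with hs
  have hs1 : R2 * (s : ZMod p) = (s : ZMod p) + 1 := by
    rw [hs, ZMod.natCast_zmod_val]
    have h := mul_inv_cancel₀ (sub_ne_zero.2 hR)
    linear_combination h
  have hs0 : (s : ZMod p) ≠ 0 := fun h => by simp [h] at hs1
  have huv : (Sum.inr 0 : ZMod p ⊕ Fin 2) ≠ Sum.inr 1 := by simp
  let pt : ZMod p → Rest (Sum.inr 0 : ZMod p ⊕ Fin 2) (Sum.inr 1) := fun k => ⟨Sum.inl k, by simp⟩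
  have hpt : Function.Bijective pt := by
    refine ⟨fun k l h => by simpa [pt] using h, ?_⟩
    rintro ⟨k | i, hi, hi'⟩
    · exact ⟨k, rfl⟩
    · fin_cases i <;> simp at hi hi'
  have hA : Equiv.sumCongr (Equiv.addRight (1 : ZMod p)) (1 : Perm (Fin 2)) ∈ alternatingGroup _ := by
    rw [Perm.mem_alternatingGroup, Perm.sign_sumCongr, map_one, mul_one]
    exact sign_shift (by omega)
  let Mu : (ZMod p)ˣ →* Perm (ZMod p) := MulAction.toPermHom _ _
  have hC : Equiv.sumCongr (Mu (r * r)) (1 : Perm (Fin 2)) ∈ alternatingGroup _ := by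
    rw [Perm.mem_alternatingGroup, Perm.sign_sumCongr, map_one, mul_one, map_mul, map_mul]
    exact Int.units_mul_self _
  let ga : alternatingGroup (ZMod p ⊕ Fin 2) := ⟨_, hA⟩
  let gc : alternatingGroup (ZMod p ⊕ Fin 2) := ⟨_, hC⟩
  let gx := cyc huv (pt 0)
  have ga_pow : ∀ n : ℕ, ((ga ^ n : alternatingGroup (ZMod p ⊕ Fin 2)) : Perm (ZMod p ⊕ Fin 2)) =
      Equiv.sumCongr (Equiv.addRight (n : ZMod p)) 1 := by
    intro n
    induction n with
    | zero => ext w; rcases w with w | w <;> simp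
    | succ n ih =>
      rw [pow_succ', Subgroup.coe_mul, ih]
      ext w; rcases w with w | w <;> simp [ga, add_assoc]
  have gc_pow : ∀ n : ℕ, ((gc ^ n : alternatingGroup (ZMod p ⊕ Fin 2)) : Perm (ZMod p ⊕ Fin 2)) =
      Equiv.sumCongr (Mu ((r * r) ^ n)) 1 := by
    intro n
    induction n with
    | zero => ext w; rcases w with w | w <;> simp
    | succ n ih =>
      rw [pow_succ', Subgroup.coe_mul, ih, pow_succ', map_mul]
      ext w; rcases w with w | w <;> simp [gc]
  have hgxi : ∀ k, xi ga gx k = cyc huv (pt k) := by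
    intro k
    rw [xi, mul_inv_eq_iff_eq_mul]
    refine Subtype.ext ?_
    rw [Subgroup.coe_mul, Subgroup.coe_mul, pw, ga_pow, ZMod.natCast_zmod_val, ← mul_inv_eq_iff_eq_mul]
    show _ * (swap _ _ * swap _ _) * _ = swap _ _ * swap _ _
    rw [conj_cyc]
    simp [pt]
  let gword : FreeGroup (ZMod p) →* alternatingGroup (ZMod p ⊕ Fin 2) := FreeGroup.lift fun k => cyc huv (pt k)
  have hgw : Function.Surjective gword := by
    rw [← MonoidHom.range_eq_top, FreeGroup.range_lift_eq_closure]
    rw [show Set.range (fun k => cyc huv (pt k)) = Set.range (cyc huv) from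
      (hpt.2.range_comp (cyc huv))]
    exact closure_cyc huv
  obtain ⟨wa, hwa⟩ := hgw ga
  obtain ⟨wc, hwc⟩ := hgw gc
  let a : FreeGroup (Fin 3) := FreeGroup.of 0
  let c : FreeGroup (Fin 3) := FreeGroup.of 1
  let x : FreeGroup (Fin 3) := FreeGroup.of 2
  let R : List (FreeGroup (Fin 3)) :=
    [a ^ p * (c ^ q)⁻¹, c * a ^ s * c⁻¹ * (a ^ (s + 1))⁻¹, x ^ 3, c * x * c⁻¹ * x⁻¹,
      (x * xi a x (1 : ZMod p)) ^ 2, (x * xi a x (r : ZMod p)) ^ 2,
      a * (FreeGroup.lift (xi a x : ZMod p → _) wa)⁻¹, c * (FreeGroup.lift (xi a x : ZMod p → _) wc)⁻¹]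
  have heval : ∀ {H : Type} [Group H] (f : Fin 3 → H) (w : FreeGroup (ZMod p)),
      FreeGroup.lift f (FreeGroup.lift (xi (FreeGroup.of (0 : Fin 3)) (FreeGroup.of 2) : ZMod p → _) w) =
        FreeGroup.lift (xi (f 0) (f 2)) w := by
    intro H _ f w
    exact DFunLike.congr_fun (show (FreeGroup.lift f).comp
        (FreeGroup.lift (xi (FreeGroup.of (0 : Fin 3)) (FreeGroup.of 2) : ZMod p → _)) =
      FreeGroup.lift (xi (f 0) (f 2)) from FreeGroup.ext_hom _ _ fun k => by simp [map_xi]) w
  have hg : (xi ga gx : ZMod p → _) = fun k => cyc huv (pt k) := funext hgxi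
  refine PresN.of_universal ![ga, gc, gx] R (by simp [R]) ?_ ?_ ?_
  · intro w hw
    simp only [R, List.mem_cons, List.not_mem_nil, or_false] at hw
    rcases hw with rfl | rfl | rfl | rfl | rfl | rfl | rfl | rfl
    · simp only [map_mul, map_inv, map_pow, a, c, FreeGroup.lift_apply_of, Matrix.cons_val_zero,
        Matrix.cons_val_one]
      rw [mul_inv_eq_one]
      refine Subtype.ext ?_
      rw [ga_pow, gc_pow, ZMod.natCast_self, ← sq, ← pow_mul, hq2, ← hord, pow_orderOf_eq_one, map_one]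
      ext w; rcases w with w | w <;> simp
    · simp only [map_mul, map_inv, map_pow, a, c, FreeGroup.lift_apply_of, Matrix.cons_val_zero,
        Matrix.cons_val_one]
      rw [mul_inv_eq_one, mul_inv_eq_iff_eq_mul]
      refine Subtype.ext ?_
      rw [Subgroup.coe_mul, Subgroup.coe_mul, ga_pow, ga_pow]
      ext w; rcases w with w | w
      · simp [gc, Mu, Units.smul_def]
        simp only [hR2, Units.val_mul] at hs1
        linear_combination hs1
      · simp [gc]
    · simp only [map_pow, x, FreeGroup.lift_apply_of]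
      exact (rels_cyc huv).cube _
    · simp only [map_mul, map_inv, c, x, FreeGroup.lift_apply_of, Matrix.cons_val_one, Matrix.cons_val,
        Matrix.cons_val_zero]
      rw [mul_inv_eq_one, mul_inv_eq_iff_eq_mul]
      refine Subtype.ext ?_
      rw [Subgroup.coe_mul, Subgroup.coe_mul, ← mul_inv_eq_iff_eq_mul]
      show _ * (swap _ _ * swap _ _) * _ = swap _ _ * swap _ _
      rw [conj_cyc]
      simp [gc, pt, Mu, Units.smul_def]
    all_goals simp only [map_mul, map_inv, map_pow, map_xi, heval, a, c, x, FreeGroup.lift_apply_of,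
      Matrix.cons_val_zero, Matrix.cons_val_one, Matrix.cons_val]
    · rw [hgxi 1]; exact (rels_cyc huv).pair _ _ fun h => zero_ne_one (hpt.1 h)
    · rw [hgxi r]; exact (rels_cyc huv).pair _ _ fun h => r.ne_zero (hpt.1 h).symm
    · rw [hg]; show ga * (gword wa)⁻¹ = 1; rw [hwa, mul_inv_cancel]
    · rw [hg]; show gc * (gword wc)⁻¹ = 1; rw [hwc, mul_inv_cancel]
  · rw [← MonoidHom.range_eq_top, eq_top_iff, ← closure_cyc huv, Subgroup.closure_le]
    rintro _ ⟨i, rfl⟩
    obtain ⟨k, rfl⟩ := hpt.2 i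
    rw [← hgxi]
    exact ⟨xi a x k, by rw [map_xi]; simp [a, x]⟩
  · intro H _ h hR'
    simp only [R, List.forall_mem_cons, List.not_mem_nil, false_imp_iff, implies_true, and_true, map_mul, map_inv,
      map_pow, map_xi, heval, a, c, x, FreeGroup.lift_apply_of, mul_inv_eq_one] at hR'
    obtain ⟨h1, h2, h3, h4, h5, h6, h7, h8⟩ := hR'
    set A := h 0
    set C := h 1
    set X := h 2
    have hAp : A ^ p = 1 := by
      have hcA : C * A ^ p * C⁻¹ = A ^ p := by rw [h1, ← pow_succ', pow_succ, mul_inv_cancel_right]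
      have e : (A ^ p) ^ s = (A ^ p) ^ (s + 1) := by
        calc (A ^ p) ^ s = (C * A ^ p * C⁻¹) ^ s := by rw [hcA]
          _ = (C * A ^ s * C⁻¹) ^ p := by rw [conj_pow, conj_pow, ← pow_mul, ← pow_mul, Nat.mul_comm]
          _ = _ := by rw [h2, ← pow_mul, ← pow_mul, Nat.mul_comm]
      rw [pow_succ, left_eq_mul] at e
      exact e
    have hCA : ∀ k : ZMod p, C * pw A k * C⁻¹ = pw A (R2 * k) := by
      intro k
      obtain ⟨j, rfl⟩ : ∃ j : ℕ, (s : ZMod p) * (j : ZMod p) = k := ⟨(k / (s : ZMod p)).val, by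
        rw [show (((k / (s : ZMod p)).val : ℕ) : ZMod p) = k / (s : ZMod p) from ZMod.natCast_zmod_val _,
          mul_div_cancel₀ k hs0]⟩
      rw [← mul_assoc, hs1, ← Nat.cast_one, ← Nat.cast_add, ← Nat.cast_mul, ← Nat.cast_mul, pw_natCast hAp,
        pw_natCast hAp, pow_mul, pow_mul, ← conj_pow, h2]
    have hCx : C * X * C⁻¹ = X := h4
    have hCxi : ∀ k : ZMod p, C * xi A X k * C⁻¹ = xi A X (R2 * k) := fun k => by
      calc C * xi A X k * C⁻¹ = (C * pw A k * C⁻¹) * (C * X * C⁻¹) * (C * pw A k * C⁻¹)⁻¹ := by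
            rw [xi]; group
        _ = _ := by rw [hCA, hCx, xi]
    have hCn : ∀ (n : ℕ) (k : ZMod p), C ^ n * xi A X k * (C ^ n)⁻¹ = xi A X (R2 ^ n * k) := by
      intro n
      induction n with
      | zero => intro k; simp
      | succ n ih =>
        intro k
        rw [pow_succ', show C * C ^ n * xi A X k * (C * C ^ n)⁻¹ = C * (C ^ n * xi A X k * (C ^ n)⁻¹) * C⁻¹ by group,
          ih, hCxi, pow_succ', mul_assoc]
    have hxi0 : xi A X (0 : ZMod p) = X := by simp [xi, pw]
    have hshift : ∀ i k : ZMod p, pw A i * xi A X k * (pw A i)⁻¹ = xi A X (i + k) := fun i k => by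
      simp only [xi, pw_add hAp]; group
    have hpair0 : ∀ d : ZMod p, d ≠ 0 → (X * xi A X d) ^ 2 = 1 := by
      intro d hd
      obtain ⟨n, hn⟩ := mem_powers_iff_mem_zpowers.2 (hr (Units.mk0 d hd))
      have hd' : d = (r : ZMod p) ^ n := by
        rw [← Units.val_pow_eq_pow_val]; exact (congrArg Units.val hn).symm
      have hconj : ∀ (m : ℕ) (e : ZMod p), (X * xi A X e) ^ 2 = 1 → (X * xi A X (R2 ^ m * e)) ^ 2 = 1 := by
        intro m e he
        have := congrArg (fun g => C ^ m * g * (C ^ m)⁻¹) he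
        simp only [mul_one, mul_inv_cancel] at this
        rw [← conj_pow, show C ^ m * (X * xi A X e) * (C ^ m)⁻¹ =
          (C ^ m * xi A X 0 * (C ^ m)⁻¹) * (C ^ m * xi A X e * (C ^ m)⁻¹) by rw [hxi0]; group, hCn, hCn,
          mul_zero, hxi0] at this
        exact this
      rcases Nat.even_or_odd' n with ⟨m, rfl | rfl⟩
      · have := hconj m 1 h5
        rwa [mul_one, hR2, Units.val_mul, ← sq, ← pow_mul, ← hd'] at this
      · have := hconj m _ h6
        rwa [hR2, Units.val_mul, ← sq, ← pow_mul, ← pow_succ, ← hd'] at this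
    obtain ⟨e, he⟩ : ∃ e : Rest (Sum.inr 0 : ZMod p ⊕ Fin 2) (Sum.inr 1) → ZMod p, ∀ k, e (pt k) = k :=
      ⟨(Equiv.ofBijective pt hpt).symm, fun k => (Equiv.ofBijective pt hpt).symm_apply_apply k⟩
    have hcube : X ^ 3 = 1 := h3
    have hx : Rels fun i => xi A X (e i) := by
      refine ⟨fun i => ?_, fun i j hij => ?_⟩
      · show (pw A (e i) * X * (pw A (e i))⁻¹) ^ 3 = 1
        rw [conj_pow, hcube, mul_one, mul_inv_cancel]
      · have hne : e i ≠ e j := fun h => hij (by
          obtain ⟨ki, rfl⟩ := hpt.2 i; obtain ⟨kj, rfl⟩ := hpt.2 j; rw [he, he] at h; rw [h])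
        have := congrArg (fun g => pw A (e i) * g * (pw A (e i))⁻¹) (hpair0 (e j - e i) (sub_ne_zero.2 hne.symm))
        simp only [mul_one, mul_inv_cancel] at this
        rw [← conj_pow, show pw A (e i) * (X * xi A X (e j - e i)) * (pw A (e i))⁻¹ =
          (pw A (e i) * X * (pw A (e i))⁻¹) * (pw A (e i) * xi A X (e j - e i) * (pw A (e i))⁻¹) by group,
          hshift, add_sub_cancel] at this
        exact this
    obtain ⟨Φ, hΦ⟩ := exists_hom huv ⟨pt 0⟩ hx
    have hΦw : ∀ w, Φ (gword w) = FreeGroup.lift (xi A X : ZMod p → H) w := fun w =>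
      DFunLike.congr_fun (show Φ.comp gword = FreeGroup.lift (xi A X) from
        FreeGroup.ext_hom _ _ fun k => by simp [gword, hΦ, he]) w
    refine ⟨Φ, fun i => ?_⟩
    fin_cases i
    · show Φ ga = A
      rw [← hwa, hΦw]; exact h7.symm
    · show Φ gc = C
      rw [← hwc, hΦw]; exact h8.symm
    · show Φ gx = X
      rw [hΦ, he, hxi0]

end piece

end Cfsg.Agent.ShortPres.Alt
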