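import Mathlib
import Cfsg.Agent.Lib.ShortPres.AltPiece

/-!
Alternating groups have presentations with at most twenty-two relations.
-/

set_option autoImplicit false

namespace Cfsg.Agent.ShortPres.Alt

open Equiv Bound Monoid
open scoped commutatorElement

section functor

variable {β α γ : Type*} [Fintype β] [DecidableEq β] [Fintype α] [DecidableEq α] [Fintype γ] [DecidableEq γ]

theorem sign_viaEmbedding (f : β ↪ α) (g : Perm β) : Perm.sign (g.viaEmbedding f) = Perm.sign g := by
  unfold Perm.viaEmbedding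
  convert Perm.sign_extendDomain g (Equiv.ofInjective f f.injective) <;> rfl

/-- The map of alternating groups along an embedding. -/
noncomputable def altEmb (f : β ↪ α) : alternatingGroup β →* alternatingGroup α :=
  ((Perm.viaEmbeddingHom f).comp (alternatingGroup β).subtype).codRestrict _ fun g => by
    rw [MonoidHom.comp_apply, Perm.mem_alternatingGroup, Perm.viaEmbeddingHom_apply, sign_viaEmbedding]
    exact Perm.mem_alternatingGroup.1 g.2

theorem altEmb_apply (f : β ↪ α) (g : alternatingGroup β) (x : β) :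
    (altEmb f g : Perm α) (f x) = f ((g : Perm β) x) :=
  Perm.viaEmbedding_apply (g : Perm β) f x

theorem altEmb_fix (f : β ↪ α) (g : alternatingGroup β) {x : α} (h : x ∉ Set.range f) :
    (altEmb f g : Perm α) x = x :=
  Perm.viaEmbedding_apply_of_notMem (g : Perm β) f x h

theorem altEmb_comp (f : β ↪ α) (e : α ↪ γ) (g : alternatingGroup β) :
    altEmb e (altEmb f g) = altEmb (f.trans e) g := by
  refine Subtype.ext (Equiv.ext fun w => ?_)
  by_cases hw : w ∈ Set.range e
  · obtain ⟨y, rfl⟩ := hw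
    rw [altEmb_apply]
    by_cases hy : y ∈ Set.range f
    · obtain ⟨x, rfl⟩ := hy
      rw [altEmb_apply]
      exact (altEmb_apply (f.trans e) g x).symm
    · rw [altEmb_fix f g hy, altEmb_fix]
      rintro ⟨x, hx⟩
      exact hy ⟨x, e.injective hx⟩
  · rw [altEmb_fix e _ hw, altEmb_fix]
    rintro ⟨x, rfl⟩
    exact hw ⟨f x, rfl⟩

theorem altEmb_id (g : alternatingGroup α) : altEmb (Function.Embedding.refl α) g = g :=
  Subtype.ext (Equiv.ext fun w => altEmb_apply (Function.Embedding.refl α) g w)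

theorem altEmb_cyc (f : β ↪ α) {u v : β} (huv : u ≠ v) (huv' : f u ≠ f v) (i : Rest u v)
    (i' : Rest (f u) (f v)) (h : f i = i') : altEmb f (cyc huv i) = cyc huv' i' := by
  refine Subtype.ext (Equiv.ext fun w => ?_)
  show (altEmb f (cyc huv i) : Perm α) w = (swap (i' : α) (f u) * swap (f u) (f v)) w
  rw [← h]
  by_cases hw : w ∈ Set.range f
  · obtain ⟨y, rfl⟩ := hw
    rw [altEmb_apply, Perm.mul_apply, f.swap_apply, f.swap_apply]
    rfl
  · rw [altEmb_fix f _ hw, Perm.mul_apply,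
      swap_apply_of_ne_of_ne (a := f u) (b := f v) (fun e => hw ⟨u, e.symm⟩) (fun e => hw ⟨v, e.symm⟩),
      swap_apply_of_ne_of_ne (a := f i) (b := f u) (fun e => hw ⟨i, e.symm⟩) (fun e => hw ⟨u, e.symm⟩)]

/-- Equivalent point sets give isomorphic groups. -/
noncomputable def altIso (e : β ≃ α) : alternatingGroup β ≃* alternatingGroup α :=
  MonoidHom.toMulEquiv (altEmb e.toEmbedding) (altEmb e.symm.toEmbedding)
    (MonoidHom.ext fun g => by
      rw [MonoidHom.comp_apply, altEmb_comp, show e.toEmbedding.trans e.symm.toEmbedding = Function.Embedding.refl β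
        from Function.Embedding.ext fun x => e.symm_apply_apply x, altEmb_id]; rfl)
    (MonoidHom.ext fun g => by
      rw [MonoidHom.comp_apply, altEmb_comp, show e.symm.toEmbedding.trans e.toEmbedding = Function.Embedding.refl α
        from Function.Embedding.ext fun x => e.apply_symm_apply x, altEmb_id]; rfl)

theorem commute_altEmb {δ : Type*} [Fintype δ] [DecidableEq δ] (f : β ↪ α) (e : δ ↪ α)
    (h : ∀ x y, f x ≠ e y) (g : alternatingGroup β) (k : alternatingGroup δ) :
    Commute (altEmb f g) (altEmb e k) := by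
  refine Subtype.ext ?_
  refine (Perm.Disjoint.commute fun w => ?_).eq
  by_cases hw : w ∈ Set.range f
  · obtain ⟨x, rfl⟩ := hw
    exact Or.inr (altEmb_fix e k (by rintro ⟨y, hy⟩; exact h x y hy.symm))
  · exact Or.inl (altEmb_fix f g hw)

/-- Some element moves one given point to another. -/
theorem exists_move (h : 3 ≤ Fintype.card α) (x y : α) : ∃ g : alternatingGroup α, (g : Perm α) x = y := by
  by_cases hxy : x = y
  · exact ⟨1, hxy ▸ rfl⟩
  obtain ⟨d, -, hd⟩ := Finset.exists_mem_notMem_of_card_lt_card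
    (s := ({x, y} : Finset α)) (t := Finset.univ) (by
      rw [Finset.card_pair hxy, Finset.card_univ]; omega)
  simp only [Finset.mem_insert, Finset.mem_singleton, not_or] at hd
  refine ⟨cyc (Ne.symm hd.2) ⟨x, hxy, Ne.symm hd.1⟩, ?_⟩
  show (swap x y * swap y d) x = y
  rw [Perm.mul_apply, swap_apply_of_ne_of_ne hxy (Ne.symm hd.1), swap_apply_left]

end functor

/-- The alternating groups are generated by two elements. -/
theorem exists_pair {n : ℕ} (hn : 3 ≤ n) :
    ∃ a b : alternatingGroup (Fin n), Subgroup.closure ({a, b} : Set (alternatingGroup (Fin n))) = ⊤ := by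
  classical
  obtain ⟨l, rfl⟩ : ∃ l, n = l + 1 + 2 := ⟨n - 3, by omega⟩
  let sh : Perm (ZMod (l + 1)) := Equiv.addRight 1
  let ε : Perm (Fin 2) := if Perm.sign sh = 1 then 1 else swap 0 1
  let π : Perm (ZMod (l + 1) ⊕ Fin 2) := Equiv.sumCongr sh ε
  have hπ : π ∈ alternatingGroup _ := by
    rw [Perm.mem_alternatingGroup, Perm.sign_sumCongr]
    rcases Int.units_eq_one_or (Perm.sign sh) with e | e
    · simp [ε, e]
    · simp [ε, e]
  let e : ZMod (l + 1) ⊕ Fin 2 ≃ Fin (l + 1 + 2) := finSumFinEquiv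
  have huv : (Sum.inr 0 : ZMod (l + 1) ⊕ Fin 2) ≠ Sum.inr 1 := by simp
  let g : alternatingGroup (ZMod (l + 1) ⊕ Fin 2) := ⟨π, hπ⟩
  let pt : ZMod (l + 1) → Rest (Sum.inr 0 : ZMod (l + 1) ⊕ Fin 2) (Sum.inr 1) := fun k => ⟨Sum.inl k, by simp⟩
  set K := Subgroup.closure ({g, cyc huv (pt 0)} : Set (alternatingGroup (ZMod (l + 1) ⊕ Fin 2))) with hK
  have hg : g ∈ K := Subgroup.subset_closure (Set.mem_insert _ _)
  have hstep : ∀ k, cyc huv (pt k) ∈ K → cyc huv (pt (k + 1)) ∈ K := by
    intro k hk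
    have h := K.mul_mem (K.mul_mem hg hk) (K.inv_mem hg)
    have e1 : (g * cyc huv (pt k) * g⁻¹ : alternatingGroup _).1 =
        swap (Sum.inl (k + 1)) (Sum.inr (ε 0)) * swap (Sum.inr (ε 0)) (Sum.inr (ε 1)) := by
      show π * (swap (Sum.inl k) (Sum.inr 0) * swap (Sum.inr 0) (Sum.inr 1)) * π⁻¹ = _
      rw [conj_cyc]
      simp [π, sh]
    by_cases hsg : Perm.sign sh = 1
    · have : g * cyc huv (pt k) * g⁻¹ = cyc huv (pt (k + 1)) := Subtype.ext (by rw [e1]; simp [ε, hsg, cyc, pt])
      rwa [this] at h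
    · have : g * cyc huv (pt k) * g⁻¹ = (cyc huv (pt (k + 1)))⁻¹ := Subtype.ext (by
        rw [e1, Subgroup.coe_inv]
        simp only [ε, if_neg hsg, swap_apply_left, swap_apply_right, cyc, pt, _root_.mul_inv_rev, swap_inv]
        ext w
        rcases w with w | w
        · simp only [Perm.mul_apply, swap_apply_def]; split_ifs <;> simp_all
        · fin_cases w <;> simp [swap_apply_def])
      rw [this] at h
      simpa using K.inv_mem h
  have hall : ∀ k : ℕ, cyc huv (pt (k : ZMod (l + 1))) ∈ K := by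
    intro k
    induction k with
    | zero => simpa using Subgroup.subset_closure (show cyc huv (pt 0) ∈ ({g, cyc huv (pt 0)} : Set _) from by simp)
    | succ k ih => simpa using hstep _ ih
  have htop : K = ⊤ := by
    rw [eq_top_iff, ← closure_cyc huv, Subgroup.closure_le]
    rintro _ ⟨⟨w, hw, hw'⟩, rfl⟩
    rcases w with w | w
    · have := hall w.val
      rwa [ZMod.natCast_zmod_val] at this
    · fin_cases w <;> simp at hw hw'
  refine ⟨altIso e g, altIso e (cyc huv (pt 0)), ?_⟩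
  rw [← Set.image_pair, ← MulEquiv.coe_toMonoidHom, ← MonoidHom.map_closure, ← hK, htop]
  exact Subgroup.map_top_of_surjective _ (altIso e).surjective

/-- Small alternating groups, relator by relator. -/
theorem pres_small' {α : Type*} [Fintype α] [DecidableEq α] {u v : α} (huv : u ≠ v)
    (hne : Nonempty (Rest u v)) : PresN (alternatingGroup α) (Fintype.card (Rest u v))
      ((Finset.univ : Finset (Fin (Fintype.card (Rest u v)) × Fin (Fintype.card (Rest u v)))).filter
        fun ij => ij.1 ≤ ij.2).card := by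
  classical
  let e : Rest u v ≃ Fin (Fintype.card (Rest u v)) := Fintype.equivFin _
  set m := Fintype.card (Rest u v)
  let R : List (FreeGroup (Fin m)) :=
    ((Finset.univ : Finset (Fin m × Fin m)).filter fun ij => ij.1 ≤ ij.2).toList.map fun ij =>
    if ij.1 = ij.2 then FreeGroup.of ij.1 ^ 3 else (FreeGroup.of ij.1 * FreeGroup.of ij.2) ^ 2
  have hc := rels_cyc huv
  refine PresN.of_universal (fun i => cyc huv (e.symm i)) R (by simp [R]) (fun r hr => ?_) ?_ ?_
  · obtain ⟨⟨i, j⟩, -, rfl⟩ := List.mem_map.1 hr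
    split_ifs with h
    · simpa using hc.cube _
    · simpa using hc.pair _ _ (fun h' => h (e.symm.injective h'))
  · rw [← MonoidHom.range_eq_top, FreeGroup.range_lift_eq_closure, ← closure_cyc huv]
    congr 1
    exact e.symm.surjective.range_comp (cyc huv)
  · intro H _ h hR
    have hle : ∀ i j, i ≤ j → FreeGroup.lift h
        (if i = j then FreeGroup.of i ^ 3 else (FreeGroup.of i * FreeGroup.of j) ^ 2) = 1 :=
      fun i j hij => hR _ (List.mem_map.2 ⟨(i, j), by simp [hij], rfl⟩)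
    have hR' : ∀ i j, FreeGroup.lift h
        (if i = j then FreeGroup.of i ^ 3 else (FreeGroup.of i * FreeGroup.of j) ^ 2) = 1 := by
      intro i j
      rcases le_total i j with hij | hij
      · exact hle i j hij
      · by_cases he : i = j
        · subst he; exact hle i i le_rfl
        · have h1 := hle j i hij
          rw [if_neg (Ne.symm he)] at h1
          rw [if_neg he]
          simp only [map_pow, map_mul, FreeGroup.lift_apply_of] at h1 ⊢
          calc (h i * h j) ^ 2 = (h j)⁻¹ * (h j * h i) ^ 2 * h j := by simp only [sq]; group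
            _ = 1 := by rw [h1]; group
    have hx : Rels fun i => h (e i) := by
      refine ⟨fun i => ?_, fun i j hij => ?_⟩
      · simpa using hR' (e i) (e i)
      · simpa [hij] using hR' (e i) (e j)
    obtain ⟨φ, hφ⟩ := exists_hom huv hne hx
    exact ⟨φ, fun i => by simpa using hφ (e.symm i)⟩

theorem pres_small {α : Type*} [Fintype α] [DecidableEq α] {u v : α} (huv : u ≠ v)
    (hne : Nonempty (Rest u v)) : Pres (alternatingGroup α) (Fintype.card (Rest u v) ^ 2) :=
  ((pres_small' huv hne).mono ((Finset.card_filter_le _ _).trans (by simp [sq]))).toPres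

theorem subsingleton_alt {n : ℕ} (h : n ≤ 2) : Subsingleton (alternatingGroup (Fin n)) := by
  rcases Nat.lt_or_ge n 2 with h2 | h2
  · exact ⟨fun g g' => Subtype.ext (Equiv.ext fun w => by
      have : Subsingleton (Fin n) := Fin.subsingleton_iff_le_one.2 (by omega)
      exact Subsingleton.elim _ _)⟩
  obtain rfl : n = 2 := le_antisymm h h2
  refine Finite.card_le_one_iff_subsingleton.1 ?_
  have e := two_mul_nat_card_alternatingGroup (α := Fin 2)
  rw [Nat.card_eq_fintype_card (α := Perm (Fin 2)), Fintype.card_perm, Fintype.card_fin] at e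
  rw [Nat.factorial_two] at e
  omega

/-- The piece on the first points. -/
theorem pres_piece {p : ℕ} (hp : p.Prime) (h5 : 5 ≤ p) : PresN (alternatingGroup (Fin (p + 2))) 3 8 := by
  have : Fact p.Prime := ⟨hp⟩
  exact (exists_piece h5).congr (altIso (Fintype.equivFinOfCardEq (by simp)))

theorem conj_altEmb {β α : Type*} [Fintype β] [DecidableEq β] [Fintype α] [DecidableEq α] (f : β ↪ α)
    (x : alternatingGroup α) (g : alternatingGroup β) :
    x * altEmb f g * x⁻¹ = altEmb (f.trans (x.1 : Perm α).toEmbedding) g := by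
  rw [mul_inv_eq_iff_eq_mul]
  refine Subtype.ext (Equiv.ext fun w => ?_)
  show x.1 ((altEmb f g : Perm α) w) = (altEmb (f.trans (x.1 : Perm α).toEmbedding) g : Perm α) (x.1 w)
  by_cases hw : w ∈ Set.range f
  · obtain ⟨y, rfl⟩ := hw
    rw [altEmb_apply]
    exact (altEmb_apply (f.trans (x.1 : Perm α).toEmbedding) g y).symm
  · rw [altEmb_fix f g hw, altEmb_fix]
    rintro ⟨y, hy⟩
    exact hw ⟨y, x.1.injective hy⟩

/-- Two intervals of one length differ by an even permutation and perhaps a swap. -/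
theorem exists_shift {m n : ℕ} (h7 : 7 ≤ m) (hmn : m ≤ n) (fA fB : Fin m ↪ Fin n)
    (hA : ∀ i, (fA i : ℕ) = i) (hB : ∀ i, (fB i : ℕ) = i + (n - m)) :
    ∃ (x : alternatingGroup (Fin n)) (ρ : alternatingGroup (Fin m) →* alternatingGroup (Fin m)),
      ∀ g, altEmb fB g = x * altEmb fA (ρ g) * x⁻¹ := by
  obtain ⟨n, rfl⟩ : ∃ n', n = n' + 1 := ⟨n - 1, by omega⟩
  let π : Perm (Fin (n + 1)) := finRotate (n + 1) ^ (n + 1 - m)
  have hrot : ∀ (d : ℕ) (i : Fin (n + 1)), ((finRotate (n + 1) ^ d) i : ℕ) = ((i : ℕ) + d) % (n + 1) := by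
    intro d
    induction d with
    | zero => intro i; simp [Nat.mod_eq_of_lt i.2]
    | succ d ih =>
      intro i
      rw [pow_succ', Perm.mul_apply, finRotate_succ_apply, Fin.val_add, ih, Fin.val_one', Nat.add_mod_mod,
        Nat.mod_add_mod, Nat.add_assoc]
  let u : Fin m := ⟨0, by omega⟩
  let v : Fin m := ⟨1, by omega⟩
  have huv : u ≠ v := by simp [u, v, Fin.ext_iff]
  obtain ⟨x, e, hx⟩ : ∃ (x : alternatingGroup (Fin (n + 1))) (e : Perm (Fin m)),
      ∀ i, x.1 (fA (e i)) = fB i := by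
    have key : ∀ i, π (fA i) = fB i := fun i => Fin.ext (by
      rw [hrot, hA, hB, Nat.mod_eq_of_lt]; omega)
    rcases Int.units_eq_one_or (Perm.sign π) with hs | hs
    · exact ⟨⟨π, Perm.mem_alternatingGroup.2 hs⟩, 1, key⟩
    · refine ⟨⟨π * swap (fA u) (fA v), Perm.mem_alternatingGroup.2 ?_⟩, swap u v, fun i => ?_⟩
      · rw [map_mul, hs, Perm.sign_swap (fA.injective.ne huv)]; decide
      · rw [← key i]
        show π (swap (fA u) (fA v) (fA (swap u v i))) = _
        rw [fA.swap_apply, swap_apply_self]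
  refine ⟨x, altEmb e.toEmbedding, fun g => ?_⟩
  rw [altEmb_comp, conj_altEmb]
  congr 2
  exact Function.Embedding.ext fun i => (hx i).symm

set_option maxHeartbeats 800000 in
/-- Gluing two overlapping pieces. -/
theorem pres_glue {m n g k : ℕ} (h7 : 7 ≤ m) (hmn : m ≤ n) (hn : n + 3 ≤ 2 * m)
    (hP : PresN (alternatingGroup (Fin m)) g k) : PresN (alternatingGroup (Fin n)) (g + 1) (k + 7) := by
  classical
  set a := n - m
  let fA : Fin m ↪ Fin n := ⟨fun i => ⟨i, by omega⟩, fun i j h => by simpa [Fin.ext_iff] using h⟩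
  let fB : Fin m ↪ Fin n := ⟨fun i => ⟨i + a, by omega⟩, fun i j h => by simpa [Fin.ext_iff] using h⟩
  let oA : Fin (m - a) ↪ Fin m := ⟨fun i => ⟨i + a, by omega⟩, fun i j h => by simpa [Fin.ext_iff] using h⟩
  let oB : Fin (m - a) ↪ Fin m := ⟨fun i => ⟨i, by omega⟩, fun i j h => by simpa [Fin.ext_iff] using h⟩
  let eL : Fin (m - 2) ↪ Fin m :=
    ⟨fun i => ⟨if (i : ℕ) < a then i else i + 2, by split_ifs <;> omega⟩, fun i j h => by
      simp only [Fin.ext_iff] at h; ext; split_ifs at h <;> omega⟩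
  let eR : Fin (a + 2) ↪ Fin m :=
    ⟨fun i => ⟨if (i : ℕ) < 2 then i else i + (m - a - 2), by split_ifs <;> omega⟩, fun i j h => by
      simp only [Fin.ext_iff] at h; ext; split_ifs at h <;> omega⟩
  have fA_val : ∀ i, (fA i : ℕ) = i := fun i => rfl
  have fB_val : ∀ i, (fB i : ℕ) = i + a := fun i => rfl
  have oA_val : ∀ i, (oA i : ℕ) = i + a := fun i => rfl
  have oB_val : ∀ i, (oB i : ℕ) = i := fun i => rfl
  have eL_val : ∀ i, (eL i : ℕ) = if (i : ℕ) < a then (i : ℕ) else i + 2 := fun i => rfl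
  have eR_val : ∀ i, (eR i : ℕ) = if (i : ℕ) < 2 then (i : ℕ) else i + (m - a - 2) := fun i => rfl
  let iA := altEmb fA
  let iB := altEmb fB
  have hOO : ∀ g, iA (altEmb oA g) = iB (altEmb oB g) := fun g => by
    show altEmb fA (altEmb oA g) = altEmb fB (altEmb oB g)
    rw [altEmb_comp, altEmb_comp]
    congr 1
  have hLR : ∀ g g', Commute (iA (altEmb eL g)) (iB (altEmb eR g')) := fun g g' => by
    show Commute (altEmb fA (altEmb eL g)) (altEmb fB (altEmb eR g'))
    rw [altEmb_comp, altEmb_comp]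
    refine commute_altEmb _ _ (fun x y h => ?_) g g'
    simp only [Function.Embedding.trans_apply, Fin.ext_iff, fA_val, fB_val, eL_val, eR_val] at h
    split_ifs at h <;> omega
  obtain ⟨o₁, o₂, ho⟩ := exists_pair (n := m - a) (by omega)
  obtain ⟨l₁, l₂, hl⟩ := exists_pair (n := m - 2) (by omega)
  obtain ⟨r₁, r₂, hr⟩ : ∃ r₁ r₂ : alternatingGroup (Fin (a + 2)),
      Subgroup.closure ({r₁, r₂} : Set (alternatingGroup (Fin (a + 2)))) = ⊤ := by
    rcases Nat.eq_zero_or_pos a with h0 | h0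
    · refine ⟨1, 1, ?_⟩
      rw [eq_top_iff]
      intro g _
      have : Subsingleton (alternatingGroup (Fin (a + 2))) :=
        subsingleton_alt (by omega)
      rw [Subsingleton.elim g 1]
      exact one_mem _
    · exact exists_pair (by omega)
  let inA : alternatingGroup (Fin m) →* Coprod (alternatingGroup (Fin m)) (alternatingGroup (Fin m)) := Coprod.inl
  let inB : alternatingGroup (Fin m) →* Coprod (alternatingGroup (Fin m)) (alternatingGroup (Fin m)) := Coprod.inr
  let eq' := fun g => inA (altEmb oA g) * (inB (altEmb oB g))⁻¹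
  let cm := fun g g' => ⁅inA (altEmb eL g), inB (altEmb eR g')⁆
  let E := [eq' o₁, eq' o₂, cm l₁ r₁, cm l₁ r₂, cm l₂ r₁, cm l₂ r₂]
  let u : Fin n := ⟨a, by omega⟩
  let v : Fin n := ⟨a + 1, by omega⟩
  have huv : u ≠ v := by simp [u, v, Fin.ext_iff]
  let uA : Fin m := ⟨a, by omega⟩
  let vA : Fin m := ⟨a + 1, by omega⟩
  have huvA : uA ≠ vA := by simp [uA, vA, Fin.ext_iff]
  let uB : Fin m := ⟨0, by omega⟩
  let vB : Fin m := ⟨1, by omega⟩
  have huvB : uB ≠ vB := by simp [uB, vB, Fin.ext_iff]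
  have fAu : fA uA = u := rfl
  have fBu : fB uB = u := Fin.ext (by simp [fB_val, uB, u])
  have fBv : fB vB = v := Fin.ext (by simp [fB_val, vB, v, Nat.add_comm])
  have hiA : ∀ (i : Rest uA vA) (i' : Rest u v), fA i = i' → iA (cyc huvA i) = cyc huv i' := fun i i' h =>
    altEmb_cyc fA huvA (by exact huv) i i' h
  have hiB : ∀ (i : Rest uB vB) (i' : Rest u v), fB i = i' → iB (cyc huvB i) = cyc huv i' := by
    intro i i' h
    have := altEmb_cyc fB huvB (fBu.symm ▸ fBv.symm ▸ huv) i ⟨i', fBu.symm ▸ i'.2.1, fBv.symm ▸ i'.2.2⟩ h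
    refine this.trans (Subtype.ext ?_)
    show swap (i' : Fin n) (fB uB) * swap (fB uB) (fB vB) = _
    rw [fBu, fBv]
    rfl
  have lA : ∀ i : Rest u v, ∀ h : (i.1 : ℕ) < m, (⟨i.1, h⟩ : Fin m) ≠ uA ∧ (⟨i.1, h⟩ : Fin m) ≠ vA := by
    rintro ⟨i, h1, h2⟩ h
    simp only [ne_eq, Fin.ext_iff, u, v, uA, vA] at h1 h2 ⊢
    exact ⟨h1, h2⟩
  have lB : ∀ i : Rest u v, ∀ h : a ≤ (i.1 : ℕ),
      (⟨i.1 - a, by omega⟩ : Fin m) ≠ uB ∧ (⟨i.1 - a, by omega⟩ : Fin m) ≠ vB := by
    rintro ⟨i, h1, h2⟩ h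
    simp only [ne_eq, Fin.ext_iff, u, v, uB, vB] at h1 h2 h ⊢
    omega
  obtain ⟨x, ρ, hx⟩ := exists_shift h7 hmn fA fB fA_val fB_val
  refine PresN.conjugate hP iA iB x ρ hx ?_ E ?_ ?_ |>.mono (by simp [E])
  · rw [eq_top_iff, ← closure_cyc huv, Subgroup.closure_le]
    rintro _ ⟨i, rfl⟩
    by_cases h : (i.1 : ℕ) < m
    · exact Subgroup.mem_sup_left ⟨cyc huvA ⟨_, lA i h⟩, hiA _ i (Fin.ext rfl)⟩
    · exact Subgroup.mem_sup_right ⟨cyc huvB ⟨_, lB i (by omega)⟩, hiB _ i (Fin.ext (by simp [fB_val]; omega))⟩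
  · intro e he
    simp only [E, eq', cm, inA, inB, List.mem_cons, List.not_mem_nil, or_false] at he
    rcases he with rfl | rfl | rfl | rfl | rfl | rfl
    · simp [hOO]
    · simp [hOO]
    all_goals
      simp only [map_commutatorElement, Coprod.lift_apply_inl, Coprod.lift_apply_inr]
      exact commutatorElement_eq_one_iff_commute.2 (hLR _ _)
  intro H _ α β hE
  simp only [E, eq', cm, inA, inB, List.forall_mem_cons, List.not_mem_nil, false_imp_iff, implies_true, and_true,
    map_mul, map_inv, map_commutatorElement, Coprod.lift_apply_inl, Coprod.lift_apply_inr, mul_inv_eq_one,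
    commutatorElement_eq_one_iff_commute] at hE
  obtain ⟨e1, e2, c11, c12, c21, c22⟩ := hE
  have hO : ∀ g, α (altEmb oA g) = β (altEmb oB g) := by
    intro g
    have : α.comp (altEmb oA) = β.comp (altEmb oB) := MonoidHom.eq_of_eqOn_dense ho (by
      rintro _ (rfl | rfl)
      · exact e1
      · exact e2)
    exact DFunLike.congr_fun this g
  have hC : ∀ g g', Commute (α (altEmb eL g)) (β (altEmb eR g')) := by
    intro g g'
    have hg : g ∈ Subgroup.closure ({l₁, l₂} : Set (alternatingGroup (Fin (m - 2)))) := hl ▸ Subgroup.mem_top g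
    have hg' : g' ∈ Subgroup.closure ({r₁, r₂} : Set (alternatingGroup (Fin (a + 2)))) := hr ▸ Subgroup.mem_top g'
    induction hg using Subgroup.closure_induction with
    | one => simp
    | mul y z _ _ hy hz => simpa using hy.mul_left hz
    | inv y _ hy => simpa using hy.inv_left
    | mem y hy =>
      induction hg' using Subgroup.closure_induction with
      | one => simp
      | mul z w _ _ hz hw => simpa using hz.mul_right hw
      | inv z _ hz => simpa using hz.inv_right
      | mem z hz =>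
        rcases hy with rfl | rfl <;> rcases hz with rfl | rfl
        exacts [c11, c12, c21, c22]
  let x : Rest u v → H := fun i =>
    if h : (i.1 : ℕ) < m then α (cyc huvA ⟨_, lA i h⟩) else β (cyc huvB ⟨_, lB i (by omega)⟩)
  have xA : ∀ (i : Rest u v) (h : (i.1 : ℕ) < m), x i = α (cyc huvA ⟨_, lA i h⟩) := fun i h => dif_pos h
  have xB : ∀ (i : Rest u v) (h : a ≤ (i.1 : ℕ)), x i = β (cyc huvB ⟨_, lB i h⟩) := by
    intro i h
    by_cases hm : (i.1 : ℕ) < m
    · rw [xA i hm]
      let uO : Fin (m - a) := ⟨0, by omega⟩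
      let vO : Fin (m - a) := ⟨1, by omega⟩
      have huvO : uO ≠ vO := by simp [uO, vO, Fin.ext_iff]
      have hh := lB i h
      simp only [ne_eq, Fin.ext_iff, uB, vB] at hh
      let o : Rest uO vO := ⟨⟨i.1 - a, by omega⟩, by simp only [ne_eq, Fin.ext_iff, uO, vO]; exact hh⟩
      have k1 : altEmb oA (cyc huvO o) = cyc huvA ⟨_, lA i hm⟩ := by
        have := altEmb_cyc oA huvO (oA.injective.ne huvO) o
          ⟨oA o, oA.injective.ne o.2.1, oA.injective.ne o.2.2⟩ rfl
        refine this.trans (Subtype.ext ?_)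
        show swap (oA o.1) (oA uO) * swap (oA uO) (oA vO) = swap _ uA * swap uA vA
        rw [show oA o.1 = ⟨i.1, hm⟩ from Fin.ext (by simp [oA_val, o]; omega),
          show oA uO = uA from Fin.ext (by simp [oA_val, uO, uA]),
          show oA vO = vA from Fin.ext (by simp [oA_val, vO, vA, Nat.add_comm])]
      have k2 : altEmb oB (cyc huvO o) = cyc huvB ⟨_, lB i h⟩ :=
        altEmb_cyc oB huvO (oB.injective.ne huvO) o ⟨_, lB i h⟩ rfl
      rw [← k1, ← k2, hO]
    · exact dif_neg hm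
  have hrA := rels_cyc huvA
  have hrB := rels_cyc huvB
  have hcube : ∀ i, x i ^ 3 = 1 := by
    intro i
    by_cases h : (i.1 : ℕ) < m
    · rw [xA i h, ← map_pow, hrA.cube, map_one]
    · rw [xB i (by omega), ← map_pow, hrB.cube, map_one]
  have hsame : ∀ i j : Rest u v, i ≠ j →
      ((i.1 : ℕ) < m ∧ (j.1 : ℕ) < m) ∨ (a ≤ (i.1 : ℕ) ∧ a ≤ (j.1 : ℕ)) → (x i * x j) ^ 2 = 1 := by
    intro i j hij h
    have hne : (i.1 : ℕ) ≠ (j.1 : ℕ) := fun e => hij (Subtype.ext (Fin.ext e))
    rcases h with ⟨hi, hj⟩ | ⟨hi, hj⟩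
    · rw [xA i hi, xA j hj, ← map_mul, ← map_pow, hrA.pair _ _ (by simp [Subtype.ext_iff, Fin.ext_iff]; exact hne),
        map_one]
    · rw [xB i hi, xB j hj, ← map_mul, ← map_pow, hrB.pair _ _ (by simp [Subtype.ext_iff, Fin.ext_iff]; omega),
        map_one]
  let b : Rest u v := ⟨⟨a + 2, by omega⟩, by simp [u, v, Fin.ext_iff]⟩
  have hcross : ∀ i j : Rest u v, (i.1 : ℕ) < a → m ≤ (j.1 : ℕ) → (x i * x j) ^ 2 = 1 := by
    intro i j hi hj
    obtain ⟨l, hl'⟩ := exists_move (α := Fin (m - 2)) (by simp; omega) ⟨a, by omega⟩ ⟨i.1, by omega⟩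
    have ej : cyc huvB ⟨_, lB j (by omega)⟩ ∈ (altEmb eR).range := by
      let uR : Fin (a + 2) := ⟨0, by omega⟩
      let vR : Fin (a + 2) := ⟨1, by omega⟩
      have huvR : uR ≠ vR := by simp [uR, vR, Fin.ext_iff]
      let o : Rest uR vR := ⟨⟨j.1 - m + 2, by omega⟩, by simp [uR, vR, Fin.ext_iff]⟩
      refine ⟨cyc huvR o, altEmb_cyc eR huvR (eR.injective.ne huvR) o ⟨_, lB j (by omega)⟩ ?_⟩
      simp only [Fin.ext_iff, eR_val, o]
      rw [if_neg (by omega)]
      omega
    obtain ⟨g', hg'⟩ := ej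
    have ei : altEmb eL l * cyc huvA ⟨_, lA b (by simp only [b]; omega)⟩ * (altEmb eL l)⁻¹ =
        cyc huvA ⟨_, lA i (by omega)⟩ := by
      refine Subtype.ext ?_
      show _ * (swap _ _ * swap _ _) * _ = swap _ _ * swap _ _
      rw [Subgroup.coe_inv, conj_cyc]
      have hb : (altEmb eL l : Perm (Fin m)) ⟨a + 2, by omega⟩ = ⟨i.1, by omega⟩ := by
        have h := altEmb_apply eL l ⟨a, by omega⟩
        rw [hl'] at h
        rw [show eL ⟨a, by omega⟩ = ⟨a + 2, by omega⟩ from Fin.ext (by simp [eL_val]),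
          show eL ⟨i.1, by omega⟩ = ⟨i.1, by omega⟩ from Fin.ext (by simp [eL_val, hi])] at h
        exact h
      have hu : (altEmb eL l : Perm (Fin m)) uA = uA := altEmb_fix _ _ (by
        rintro ⟨w, hw⟩; simp only [Fin.ext_iff, eL_val, uA] at hw; split_ifs at hw <;> omega)
      have hv : (altEmb eL l : Perm (Fin m)) vA = vA := altEmb_fix _ _ (by
        rintro ⟨w, hw⟩; simp only [Fin.ext_iff, eL_val, vA] at hw; split_ifs at hw <;> omega)
      rw [hu, hv, show (altEmb eL l : Perm (Fin m)) ⟨b.1, _⟩ = _ from hb]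
    rw [xA i (by omega), ← ei, map_mul, map_mul, map_inv, ← xA b (by simp only [b]; omega), xB j (by omega), ← hg']
    set L := α (altEmb eL l)
    have hc : Commute L (β (altEmb eR g')) := hC l g'
    calc (L * x b * L⁻¹ * β (altEmb eR g')) ^ 2 = (L * (x b * β (altEmb eR g')) * L⁻¹) ^ 2 := by
          rw [mul_assoc, hc.inv_left.eq]; simp only [mul_assoc]
      _ = 1 := by
          rw [hg', ← xB j (by omega), conj_pow, hsame b j (fun e => by
            have := congrArg (fun w : Rest u v => (w.1 : ℕ)) e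
            simp only [b] at this; omega) (Or.inr ⟨by simp only [b]; omega, by omega⟩), mul_one, mul_inv_cancel]
  have hx : Rels x := by
    refine ⟨hcube, fun i j hij => ?_⟩
    by_cases h : ((i.1 : ℕ) < m ∧ (j.1 : ℕ) < m) ∨ (a ≤ (i.1 : ℕ) ∧ a ≤ (j.1 : ℕ))
    · exact hsame i j hij h
    rcases (show ((i.1 : ℕ) < a ∧ m ≤ (j.1 : ℕ)) ∨ ((j.1 : ℕ) < a ∧ m ≤ (i.1 : ℕ)) by omega) with h' | h'
    · exact hcross i j h'.1 h'.2
    · have h1 := hcross j i h'.1 h'.2
      calc (x i * x j) ^ 2 = (x j)⁻¹ * (x j * x i) ^ 2 * x j := by simp only [sq]; group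
        _ = 1 := by rw [h1]; group
  obtain ⟨φ, hφ⟩ := exists_hom huv ⟨b⟩ hx
  refine ⟨φ, MonoidHom.eq_of_eqOn_dense (closure_cyc huvA) ?_, MonoidHom.eq_of_eqOn_dense (closure_cyc huvB) ?_⟩
  · rintro _ ⟨i, rfl⟩
    let i' : Rest u v := ⟨fA i, fA.injective.ne i.2.1, fA.injective.ne i.2.2⟩
    rw [MonoidHom.comp_apply, hiA i i' rfl, hφ, xA i' i.1.2]
    rfl
  · rintro _ ⟨i, rfl⟩
    let i' : Rest u v := ⟨fB i, fBu ▸ fB.injective.ne i.2.1, fBv ▸ fB.injective.ne i.2.2⟩
    rw [MonoidHom.comp_apply, hiB i i' rfl, hφ, xB i' (by simp [i', fB_val])]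
    exact congrArg (fun t => β (cyc huvB t)) (Subtype.ext (Fin.ext (by simp [i', fB_val])))

/-- Every alternating group needs at most twenty-two relations. -/
theorem pres_alt (n : ℕ) : Pres (alternatingGroup (Fin n)) 22 := by
  rcases Nat.lt_or_ge n 3 with h3 | h3
  · refine ⟨0, Fin.elim0, [], by simp, by simp, fun g => ⟨1, ?_⟩, fun r _ => ?_⟩
    · have : Subsingleton (alternatingGroup (Fin n)) := by
        exact subsingleton_alt (by omega)
      exact Subsingleton.elim _ _
    · rw [Subsingleton.elim r 1]; exact one_mem _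
  rcases Nat.lt_or_ge n 7 with h7 | h7
  · have huv : (⟨0, by omega⟩ : Fin n) ≠ ⟨1, by omega⟩ := by simp
    refine (pres_small huv ⟨⟨⟨2, by omega⟩, by simp, by simp⟩⟩).mono ?_
    have hc : Fintype.card (Rest (⟨0, by omega⟩ : Fin n) ⟨1, by omega⟩) ≤ 4 := by
      rw [Fintype.card_subtype]
      have e : (Finset.univ.filter fun i : Fin n => i ≠ ⟨0, by omega⟩ ∧ i ≠ ⟨1, by omega⟩) =
          ({⟨0, by omega⟩, ⟨1, by omega⟩} : Finset (Fin n))ᶜ := by ext; simp
      rw [e, Finset.card_compl, Finset.card_pair huv, Fintype.card_fin]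
      omega
    calc _ ≤ 4 ^ 2 := Nat.pow_le_pow_left hc 2
      _ ≤ 22 := by norm_num
  obtain ⟨p, hp, h5, hlo, hhi⟩ : ∃ p : ℕ, p.Prime ∧ 5 ≤ p ∧ n ≤ 2 * p + 1 ∧ p + 2 ≤ n := by
    rcases Nat.eq_or_lt_of_le h7 with rfl | h8
    · exact ⟨5, by norm_num, by norm_num, by norm_num, by norm_num⟩
    obtain ⟨p, hp, h1, h2⟩ := Nat.exists_prime_lt_and_le_two_mul ((n - 2) / 2) (by omega)
    have : p ≠ 4 := by rintro rfl; norm_num at hp
    exact ⟨p, hp, by omega, by omega, by omega⟩
  exact ((pres_glue (by omega) hhi (by omega) (pres_piece hp h5)).mono (by omega)).toPres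

end Cfsg.Agent.ShortPres.Alt
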