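import Cfsg.Agent.Lib.ShortPres.AltBounded
import Cfsg.Agent.Lib.ShortPres.SLBounded
import Mathlib

/-!
Even permutations with prescribed values.
-/

set_option autoImplicit false
set_option linter.unusedSectionVars false

namespace Cfsg.Agent.ShortPres.Alt

open Equiv

variable {α : Type*} [Fintype α] [DecidableEq α]

theorem exists_send {k : ℕ} (l l' : Fin k → α) (hl : Function.Injective l) (hl' : Function.Injective l') :
    ∃ σ : Perm α, ∀ i, σ (l i) = l' i := by
  classical
  let e : {x // x ∈ Set.range l} ≃ {x // x ∈ Set.range l'} :=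
    (Equiv.ofInjective l hl).symm.trans (Equiv.ofInjective l' hl')
  refine ⟨e.extendSubtype, fun i => ?_⟩
  rw [Equiv.extendSubtype_apply_of_mem e (l i) ⟨i, rfl⟩]
  show ((Equiv.ofInjective l' hl') ((Equiv.ofInjective l hl).symm ⟨l i, _⟩) : α) = l' i
  rw [Equiv.ofInjective_symm_apply hl i]
  rfl

/-- Prescribed values up to one exchange. -/
theorem exists_even_send {k : ℕ} (l l' : Fin k → α) (hl : Function.Injective l) (hl' : Function.Injective l')
    {x y : α} (hxy : x ≠ y) :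
    ∃ g : alternatingGroup α, (∀ i, g.1 (l i) = l' i) ∨ ∀ i, g.1 (l i) = swap x y (l' i) := by
  obtain ⟨σ, hσ⟩ := exists_send l l' hl hl'
  rcases Int.units_eq_one_or (Perm.sign σ) with h | h
  · exact ⟨⟨σ, Perm.mem_alternatingGroup.2 h⟩, Or.inl hσ⟩
  · refine ⟨⟨swap x y * σ, ?_⟩, Or.inr fun i => ?_⟩
    · rw [Perm.mem_alternatingGroup, map_mul, Perm.sign_swap hxy, h]; decide
    · show swap x y (σ (l i)) = _
      rw [hσ]

/-- Three points are sent to three points, read forwards or backwards. -/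
theorem exists_triple {p0 p1 p2 i j k : α} (h01 : p0 ≠ p1) (h02 : p0 ≠ p2) (h12 : p1 ≠ p2) (hij : i ≠ j)
    (hik : i ≠ k) (hjk : j ≠ k) :
    (∃ g : alternatingGroup α, g.1 p0 = i ∧ g.1 p1 = j ∧ g.1 p2 = k ∨ g.1 p0 = k ∧ g.1 p1 = j ∧ g.1 p2 = i) ∧
      ∃ g : alternatingGroup α, g.1 p0 = i ∧ (g.1 p1 = j ∧ g.1 p2 = k ∨ g.1 p1 = k ∧ g.1 p2 = j) := by
  have hl : Function.Injective ![p0, p1, p2] := by
    intro a b h
    fin_cases a <;> fin_cases b <;> simp_all
  have hl' : Function.Injective ![i, j, k] := by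
    intro a b h
    fin_cases a <;> fin_cases b <;> simp_all
  constructor
  · obtain ⟨g, h | h⟩ := exists_even_send _ _ hl hl' hik
    · exact ⟨g, Or.inl ⟨h 0, h 1, h 2⟩⟩
    · exact ⟨g, Or.inr ⟨(h 0).trans (swap_apply_left i k),
        (h 1).trans (swap_apply_of_ne_of_ne hij.symm hjk), (h 2).trans (swap_apply_right i k)⟩⟩
  · obtain ⟨g, h | h⟩ := exists_even_send _ _ hl hl' hjk
    · exact ⟨g, h 0, Or.inl ⟨h 1, h 2⟩⟩
    · exact ⟨g, (h 0).trans (swap_apply_of_ne_of_ne hij hik),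
        Or.inr ⟨(h 1).trans (swap_apply_left j k), (h 2).trans (swap_apply_right j k)⟩⟩

/-- Two points are moved onto two given ones. -/
theorem exists_move_two {p0 p1 : α} (h01 : p0 ≠ p1) (h : 3 ≤ Fintype.card α) (s : Finset α) (hs : s.card ≤ 2) :
    ∃ g : alternatingGroup α, ∀ a ∈ s, g.1 a ∈ ({p0, p1} : Finset α) := by
  obtain ⟨s', hss', -, hs'⟩ := Finset.exists_subsuperset_card_eq (Finset.subset_univ s) hs
    (by rw [Finset.card_univ]; omega)
  obtain ⟨a, b, hab, rfl⟩ := Finset.card_eq_two.1 hs'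
  obtain ⟨g, hg⟩ := exists_even_send ![a, b] ![p0, p1]
    (by intro u v e; fin_cases u <;> fin_cases v <;> simp_all)
    (by intro u v e; fin_cases u <;> fin_cases v <;> simp_all) h01
  refine ⟨g, fun c hc => ?_⟩
  have hc' := hss' hc
  simp only [Finset.mem_insert, Finset.mem_singleton] at hc' ⊢
  rcases hg with hg | hg <;> rcases hc' with rfl | rfl
  · exact Or.inl (hg 0)
  · exact Or.inr (hg 1)
  · exact Or.inr ((hg 0).trans (swap_apply_left p0 p1))
  · exact Or.inl ((hg 1).trans (swap_apply_right p0 p1))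

end Cfsg.Agent.ShortPres.Alt
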