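import Cfsg.Agent.SimpleFacts.SpMult.Levels
import Cfsg.Agent.Lib.SteinbergSL.Many
import Mathlib

/-!
The symplectic group seen from a fixed hyperbolic basis: supports, their fixers and the Levi factor.
-/

set_option autoImplicit false
set_option linter.unusedSectionVars false

namespace Cfsg.Agent.ShortPres.Symp

open Matrix Cfsg.Agent.Forms.SympStd Cfsg.Agent.Classical.Symplectic Cfsg.Agent.SimpleFacts.SpMult.Levels
  Cfsg.Agent.SimpleFacts.SLnRootLifts Cfsg.Agent.SimpleFacts.SLnCosets Cfsg.Agent.SimpleFacts.SLnSystem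

universe u

variable {F : Type u} [Field F] {m : ℕ}

local notation "Vec" => (Fin m ⊕ Fin m → F)
local notation "Mat" => Matrix (Fin m ⊕ Fin m) (Fin m ⊕ Fin m) F
local notation "Sp" => symplecticGroup (Fin m) F
local notation "f" => Cfsg.sympForm m F

/-- The first vector of a pair. -/
def be (i : Fin m) : Fin m ⊕ Fin m → F := Pi.single (Sum.inr i) 1

/-- The second vector of a pair. -/
def bh (i : Fin m) : Fin m ⊕ Fin m → F := Pi.single (Sum.inl i) 1

theorem f_be (i : Fin m) (v : Vec) : f (be i) v = v (Sum.inl i) := by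
  rw [sympForm_eq, Finset.sum_eq_single i] <;>
    simp (config := { contextual := true }) [be, Pi.single_apply]

theorem f_bh (i : Fin m) (v : Vec) : f (bh i) v = - v (Sum.inr i) := by
  rw [sympForm_eq, Finset.sum_eq_single i] <;>
    simp (config := { contextual := true }) [bh, Pi.single_apply]

theorem f_be' (i : Fin m) (v : Vec) : f v (be i) = - v (Sum.inl i) := by
  rw [sympForm_swap, f_be]

theorem f_bh' (i : Fin m) (v : Vec) : f v (bh i) = v (Sum.inr i) := by
  rw [sympForm_swap, f_bh, neg_neg]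

theorem f_be_bh (i : Fin m) : f (be i) (bh i : Vec) = 1 := by rw [f_be]; simp [bh]

theorem be_ne (i : Fin m) : (be i : Vec) ≠ 0 := fun h => by simpa [be] using congrFun h (Sum.inr i)

theorem decomp (v : Vec) : v = ∑ i, (v (Sum.inl i) • bh i + v (Sum.inr i) • be i) := by
  funext k
  rcases k with k | k <;> simp [be, bh, Pi.single_apply, Finset.sum_apply]

/-- The vectors of the pairs outside a set. -/
def off (s : Finset (Fin m)) : Set (Fin m ⊕ Fin m → F) := {v | ∃ j ∉ s, v = be j ∨ v = bh j}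

theorem mem_sp {s : Finset (Fin m)} {v : Vec} :
    v ∈ perp (off s) ↔ ∀ j ∉ s, v (Sum.inl j) = 0 ∧ v (Sum.inr j) = 0 := by
  constructor
  · intro h j hj
    have h1 := h (be j) ⟨j, hj, Or.inl rfl⟩
    have h2 := h (bh j) ⟨j, hj, Or.inr rfl⟩
    rw [f_be] at h1
    rw [f_bh, neg_eq_zero] at h2
    exact ⟨h1, h2⟩
  · rintro h w ⟨j, hj, rfl | rfl⟩
    · rw [f_be, (h j hj).1]
    · rw [f_bh, (h j hj).2, neg_zero]

theorem be_mem {s : Finset (Fin m)} {i : Fin m} (hi : i ∈ s) : (be i : Vec) ∈ perp (off s) :=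
  mem_sp.2 fun j hj => by
    have : j ≠ i := fun e => hj (e ▸ hi)
    simp [be, this]

theorem bh_mem {s : Finset (Fin m)} {i : Fin m} (hi : i ∈ s) : (bh i : Vec) ∈ perp (off s) :=
  mem_sp.2 fun j hj => by
    have : j ≠ i := fun e => hj (e ▸ hi)
    simp [bh, this]

theorem sp_mono {s t : Finset (Fin m)} (h : s ⊆ t) {v : Vec} (hv : v ∈ perp (off s)) : v ∈ perp (off t) :=
  mem_sp.2 fun j hj => mem_sp.1 hv j fun hj' => hj (h hj')

theorem pair (s : Finset (Fin m)) {i : Fin m} (hi : i ∈ s) : Pair (off s) (be i : Vec) (bh i) :=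
  ⟨be_mem hi, bh_mem hi, f_be_bh i⟩

theorem good (s : Finset (Fin m)) : Good (off (F := F) s) := by
  intro v hv hne
  obtain ⟨k, hk⟩ : ∃ k, v k ≠ 0 := by
    by_contra h
    push Not at h
    exact hne (funext h)
  rcases k with j | j
  · have hj : j ∈ s := by
      by_contra h
      exact hk (mem_sp.1 hv j h).1
    refine ⟨(-(v (Sum.inl j))⁻¹) • be j, Submodule.smul_mem _ _ (be_mem hj), ?_⟩
    rw [f_smul_right, f_be']
    field_simp
  · have hj : j ∈ s := by
      by_contra h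
      exact hk (mem_sp.1 hv j h).2
    refine ⟨(v (Sum.inr j))⁻¹ • bh j, Submodule.smul_mem _ _ (bh_mem hj), ?_⟩
    rw [f_smul_right, f_bh']
    field_simp

theorem next_off {s : Finset (Fin m)} {i : Fin m} (hi : i ∈ s) :
    next (off s) (be i : Vec) (bh i) = off (s.erase i) := by
  ext v
  simp only [next, off, Set.mem_union, Set.mem_ofPred_eq, Set.mem_insert_iff, Set.mem_singleton_iff,
    Finset.mem_erase]
  constructor
  · rintro (⟨j, hj, h⟩ | h | h)
    · exact ⟨j, fun h' => hj h'.2, h⟩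
    · exact ⟨i, fun h' => h'.1 rfl, Or.inl h⟩
    · exact ⟨i, fun h' => h'.1 rfl, Or.inr h⟩
  · rintro ⟨j, hj, h⟩
    by_cases hji : j = i
    · subst hji; exact Or.inr h
    · exact Or.inl ⟨j, fun h' => hj ⟨hji, h'⟩, h⟩

/-- The isometries living on a set of pairs. -/
def fx (s : Finset (Fin m)) : Subgroup (symplecticGroup (Fin m) F) := fixer (off s)

theorem fix_outside {s : Finset (Fin m)} {A : Sp} (hA : A ∈ fx s) {v : Vec}
    (hv : ∀ j ∈ s, v (Sum.inl j) = 0 ∧ v (Sum.inr j) = 0) : (A : Mat) *ᵥ v = v := by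
  refine hA v fun u hu => ?_
  rw [sympForm_eq]
  refine Finset.sum_eq_zero fun j _ => ?_
  by_cases hj : j ∈ s
  · simp [hv j hj]
  · simp [(mem_sp.1 hu j hj)]

theorem mem_fx_of_fix {s : Finset (Fin m)} {A : Sp}
    (h : ∀ j ∉ s, (A : Mat) *ᵥ be j = be j ∧ (A : Mat) *ᵥ bh j = bh j) : A ∈ fx s := by
  intro x hx
  have hz : ∀ j ∈ s, x (Sum.inl j) = 0 ∧ x (Sum.inr j) = 0 := fun j hj => by
    have h1 := hx (be j) (be_mem hj)
    have h2 := hx (bh j) (bh_mem hj)
    rw [f_be] at h1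
    rw [f_bh, neg_eq_zero] at h2
    exact ⟨h1, h2⟩
  conv_lhs => rw [decomp x, Matrix.mulVec_sum]
  conv_rhs => rw [decomp x]
  refine Finset.sum_congr rfl fun j _ => ?_
  by_cases hj : j ∈ s
  · simp [hz j hj]
  · rw [Matrix.mulVec_add, Matrix.mulVec_smul, Matrix.mulVec_smul, (h j hj).1, (h j hj).2]

theorem fix_be {s : Finset (Fin m)} {A : Sp} (hA : A ∈ fx s) {j : Fin m} (hj : j ∉ s) :
    (A : Mat) *ᵥ be j = be j :=
  fix_outside hA fun k hk => by
    have : k ≠ j := fun e => hj (e ▸ hk)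
    simp [be, this]

theorem fix_bh {s : Finset (Fin m)} {A : Sp} (hA : A ∈ fx s) {j : Fin m} (hj : j ∉ s) :
    (A : Mat) *ᵥ bh j = bh j :=
  fix_outside hA fun k hk => by
    have : k ≠ j := fun e => hj (e ▸ hk)
    simp [bh, this]

theorem fx_mono {s t : Finset (Fin m)} (h : s ⊆ t) : (fx s : Subgroup Sp) ≤ fx t := fun _ hA =>
  mem_fx_of_fix fun _ hj => ⟨fix_be hA fun hj' => hj (h hj'), fix_bh hA fun hj' => hj (h hj')⟩

theorem fx_empty {A : Sp} (hA : A ∈ fx ∅) : A = 1 :=
  sp_ext fun v => (fix_outside hA fun j hj => absurd hj (Finset.notMem_empty j)).trans (one_mulVec v).symm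

theorem fx_commute {s t : Finset (Fin m)} (hst : Disjoint s t) {A B : Sp} (hA : A ∈ fx s) (hB : B ∈ fx t) :
    Commute A B := by
  rw [fx, fixer_eq (good s)] at hA
  induction hA using Subgroup.closure_induction with
  | mem x hx =>
    obtain ⟨w, c, hw, hx⟩ := hx
    have e : x = tv w c := Subtype.ext hx
    have hw' : w ∈ perp (off s) := hw
    have := tv_conj B w c
    rw [fix_outside hB (fun j hj => mem_sp.1 hw' j (Finset.disjoint_right.1 hst hj)), mul_inv_eq_iff_eq_mul] at this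
    rw [e]
    exact this.symm
  | one => exact Commute.one_left _
  | mul x y _ _ hx hy => exact hx.mul_left hy
  | inv x _ hx => exact hx.inv_left

theorem fx_sp {s : Finset (Fin m)} {A : Sp} (hA : A ∈ fx s) {v : Vec} (hv : v ∈ perp (off s)) :
    (A : Mat) *ᵥ v ∈ perp (off s) :=
  fixer_perp hA hv

/-! ### The Levi factor -/

/-- The action on the two Lagrangians. -/
def gl : SpecialLinearGroup (Fin m) F →* symplecticGroup (Fin m) F where
  toFun g := ⟨Matrix.fromBlocks ((g⁻¹ : SpecialLinearGroup (Fin m) F) : Matrix (Fin m) (Fin m) F)ᵀ 0 0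
      (g : Matrix (Fin m) (Fin m) F), by
    rw [SymplecticGroup.mem_iff, Matrix.J, Matrix.fromBlocks_transpose, Matrix.fromBlocks_multiply,
      Matrix.fromBlocks_multiply]
    have h1 : ((g⁻¹ : SpecialLinearGroup (Fin m) F) : Matrix (Fin m) (Fin m) F)ᵀ *
        (g : Matrix (Fin m) (Fin m) F)ᵀ = 1 := by
      rw [← Matrix.transpose_mul, ← Matrix.SpecialLinearGroup.coe_mul, mul_inv_cancel,
        Matrix.SpecialLinearGroup.coe_one, Matrix.transpose_one]
    have h2 : (g : Matrix (Fin m) (Fin m) F) * ((g⁻¹ : SpecialLinearGroup (Fin m) F) : Matrix (Fin m) (Fin m) F) = 1 := by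
      rw [← Matrix.SpecialLinearGroup.coe_mul, mul_inv_cancel, Matrix.SpecialLinearGroup.coe_one]
    simp only [Matrix.mul_zero, Matrix.zero_mul, Matrix.mul_one, Matrix.one_mul, add_zero, zero_add, Matrix.mul_neg,
      Matrix.neg_mul, Matrix.transpose_zero, Matrix.transpose_transpose, neg_zero, h1, h2]⟩
  map_one' := Subtype.ext (by simp [Matrix.fromBlocks_one])
  map_mul' g g' := Subtype.ext (by
    show Matrix.fromBlocks _ 0 0 _ = Matrix.fromBlocks _ _ _ _ * Matrix.fromBlocks _ _ _ _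
    rw [Matrix.fromBlocks_multiply, _root_.mul_inv_rev, Matrix.SpecialLinearGroup.coe_mul,
      Matrix.SpecialLinearGroup.coe_mul, Matrix.transpose_mul]
    simp)

theorem gl_inr (g : SpecialLinearGroup (Fin m) F) (v : Vec) (a : Fin m) :
    ((gl g : Sp) : Mat).mulVec v (Sum.inr a) = ∑ b, (g : Matrix (Fin m) (Fin m) F) a b * v (Sum.inr b) := by
  simp [gl, Matrix.mulVec, dotProduct, Fintype.sum_sum_type]

theorem gl_inl (g : SpecialLinearGroup (Fin m) F) (v : Vec) (a : Fin m) :
    ((gl g : Sp) : Mat).mulVec v (Sum.inl a) =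
      ∑ b, ((g⁻¹ : SpecialLinearGroup (Fin m) F) : Matrix (Fin m) (Fin m) F) b a * v (Sum.inl b) := by
  simp [gl, Matrix.mulVec, dotProduct, Fintype.sum_sum_type]

theorem T_inv {a b : Fin m} (hab : a ≠ b) (c : F) :
    (T a b c : SpecialLinearGroup (Fin m) F)⁻¹ = T a b (-c) :=
  inv_eq_of_mul_eq_one_right (by rw [← T_add hab, add_neg_cancel, T_zero])

theorem gl_T_un {i j : Fin m} (hij : i ≠ j) (c : F) : (gl (T i j c) : Sp) = un (be i) (c • bh j) 0 := by
  refine sp_ext fun x => funext fun k => ?_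
  have hw : f (be i) (c • bh j : Vec) = 0 := by rw [f_smul_right, f_be]; simp [bh, hij]
  rw [un_mulVec hw, f_smul_right, f_be', f_bh']
  rcases k with a | a
  · rw [gl_inl, T_inv hij, T_coe hij]
    simp only [Matrix.transvection, Matrix.add_apply, Matrix.one_apply, Matrix.single_apply, add_mul,
      Finset.sum_add_distrib, ite_mul, one_mul, zero_mul, be, bh, Pi.add_apply, Pi.smul_apply, smul_eq_mul,
      Pi.single_apply]
    by_cases h : j = a
    · subst h; simp; ring
    · simp [h, Ne.symm h]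
  · rw [gl_inr, T_coe hij]
    simp only [Matrix.transvection, Matrix.add_apply, Matrix.one_apply, Matrix.single_apply, add_mul,
      Finset.sum_add_distrib, ite_mul, one_mul, zero_mul, be, bh, Pi.add_apply, Pi.smul_apply, smul_eq_mul,
      Pi.single_apply]
    by_cases h : i = a
    · subst h; simp
    · simp [h, Ne.symm h]

theorem gl_T_mem {i j : Fin m} (hij : i ≠ j) (c : F) {s : Finset (Fin m)} (hi : i ∈ s) (hj : j ∈ s) :
    (gl (T i j c) : Sp) ∈ fx s := by
  rw [gl_T_un hij]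
  exact un_mem_fixer (be_mem hi) (Submodule.smul_mem _ _ (bh_mem hj)) 0

theorem gl_be {g : SpecialLinearGroup (Fin m) F} {π : Equiv.Perm (Fin m)} {d : Fin m → F}
    (hg : IsMonomial g π d) (j : Fin m) : ((gl g : Sp) : Mat) *ᵥ be j = d j • be (π j) := by
  funext k
  rcases k with a | a
  · rw [gl_inl]
    simp [be]
  · rw [gl_inr]
    simp only [be, Pi.single_apply, Sum.inr.injEq, mul_ite, mul_one, mul_zero, Finset.sum_ite_eq', Finset.mem_univ,
      if_true, hg.2, Pi.smul_apply, smul_eq_mul]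

theorem gl_bh {g : SpecialLinearGroup (Fin m) F} {π : Equiv.Perm (Fin m)} {d : Fin m → F}
    (hg : IsMonomial g π d) (j : Fin m) : ((gl g : Sp) : Mat) *ᵥ bh j = (d j)⁻¹ • bh (π j) := by
  funext k
  rcases k with a | a
  · obtain ⟨l, rfl⟩ := π.surjective a
    have hl := hg.1 l
    have e : f ((gl g : Mat) *ᵥ be l) ((gl g : Mat) *ᵥ bh j : Vec) = f (be l) (bh j : Vec) :=
      sympForm_mulVec _ _ _
    rw [gl_be hg, f_smul_left, f_be, f_be] at e
    rw [← mul_right_inj' hl, e]
    by_cases h : j = l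
    · subst h; simp [bh, hl]
    · simp [bh, h, Ne.symm h]
  · rw [gl_inr]
    simp [bh]

/-- Monomial elements move the supports. -/
theorem gl_conj_mem {g : SpecialLinearGroup (Fin m) F} {π : Equiv.Perm (Fin m)} {d : Fin m → F}
    (hg : IsMonomial g π d) {s t : Finset (Fin m)} (hst : ∀ a ∈ s, π a ∈ t) {A : Sp} (hA : A ∈ fx s) :
    gl g * A * (gl g)⁻¹ ∈ fx t := by
  refine mem_fx_of_fix fun l hl => ?_
  obtain ⟨l, rfl⟩ := π.surjective l
  have hls : l ∉ s := fun h => hl (hst l h)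
  have hd := hg.1 l
  refine ⟨?_, ?_⟩
  · have e : (((gl g : Sp)⁻¹ : Sp) : Mat) *ᵥ be (π l) = (d l)⁻¹ • be l := inv_mulVec_of_eq (by
      rw [Matrix.mulVec_smul, gl_be hg, smul_smul, inv_mul_cancel₀ hd, one_smul])
    rw [mul_mulVec_sp, mul_mulVec_sp, e, Matrix.mulVec_smul, fix_be hA hls, Matrix.mulVec_smul, gl_be hg,
      smul_smul, inv_mul_cancel₀ hd, one_smul]
  · have e : (((gl g : Sp)⁻¹ : Sp) : Mat) *ᵥ bh (π l) = d l • bh l := inv_mulVec_of_eq (by
      rw [Matrix.mulVec_smul, gl_bh hg, smul_smul, mul_inv_cancel₀ hd, one_smul])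
    rw [mul_mulVec_sp, mul_mulVec_sp, e, Matrix.mulVec_smul, fix_bh hA hls, Matrix.mulVec_smul, gl_bh hg,
      smul_smul, mul_inv_cancel₀ hd, one_smul]

theorem gl_T_be {i j : Fin m} (hij : i ≠ j) (c : F) (k : Fin m) :
    ((gl (T i j c) : Sp) : Mat) *ᵥ be k = be k + (if k = j then c else 0) • be i := by
  have hw : f (be i) (c • bh j : Vec) = 0 := by rw [f_smul_right, f_be]; simp [bh, hij]
  rw [gl_T_un hij, un_mulVec hw, f_smul_right, f_be', f_bh']
  by_cases h : k = j
  · subst h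
    simp [be, bh]
  · simp [be, bh, h, Ne.symm h]

/-- The Weyl element taking the first vector of `a` to that of `b`. -/
def wel (a b : Fin m) : SpecialLinearGroup (Fin m) F := wWord (fun i j c => T i j c) b a 1

theorem idSys' : IsSystem (MonoidHom.id (SpecialLinearGroup (Fin m) F)) (fun i j a => T i j a) :=
  ⟨fun _ _ _ _ => rfl, fun _ _ h => T_add h, fun _ _ _ _ h1 h2 h3 h4 => T_comm h1 h2 h3 h4,
    fun _ _ _ h1 h2 h3 a b => T_bracket h3 h1 h2 a b⟩

theorem wel_monomial {a b : Fin m} (hab : a ≠ b) :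
    IsMonomial (wel (F := F) a b) (Equiv.swap b a) fun k => if k = a then 1 else if k = b then -1 else 1 := by
  have := w_monomial (σ := MonoidHom.id (SpecialLinearGroup (Fin m) F)) (idSys' (F := F)) hab.symm (one_ne_zero (α := F))
  simpa [wel] using this

theorem wel_mem {a b : Fin m} (hab : a ≠ b) {s : Finset (Fin m)} (ha : a ∈ s) (hb : b ∈ s) :
    (gl (wel a b) : Sp) ∈ fx s := by
  simp only [wel, wWord, map_mul]
  exact mul_mem (mul_mem (gl_T_mem hab.symm _ hb ha) (gl_T_mem hab _ ha hb)) (gl_T_mem hab.symm _ hb ha)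

theorem wel_be {a b : Fin m} (hab : a ≠ b) : ((gl (wel a b) : Sp) : Mat) *ᵥ be a = be b := by
  rw [gl_be (wel_monomial hab)]
  simp

theorem wel_be' {a b : Fin m} (hab : a ≠ b) : ((gl (wel a b) : Sp) : Mat) *ᵥ be b = -be a := by
  rw [gl_be (wel_monomial hab)]
  simp [hab.symm]

theorem wel_conj {a b : Fin m} (hab : a ≠ b) {i j : Fin m} (hij : i ≠ j) (c : F) :
    wel a b * T i j c * (wel a b)⁻¹ = T (Equiv.swap b a i) (Equiv.swap b a j)
      ((if i = a then 1 else if i = b then -1 else 1) / (if j = a then 1 else if j = b then -1 else 1) * c) :=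
  (wel_monomial hab).conj hij c

theorem wel_conj_wel {i j k : Fin m} (hij : i ≠ j) (hik : i ≠ k) (hjk : j ≠ k) :
    wel (F := F) j k * wel i j * (wel j k)⁻¹ = wel i k := by
  show wel j k * (T j i 1 * T i j (-1⁻¹) * T j i 1) * (wel j k)⁻¹ = T k i 1 * T i k (-1⁻¹) * T k i 1
  rw [show wel j k * (T j i 1 * T i j (-1⁻¹) * T j i 1) * (wel j k)⁻¹ = (wel j k * T j i (1 : F) * (wel j k)⁻¹) *
    (wel j k * T i j (-1⁻¹) * (wel j k)⁻¹) * (wel j k * T j i 1 * (wel j k)⁻¹) by group,
    wel_conj hjk hij.symm, wel_conj hjk hij]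
  simp [hij, hik, Equiv.swap_apply_of_ne_of_ne]

/-- An element exchanging the vectors of a pair. -/
theorem exists_flip (k : Fin m) : ∃ A : Sp, A ∈ fx {k} ∧ (A : Mat) *ᵥ bh k = be k := by
  obtain ⟨A, hA, -, h⟩ := move (pair (F := F) {k} (Finset.mem_singleton_self k))
    (show Pair (off ({k} : Finset (Fin m))) (-bh k : Vec) (be k) from
      ⟨neg_mem (bh_mem (Finset.mem_singleton_self k)), be_mem (Finset.mem_singleton_self k), by
        rw [f_neg_left, sympForm_swap, f_be_bh, neg_neg]⟩)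
  exact ⟨A, hA, h⟩

end Cfsg.Agent.ShortPres.Symp
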