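import Cfsg.Agent.Lib.ShortPres.FourFacts
import Cfsg.Agent.Lib.ShortPres.SympBasics
import Mathlib

/-!
The symplectic group of rank two from two copies of `SL₂`.
-/

set_option autoImplicit false
set_option linter.unusedSectionVars false
set_option linter.unusedSimpArgs false

namespace Cfsg.Agent.ShortPres.Four

open Matrix Cfsg.Agent.Classical.GL2 Cfsg.Agent.ShortPres Cfsg.Agent.Forms.SympStd
  Cfsg.Agent.Classical.Symplectic
open scoped MatrixGroups

universe u w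

variable {F : Type u} [Field F] {H : Type w} [Group H]

local notation "Sp" => symplecticGroup (Fin 2) F
local notation "Mat" => Matrix (Fin 2 ⊕ Fin 2) (Fin 2 ⊕ Fin 2) F

theorem det_two (g : SL(2, F)) : g.1 0 0 * g.1 1 1 - g.1 0 1 * g.1 1 0 = 1 := by
  have := g.2; rwa [det_fin_two] at this

/-- The matrix of the first copy. -/
def epsMat (a : Matrix (Fin 2) (Fin 2) F) : Mat :=
  Matrix.fromBlocks !![a 1 1, 0; 0, 1] !![a 1 0, 0; 0, 0] !![a 0 1, 0; 0, 0] !![a 0 0, 0; 0, 1]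

theorem epsMat_mul (a b : Matrix (Fin 2) (Fin 2) F) : epsMat (a * b) = epsMat a * epsMat b := by
  simp only [epsMat, Matrix.fromBlocks_multiply, Matrix.mul_apply, Fin.sum_univ_two]
  congr 1 <;> (ext i j; fin_cases i <;> fin_cases j <;> simp [Matrix.mul_apply, Fin.sum_univ_two] <;> ring)

theorem epsMat_mem (g : SL(2, F)) : epsMat g.1 ∈ symplecticGroup (Fin 2) F := by
  have hd := det_two g
  rw [SymplecticGroup.mem_iff, Matrix.J, epsMat, Matrix.fromBlocks_transpose, Matrix.fromBlocks_multiply,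
    Matrix.fromBlocks_multiply]
  congr 1 <;> (ext i j; fin_cases i <;> fin_cases j <;>
    simp [Matrix.mul_apply, Fin.sum_univ_two, Matrix.vecMul, dotProduct] <;>
      first | ring1 | linear_combination hd | linear_combination -hd)

/-- The first copy. -/
def eps : SL(2, F) →* Sp where
  toFun g := ⟨epsMat g.1, epsMat_mem g⟩
  map_one' := Subtype.ext (by
    show epsMat (1 : Matrix (Fin 2) (Fin 2) F) = 1
    ext (i | i) (j | j) <;> fin_cases i <;> fin_cases j <;> simp [epsMat])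
  map_mul' g g' := Subtype.ext (by
    show epsMat (g * g' : SL(2, F)).1 = _
    exact epsMat_mul g.1 g'.1)

theorem coe_eps (g : SL(2, F)) : (eps g : Mat) = epsMat g.1 := rfl

theorem coe_gl (g : SL(2, F)) : (Symp.gl g : Mat) =
    Matrix.fromBlocks !![g.1 1 1, -g.1 1 0; -g.1 0 1, g.1 0 0] 0 0 g.1 := by
  show Matrix.fromBlocks _ 0 0 _ = _
  congr 1
  rw [Matrix.SpecialLinearGroup.coe_inv, Matrix.adjugate_fin_two]
  ext i j; fin_cases i <;> fin_cases j <;> simp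

theorem coe_beta (g : SL(2, F)) : (β (eps (F := F)) Symp.gl g : Mat) =
    Matrix.fromBlocks !![1, 0; 0, g.1 1 1] !![0, 0; 0, g.1 1 0] !![0, 0; 0, g.1 0 1] !![1, 0; 0, g.1 0 0] := by
  have e : β (eps (F := F)) Symp.gl g = Symp.gl stEl * eps g * Symp.gl (stEl : SL(2, F))⁻¹ := by
    rw [beta_apply, map_inv]
  have hi : ((stEl : SL(2, F))⁻¹ : SL(2, F)).1 = !![0, -1; 1, 0] := by
    rw [Matrix.SpecialLinearGroup.coe_inv, coe_stEl, Matrix.adjugate_fin_two]
    simp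
  rw [e]
  show ((Symp.gl (stEl : SL(2, F)) : Sp) : Mat) * ((eps g : Sp) : Mat) * ((Symp.gl (stEl : SL(2, F))⁻¹ : Sp) : Mat) = _
  rw [coe_gl, coe_gl, coe_eps, epsMat, hi, coe_stEl, Matrix.fromBlocks_multiply, Matrix.fromBlocks_multiply]
  congr 1 <;> (ext i j; fin_cases i <;> fin_cases j <;> simp [Matrix.mul_apply, Fin.sum_univ_two])

/-! ### The point stabiliser and the cosets -/

variable (α ψ : SL(2, F) →* H)

/-- An element of the radical. -/
def el (x y c : F) : H := ψ (uniSL x) * q α ψ y * α (uniSL c)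

variable {α ψ} [Fintype F] {z : Fˣ} (h : Rels α ψ z)
include h

theorem el_mul (x y c x' y' c' : F) :
    el α ψ x y c * el α ψ x' y' c' = el α ψ (x + x') (y + y') (c + c' + 2 * x' * y) := by
  simp only [el, uni_add, map_mul, q_add]
  calc _ = ψ (uniSL x) * q α ψ y * (α (uniSL c) * ψ (uniSL x')) * q α ψ y' * α (uniSL c') := by group
    _ = ψ (uniSL x) * (q α ψ y * ψ (uniSL x')) * (α (uniSL c) * q α ψ y') * α (uniSL c') := by
      rw [← (T_X0 h x' c).eq]; group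
    _ = ψ (uniSL x) * ψ (uniSL x') * q α ψ y * (α (uniSL (2 * x' * y)) * q α ψ y') * α (uniSL c) * α (uniSL c') := by
      rw [q_T h, ← (q_X0 h y' c).eq]; group
    _ = ψ (uniSL x) * ψ (uniSL x') * q α ψ y * q α ψ y' * (α (uniSL (2 * x' * y)) * α (uniSL c) * α (uniSL c')) := by
      rw [← (q_X0 h y' _).eq]; group
    _ = _ := by
      rw [← map_mul α, ← map_mul α, ← map_mul α, ← map_mul α, ← uni_add, ← uni_add, ← uni_add, ← uni_add,
        show 2 * x' * y + c + c' = c + c' + 2 * x' * y by ring]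
      group

omit h in
theorem el_zero : el α ψ 0 0 0 = 1 := by simp [el, uni_zero, q_zero]

/-- The radical. -/
def Qs : Subgroup H where
  carrier := {g | ∃ x y c, g = el α ψ x y c}
  one_mem' := ⟨0, 0, 0, (el_zero).symm⟩
  mul_mem' := by rintro _ _ ⟨x, y, c, rfl⟩ ⟨x', y', c', rfl⟩; exact ⟨_, _, _, el_mul h x y c x' y' c'⟩
  inv_mem' := by
    rintro _ ⟨x, y, c, rfl⟩
    refine ⟨-x, -y, -c + 2 * x * y, inv_eq_of_mul_eq_one_right ?_⟩
    rw [el_mul h, add_neg_cancel, add_neg_cancel, show c + (-c + 2 * x * y) + 2 * -x * y = 0 by ring, el_zero]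

theorem el_mem (x y c : F) : el α ψ x y c ∈ Qs h := ⟨x, y, c, rfl⟩

theorem T_memQ (x : F) : ψ (uniSL x) ∈ Qs h := ⟨x, 0, 0, by simp [el, uni_zero, q_zero]⟩

theorem q_memQ (y : F) : q α ψ y ∈ Qs h := ⟨0, y, 0, by simp [el, uni_zero]⟩

theorem X0_memQ (c : F) : α (uniSL c) ∈ Qs h := ⟨0, 0, c, by simp [el, uni_zero, q_zero]⟩

theorem beta_q_conj (y : F) : β α ψ stEl * q α ψ y * (β α ψ stEl)⁻¹ = ψ (uniSL (-y)) := by
  rw [flip' h, show β α ψ stEl * (β α ψ stEl * ψ (uniSL y) * (β α ψ stEl)⁻¹) * (β α ψ stEl)⁻¹ =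
    β α ψ stEl * β α ψ stEl * ψ (uniSL y) * (β α ψ stEl * β α ψ stEl)⁻¹ by group, ← map_mul, st_sq_sh, t1_T h,
    Units.val_neg, Units.val_one, inv_neg, inv_one, neg_one_mul]

omit h in
theorem sl_gen {S : Subgroup SL(2, F)} (h1 : ∀ c, uniSL c ∈ S) (h2 : stEl ∈ S) (g : SL(2, F)) : g ∈ S := by
  rw [Classical.Linear.eq_top_of_transvection_mem S fun i j hij c => ?_]
  · exact Subgroup.mem_top g
  · fin_cases i <;> fin_cases j
    · exact absurd rfl hij
    · have e : SpecialLinearGroup.transvection hij c = uniSL c := by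
        apply mat_ext
        rw [coe_uniSL, SpecialLinearGroup.transvection]
        ext a b; fin_cases a <;> fin_cases b <;> simp [Matrix.transvection, Matrix.single]
      rw [e]; exact h1 c
    · have e : SpecialLinearGroup.transvection hij c = stEl * uniSL (-c) * (stEl : SL(2, F))⁻¹ := by
        apply mat_ext
        rw [st_conj_uni, neg_neg, coe_lowSL, SpecialLinearGroup.transvection]
        ext a b; fin_cases a <;> fin_cases b <;> simp [Matrix.transvection, Matrix.single]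
      rw [e]; exact mul_mem (mul_mem h2 (h1 _)) (inv_mem h2)
    · exact absurd rfl hij

theorem beta_norm (g : SL(2, F)) : ∀ x ∈ Qs h, β α ψ g * x * (β α ψ g)⁻¹ ∈ Qs h := by
  let S : Subgroup SL(2, F) :=
    { carrier := {g | ∀ x ∈ Qs h, β α ψ g * x * (β α ψ g)⁻¹ ∈ Qs h}
      one_mem' := fun x hx => by simpa using hx
      mul_mem' := fun {a b} ha hb x hx => by
        have := ha _ (hb x hx)
        rwa [map_mul, show β α ψ a * β α ψ b * x * (β α ψ a * β α ψ b)⁻¹ =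
          β α ψ a * (β α ψ b * x * (β α ψ b)⁻¹) * (β α ψ a)⁻¹ by group]
      inv_mem' := fun {a} ha => by
        have hp : ∀ n : ℕ, ∀ x ∈ Qs h, β α ψ (a ^ n) * x * (β α ψ (a ^ n))⁻¹ ∈ Qs h := by
          intro n
          induction n with
          | zero => intro x hx; simpa using hx
          | succ n ih =>
            intro x hx
            have := ha _ (ih x hx)
            rwa [pow_succ', map_mul, show β α ψ a * β α ψ (a ^ n) * x * (β α ψ a * β α ψ (a ^ n))⁻¹ =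
              β α ψ a * (β α ψ (a ^ n) * x * (β α ψ (a ^ n))⁻¹) * (β α ψ a)⁻¹ by group]
        have e : a⁻¹ = a ^ (orderOf a - 1) :=
          inv_eq_of_mul_eq_one_right (by
            rw [← pow_succ', Nat.sub_add_cancel (orderOf_pos a), pow_orderOf_eq_one])
        show ∀ x ∈ Qs h, _
        rw [e]
        exact hp _ }
  suffices hS : g ∈ S from hS
  have gens : ∀ (b : SL(2, F)), (∀ x, β α ψ b * ψ (uniSL x) * (β α ψ b)⁻¹ ∈ Qs h) →
      (∀ y, β α ψ b * q α ψ y * (β α ψ b)⁻¹ ∈ Qs h) → b ∈ S := by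
    intro b h1 h2
    rintro _ ⟨x, y, c, rfl⟩
    rw [el, show β α ψ b * (ψ (uniSL x) * q α ψ y * α (uniSL c)) * (β α ψ b)⁻¹ =
      (β α ψ b * ψ (uniSL x) * (β α ψ b)⁻¹) * (β α ψ b * q α ψ y * (β α ψ b)⁻¹) *
        (β α ψ b * α (uniSL c) * (β α ψ b)⁻¹) by group, ← (h.comm _ _).eq, mul_inv_cancel_right]
    exact mul_mem (mul_mem (h1 x) (h2 y)) (X0_memQ h c)
  refine sl_gen (fun a => gens _ (fun x => ?_) fun y => ?_) (gens _ (fun x => ?_) fun y => ?_) g
  · rw [X1_T h]; exact ⟨_, _, _, rfl⟩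
  · rw [← (q_X1 h y a).eq, mul_inv_cancel_right]; exact q_memQ h y
  · rw [← flip' h]; exact q_memQ h x
  · rw [beta_q_conj h]; exact T_memQ h _

/-- The elements without a component in the block. -/
theorem el_split (x y c : F) : el α ψ x y c = el α ψ 0 y (c - 2 * x * y) * ψ (uniSL x) := by
  rw [show ψ (uniSL x) = el α ψ x 0 0 by simp [el, uni_zero, q_zero], el_mul h, zero_add, add_zero, add_zero,
    sub_add_cancel]

theorem W_q (y : F) : ψ stEl * q α ψ y * (ψ stEl)⁻¹ = q α ψ (-y) := by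
  rw [flip' h (-y), q, show ψ stEl * (α stEl * ψ (lowSL y) * (α stEl)⁻¹) * (ψ stEl)⁻¹ =
    (ψ stEl * α stEl * (ψ stEl)⁻¹) * (ψ stEl * ψ (lowSL y) * (ψ stEl)⁻¹) *
      (ψ stEl * α stEl * (ψ stEl)⁻¹)⁻¹ by group, ← beta_apply]
  congr 2
  rw [← map_inv, ← map_mul, ← map_mul, st_conj_low]

/-- The stabiliser of the line. -/
def Ps : Subgroup H := Qs h ⊔ ((β α ψ).range ⊔ (α.comp (shHom (F := F))).range)

theorem Q_le {x : H} (hx : x ∈ Qs h) : x ∈ Ps h := Subgroup.mem_sup_left hx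

theorem beta_mem (b : SL(2, F)) : β α ψ b ∈ Ps h := Subgroup.mem_sup_right (Subgroup.mem_sup_left ⟨b, rfl⟩)

theorem t_mem (a : Fˣ) : α (shEl a) ∈ Ps h := Subgroup.mem_sup_right (Subgroup.mem_sup_right ⟨a, rfl⟩)

theorem mem_Ps {g : H} (hg : g ∈ Ps h) : ∃ x y c b a, g = el α ψ x y c * (β α ψ b * α (shEl a)) := by
  set L := (β α ψ).range ⊔ (α.comp (shHom (F := F))).range with hL
  have hn : L ≤ Subgroup.normalizer (Qs h : Set H) := by
    rw [hL, sup_le_iff]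
    constructor
    · rintro _ ⟨b, rfl⟩
      rw [Subgroup.mem_normalizer_iff]
      intro x
      refine ⟨fun hx => beta_norm h b x hx, fun hx => ?_⟩
      have := beta_norm h b⁻¹ _ hx
      rwa [map_inv, show (β α ψ b)⁻¹ * (β α ψ b * x * (β α ψ b)⁻¹) * (β α ψ b)⁻¹⁻¹ = x by group] at this
    · have key : ∀ a : Fˣ, ∀ x ∈ Qs h, α (shEl a) * x * (α (shEl a))⁻¹ ∈ Qs h := by
        rintro a _ ⟨x, y, c, rfl⟩
        rw [el, show α (shEl a) * (ψ (uniSL x) * q α ψ y * α (uniSL c)) * (α (shEl a))⁻¹ =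
          (α (shEl a) * ψ (uniSL x) * (α (shEl a))⁻¹) * (α (shEl a) * q α ψ y * (α (shEl a))⁻¹) *
            (α (shEl a) * α (uniSL c) * (α (shEl a))⁻¹) by group, t_T h, t_q h, t_X h]
        exact ⟨_, _, _, rfl⟩
      rintro _ ⟨a, rfl⟩
      rw [Subgroup.mem_normalizer_iff]
      intro x
      refine ⟨fun hx => key a x hx, fun hx => ?_⟩
      have h1 : α (shEl a⁻¹) = (α (shEl a))⁻¹ := by rw [← sh_inv, map_inv]
      have := key a⁻¹ _ hx
      rwa [h1, show (α (shEl a))⁻¹ * ((α.comp (shHom (F := F))) a * x * ((α.comp (shHom (F := F))) a)⁻¹) *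
        (α (shEl a))⁻¹⁻¹ = x by show (α (shEl a))⁻¹ * (α (shEl a) * x * (α (shEl a))⁻¹) * _ = _; group] at this
  have hg' : g ∈ ((Ps h : Subgroup H) : Set H) := hg
  rw [Ps, Subgroup.coe_mul_of_right_le_normalizer_left _ _ hn] at hg'
  obtain ⟨_, ⟨x, y, c, rfl⟩, l, hl, e⟩ := hg'
  have hn' : (α.comp (shHom (F := F))).range ≤ Subgroup.normalizer ((β α ψ).range : Set H) := by
    rintro _ ⟨a, rfl⟩
    rw [Subgroup.mem_normalizer_iff]
    intro w
    have hc : ∀ b, α (shEl a) * β α ψ b * (α (shEl a))⁻¹ = β α ψ b := fun b => by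
      rw [(h.comm _ b).eq, mul_inv_cancel_right]
    refine ⟨?_, ?_⟩
    · rintro ⟨b, rfl⟩; exact ⟨b, (hc b).symm⟩
    · rintro ⟨b, hb⟩
      refine ⟨b, ?_⟩
      have h2 : α (shEl a) * β α ψ b * (α (shEl a))⁻¹ = α (shEl a) * w * (α (shEl a))⁻¹ := (hc b).trans hb
      simpa using h2
  have hl' : l ∈ ((L : Subgroup H) : Set H) := hl
  rw [hL, Subgroup.coe_mul_of_right_le_normalizer_left _ _ hn'] at hl'
  obtain ⟨_, ⟨b, rfl⟩, _, ⟨a, rfl⟩, e'⟩ := hl'
  exact ⟨x, y, c, b, a, by rw [← e, ← e']; rfl⟩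

/-- The three double cosets. -/
def cells : Set H :=
  {g | ∃ p ∈ Ps h, ∃ p' ∈ Ps h, ∃ b, (b = 1 ∨ b = ψ stEl ∨ b = α stEl) ∧ g = p * b * p'}

theorem cells_mul {g p p' : H} (hg : g ∈ cells h) (hp : p ∈ Ps h) (hp' : p' ∈ Ps h) : p * g * p' ∈ cells h := by
  obtain ⟨a, ha, a', ha', b, hb, rfl⟩ := hg
  exact ⟨p * a, mul_mem hp ha, a' * p', mul_mem ha' hp', b, hb, by group⟩

theorem cells_base {b : H} (hb : b = 1 ∨ b = ψ stEl ∨ b = α stEl) : b ∈ cells h :=
  ⟨1, one_mem _, 1, one_mem _, b, hb, by group⟩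

theorem psi_sh_mem (a : Fˣ) : ψ (shEl a) ∈ Ps h := by
  rw [sh_all h]; exact mul_mem (t_mem h a) (beta_mem h _)

/-- The block lies in two cells. -/
theorem blk (g : SL(2, F)) : (∃ u p, p ∈ Ps h ∧ ψ g = ψ (uniSL u) * ψ stEl * p) ∨ ψ g ∈ Ps h := by
  have hd := det_two g
  by_cases hc : g.1 1 0 = 0
  · right
    have ha : g.1 0 0 ≠ 0 := fun ha => by simp [ha, hc] at hd
    have e : g = shEl (Units.mk0 _ ha) * uniSL (g.1 0 1 / g.1 0 0) := by
      apply mat_ext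
      simp only [Matrix.SpecialLinearGroup.coe_mul, coe_shEl, coe_uniSL, mul_fin_two, Units.val_mk0]
      ext i j; fin_cases i <;> fin_cases j <;> simp [hc] <;> field_simp
      rw [hc] at hd; linear_combination hd
    rw [e, map_mul]
    exact mul_mem (psi_sh_mem h _) (Q_le h (T_memQ h _))
  · left
    set l : Fˣ := Units.mk0 (-g.1 1 0) (neg_ne_zero.2 hc)
    have e : g = uniSL (g.1 0 0 / g.1 1 0) * stEl * (shEl l * uniSL (g.1 1 1 / g.1 1 0)) := by
      apply mat_ext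
      simp only [Matrix.SpecialLinearGroup.coe_mul, coe_stEl, coe_shEl, coe_uniSL, mul_fin_two, l, Units.val_mk0]
      ext i j; fin_cases i <;> fin_cases j <;> simp <;> field_simp
      linear_combination -hd
    refine ⟨g.1 0 0 / g.1 1 0, _, mul_mem (psi_sh_mem h l) (Q_le h (T_memQ h (g.1 1 1 / g.1 1 0))), ?_⟩
    conv_lhs => rw [e]
    simp only [map_mul]

theorem blk_cells (g : SL(2, F)) : ψ g ∈ cells h := by
  rcases blk h g with ⟨u, p, hp, e⟩ | hp
  · rw [e]; exact ⟨_, Q_le h (T_memQ h u), p, hp, _, Or.inr (Or.inl rfl), rfl⟩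
  · exact ⟨_, hp, 1, one_mem _, 1, Or.inl rfl, by group⟩

theorem low_conj_mem (u c : F) : α (uniSL c) * ψ (lowSL u) * (α (uniSL c))⁻¹ * (ψ (lowSL u))⁻¹ ∈ Ps h := by
  have hLq : ∀ u y, ψ (lowSL u) * q α ψ y * (ψ (lowSL u))⁻¹ ∈ Ps h := by
    intro u y
    have e := congrArg (fun g => ψ stEl * g * (ψ stEl)⁻¹) (q_T h (-y) u)
    rw [show ψ stEl * (q α ψ (-y) * ψ (uniSL u)) * (ψ stEl)⁻¹ =
      (ψ stEl * q α ψ (-y) * (ψ stEl)⁻¹) * (ψ stEl * ψ (uniSL u) * (ψ stEl)⁻¹) by group,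
      show ∀ X, ψ stEl * (ψ (uniSL u) * q α ψ (-y) * α (uniSL X)) * (ψ stEl)⁻¹ =
        (ψ stEl * ψ (uniSL u) * (ψ stEl)⁻¹) * (ψ stEl * q α ψ (-y) * (ψ stEl)⁻¹) *
          (ψ stEl * α (uniSL X) * (ψ stEl)⁻¹) from fun X => by group,
      W_q h, W_T h, neg_neg, ← beta_apply] at e
    have hinv : ψ (lowSL (-u)) = (ψ (lowSL u))⁻¹ :=
      eq_inv_of_mul_eq_one_left (by rw [← map_mul, ← low_add, neg_add_cancel, low_zero, map_one])
    rw [hinv, mul_assoc ((ψ (lowSL u))⁻¹), eq_inv_mul_iff_mul_eq, ← mul_assoc] at e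
    rw [e]
    exact mul_mem (Q_le h (q_memQ h y)) (beta_mem h _)
  have e := congrArg (fun g => ψ stEl * g * (ψ stEl)⁻¹) (X1_T h c (-u))
  rw [show ψ stEl * (β α ψ (uniSL c) * ψ (uniSL (-u)) * (β α ψ (uniSL c))⁻¹) * (ψ stEl)⁻¹ =
    (ψ stEl * β α ψ (uniSL c) * (ψ stEl)⁻¹) * (ψ stEl * ψ (uniSL (-u)) * (ψ stEl)⁻¹) *
      (ψ stEl * β α ψ (uniSL c) * (ψ stEl)⁻¹)⁻¹ by group,
    show ψ stEl * (ψ (uniSL (-u)) * q α ψ (c * -u) * α (uniSL (c * (-u) ^ 2))) * (ψ stEl)⁻¹ =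
      (ψ stEl * ψ (uniSL (-u)) * (ψ stEl)⁻¹) * (ψ stEl * q α ψ (c * -u) * (ψ stEl)⁻¹) *
        (ψ stEl * α (uniSL (c * (-u) ^ 2)) * (ψ stEl)⁻¹) by group,
    beta_st h, W_q h, W_T h, neg_neg, ← beta_apply] at e
  rw [e, show ∀ L Q X : H, L * Q * X * L⁻¹ = (L * Q * L⁻¹) * (L * X * L⁻¹) from fun L Q X => by group,
    (L_X1 h u _).eq, mul_inv_cancel_right]
  exact mul_mem (hLq _ _) (beta_mem h _)

theorem low_s1_W (u : F) : ψ (lowSL u) * β α ψ stEl * ψ stEl ∈ cells h := by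
  have hs1 := beta_mem h (stEl : SL(2, F))
  by_cases hu : u = 0
  · rw [hu, low_zero, map_one, one_mul]
    exact ⟨_, hs1, 1, one_mem _, _, Or.inr (Or.inl rfl), by group⟩
  set l : Fˣ := Units.mk0 (-u) (neg_ne_zero.2 hu)
  have e : (lowSL u : SL(2, F)) = uniSL u⁻¹ * stEl * (shEl l * uniSL u⁻¹) := by
    apply mat_ext
    simp only [Matrix.SpecialLinearGroup.coe_mul, coe_lowSL, coe_stEl, coe_shEl, coe_uniSL, mul_fin_two, l,
      Units.val_mk0]
    ext i j; fin_cases i <;> fin_cases j <;> simp [hu]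
  have e1 : ψ (uniSL u⁻¹) * β α ψ stEl = β α ψ stEl * q α ψ (-u⁻¹) := by
    have h2 : β α ψ stEl * q α ψ (-u⁻¹) * (β α ψ stEl)⁻¹ = ψ (uniSL u⁻¹) := by rw [beta_q_conj h, neg_neg]
    rw [← h2, inv_mul_cancel_right]
  have e2 : q α ψ (-u⁻¹) * ψ stEl = ψ stEl * q α ψ u⁻¹ := by rw [← W_q h u⁻¹]; group
  have e3 : ψ (shEl l) * β α ψ stEl = β α ψ stEl * (α (shEl l) * β α ψ (shEl l)) := by
    rw [sh_all h, mul_assoc, ← map_mul, ← mul_assoc (β α ψ stEl), ← (h.comm (shEl l) stEl).eq,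
      mul_assoc (α (shEl l)), ← map_mul]
    congr 2
    apply mat_ext
    simp [Matrix.SpecialLinearGroup.coe_mul, coe_stEl, coe_shEl, mul_fin_two]
  have e4 : α (shEl l) * β α ψ (shEl l) * ψ stEl = ψ stEl * (β α ψ (shEl l) * α (shEl l)) := by
    conv_lhs => rw [← beta_st h (shEl l)]
    rw [beta_apply (α := α) (ψ := ψ) (shEl l)]
    group
  have e5 : ψ stEl * β α ψ stEl * ψ stEl = α stEl * ψ (shEl (-1)) := by
    rw [← st_sq_sh, map_mul]
    conv_rhs => rw [← beta_st h]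
    group
  refine ⟨_, Q_le h (T_memQ h u⁻¹), ψ (shEl (-1)) * (β α ψ (shEl l) * α (shEl l)) * q α ψ u⁻¹,
    mul_mem (mul_mem (psi_sh_mem h _) (mul_mem (beta_mem h _) (t_mem h _))) (Q_le h (q_memQ h _)), α stEl,
    Or.inr (Or.inr rfl), ?_⟩
  calc ψ (lowSL u) * β α ψ stEl * ψ stEl
      = ψ (uniSL u⁻¹) * ψ stEl * ψ (shEl l) * (ψ (uniSL u⁻¹) * β α ψ stEl) * ψ stEl := by
        rw [e, map_mul, map_mul, map_mul]; group
    _ = ψ (uniSL u⁻¹) * ψ stEl * (ψ (shEl l) * β α ψ stEl) * (q α ψ (-u⁻¹) * ψ stEl) := by rw [e1]; group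
    _ = ψ (uniSL u⁻¹) * ψ stEl * β α ψ stEl * (α (shEl l) * β α ψ (shEl l) * ψ stEl) * q α ψ u⁻¹ := by
        rw [e2, e3]; group
    _ = ψ (uniSL u⁻¹) * (ψ stEl * β α ψ stEl * ψ stEl) * (β α ψ (shEl l) * α (shEl l)) * q α ψ u⁻¹ := by
        rw [e4]; group
    _ = _ := by rw [e5]; group

theorem low_alpha_W (u : F) (g : SL(2, F)) {b : H} (hb : b = 1 ∨ b = ψ stEl ∨ b = α stEl) :
    ψ (lowSL u) * α g * (ψ stEl * b) ∈ cells h := by
  have absR : ∀ {x p : H}, x ∈ cells h → p ∈ Ps h → x * p ∈ cells h := fun {x p} hx hp => by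
    simpa using cells_mul h hx (one_mem _) hp
  have hW2 : ψ stEl * ψ stEl = ψ (shEl (-1)) := by rw [← map_mul, st_sq_sh]
  have hWs : ψ stEl * α stEl = β α ψ stEl * ψ stEl := by rw [beta_apply]; group
  have hsW : α stEl * ψ stEl = ψ stEl * β α ψ stEl := by
    conv_lhs => rw [← beta_st h]
    group
  have hLW : ∀ u, ψ (lowSL u) * ψ stEl ∈ cells h := fun u => by rw [← map_mul]; exact blk_cells h _
  have hLs : ∀ u, ψ (lowSL u) * α stEl ∈ cells h := by
    intro u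
    have e : (α stEl)⁻¹ * ψ (lowSL u) * α stEl ∈ Ps h := by
      have k := t_q h (-1) u
      rw [q, ← st_sq_sh, map_mul, Units.val_neg, Units.val_one, neg_one_mul] at k
      have k' : (α stEl)⁻¹ * ψ (lowSL u) * α stEl = q α ψ (-u) := by
        rw [show α stEl * α stEl * (α stEl * ψ (lowSL u) * (α stEl)⁻¹) * (α stEl * α stEl)⁻¹ =
          α stEl * α stEl * α stEl * ψ (lowSL u) * (α stEl * α stEl * α stEl)⁻¹ by group] at k
        have e4 : α stEl * α stEl * α stEl * α (stEl : SL(2, F)) = 1 := by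
          rw [mul_assoc, ← map_mul, ← map_mul, st_sq_sh, ← sh_mul, neg_one_mul, neg_neg, sh_one, map_one]
        rw [show α stEl * α stEl * α stEl = (α (stEl : SL(2, F)))⁻¹ from eq_inv_of_mul_eq_one_left e4,
          inv_inv] at k
        exact k
      rw [k']
      exact Q_le h (q_memQ h _)
    refine ⟨1, one_mem _, _, e, α stEl, Or.inr (Or.inr rfl), ?_⟩
    group
  have hmove : ∀ u c, ψ (lowSL u) * α (uniSL c) = α (uniSL c) *
      (α (uniSL (-c)) * ψ (lowSL u) * (α (uniSL (-c)))⁻¹ * (ψ (lowSL u))⁻¹) * ψ (lowSL u) := fun u c => by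
    rw [← uni_inv, map_inv]; group
  have hmoveT : ∀ u (a : Fˣ), ψ (lowSL u) * α (shEl a) = α (shEl a) * ψ (lowSL ((a : F) * u)) := fun u a => by
    have := t_L h a ((a : F) * u)
    rw [← mul_assoc (a : F)⁻¹, inv_mul_cancel₀ a.ne_zero, one_mul] at this
    rw [← this]; group
  have hd := det_two g
  by_cases hc : g.1 1 0 = 0
  · have ha : g.1 0 0 ≠ 0 := fun ha => by simp [ha, hc] at hd
    set a : Fˣ := Units.mk0 _ ha
    have e : g = shEl a * uniSL (g.1 0 1 / g.1 0 0) := by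
      apply mat_ext
      simp only [Matrix.SpecialLinearGroup.coe_mul, coe_shEl, coe_uniSL, mul_fin_two, a, Units.val_mk0]
      ext i j; fin_cases i <;> fin_cases j <;> simp [hc] <;> field_simp
      rw [hc] at hd; linear_combination hd
    have hbase : ψ (lowSL ((a : F) * u)) * (ψ stEl * b) ∈ cells h := by
      rcases hb with rfl | rfl | rfl
      · rw [mul_one]; exact hLW _
      · rw [hW2]; exact absR (blk_cells h _) (psi_sh_mem h _)
      · rw [hWs, ← mul_assoc]; exact low_s1_W h _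
    rw [e, map_mul, ← mul_assoc (ψ (lowSL u)) (α (shEl a)), hmoveT, mul_assoc (α (shEl a)) (ψ _), hmove]
    set p := α (uniSL (g.1 0 1 / g.1 0 0)) * (α (uniSL (-(g.1 0 1 / g.1 0 0))) * ψ (lowSL ((a : F) * u)) *
      (α (uniSL (-(g.1 0 1 / g.1 0 0))))⁻¹ * (ψ (lowSL ((a : F) * u)))⁻¹)
    have hp : p ∈ Ps h := mul_mem (Q_le h (X0_memQ h _)) (low_conj_mem h _ _)
    rw [show α (shEl a) * (p * ψ (lowSL ((a : F) * u))) * (ψ stEl * b) =
      α (shEl a) * p * (ψ (lowSL ((a : F) * u)) * (ψ stEl * b)) * 1 by group]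
    exact cells_mul h hbase (mul_mem (t_mem h a) hp) (one_mem _)
  set l : Fˣ := Units.mk0 (-g.1 1 0) (neg_ne_zero.2 hc)
  have e : g = uniSL (g.1 0 0 / g.1 1 0) * stEl * (shEl l * uniSL (g.1 1 1 / g.1 1 0)) := by
    apply mat_ext
    simp only [Matrix.SpecialLinearGroup.coe_mul, coe_stEl, coe_shEl, coe_uniSL, mul_fin_two, l, Units.val_mk0]
    ext i j; fin_cases i <;> fin_cases j <;> simp <;> field_simp
    linear_combination -hd
  set y := shEl l * uniSL (g.1 1 1 / g.1 1 0)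
  have hy : α y ∈ Ps h := by rw [map_mul]; exact mul_mem (t_mem h _) (Q_le h (X0_memQ h _))
  have hyW : α y * ψ stEl = ψ stEl * β α ψ y := by
    conv_lhs => rw [← beta_st h]
    group
  have hbase : ψ (lowSL u) * α stEl * (α y * (ψ stEl * b)) ∈ cells h := by
    rcases hb with rfl | rfl | rfl
    · rw [mul_one, hyW, ← mul_assoc, mul_assoc (ψ (lowSL u)), hsW, ← mul_assoc]
      exact absR (absR (hLW _) (beta_mem h _)) (beta_mem h _)
    · rw [hW2]
      exact absR (hLs _) (mul_mem hy (psi_sh_mem h _))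
    · have e1 : α stEl * (α y * (ψ stEl * α stEl)) = β α ψ stEl * ψ stEl * β α ψ stEl * β α ψ y := by
        rw [← mul_assoc (α y), hyW, mul_assoc (ψ stEl), ← (h.comm stEl y).eq, ← mul_assoc, ← mul_assoc, hsW,
          show ψ stEl * β α ψ stEl * α stEl = ψ stEl * (β α ψ stEl * α stEl) by group, ← (h.comm stEl stEl).eq,
          ← mul_assoc, hWs, mul_assoc (β α ψ stEl * ψ stEl) (β α ψ stEl)]
      rw [mul_assoc, e1, ← mul_assoc, ← mul_assoc, ← mul_assoc]
      exact absR (absR (low_s1_W h _) (beta_mem h _)) (beta_mem h _)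
  rw [e, map_mul, map_mul, ← mul_assoc (ψ (lowSL u)), ← mul_assoc (ψ (lowSL u)), hmove]
  set p := α (uniSL (g.1 0 0 / g.1 1 0)) * (α (uniSL (-(g.1 0 0 / g.1 1 0))) * ψ (lowSL u) *
    (α (uniSL (-(g.1 0 0 / g.1 1 0))))⁻¹ * (ψ (lowSL u))⁻¹)
  have hp : p ∈ Ps h := mul_mem (Q_le h (X0_memQ h _)) (low_conj_mem h _ _)
  rw [show p * ψ (lowSL u) * α stEl * α y * (ψ stEl * b) =
    p * (ψ (lowSL u) * α stEl * (α y * (ψ stEl * b))) * 1 by group]
  exact cells_mul h hbase hp (one_mem _)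

theorem W_left {x : H} (hx : x ∈ cells h) : ψ stEl * x ∈ cells h := by
  obtain ⟨p, hp, p', hp', b, hb, rfl⟩ := hx
  obtain ⟨x, y, c, g, a, rfl⟩ := mem_Ps h hp
  rw [el_split h]
  have hpre : ψ stEl * el α ψ 0 y (c - 2 * x * y) * (ψ stEl)⁻¹ ∈ Ps h := by
    rw [el, uni_zero, map_one, one_mul, show ∀ A B : H, ψ stEl * (A * B) * (ψ stEl)⁻¹ =
      (ψ stEl * A * (ψ stEl)⁻¹) * (ψ stEl * B * (ψ stEl)⁻¹) from fun A B => by group, W_q h, ← beta_apply]
    exact mul_mem (Q_le h (q_memQ h _)) (beta_mem h _)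
  have et : ψ (lowSL (-x)) * β α ψ (shEl a) = β α ψ (shEl a) * ψ (lowSL ((a : F)⁻¹ * -x)) := by
    have := t1_L h a ((a : F)⁻¹ * -x)
    rw [← mul_assoc (a : F), mul_inv_cancel₀ a.ne_zero, one_mul] at this
    rw [← this]; group
  have e : ψ stEl * (el α ψ 0 y (c - 2 * x * y) * ψ (uniSL x) * (β α ψ g * α (shEl a)) * b * p') =
      (ψ stEl * el α ψ 0 y (c - 2 * x * y) * (ψ stEl)⁻¹) * β α ψ (shEl a) *
        (ψ (lowSL ((a : F)⁻¹ * -x)) * α g * (ψ stEl * b)) * p' := by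
    calc _ = (ψ stEl * el α ψ 0 y (c - 2 * x * y) * (ψ stEl)⁻¹) * (ψ stEl * ψ (uniSL x) * (ψ stEl)⁻¹) *
          (ψ stEl * β α ψ g * (ψ stEl)⁻¹ * (ψ stEl * α (shEl a) * (ψ stEl)⁻¹)) * (ψ stEl * b) * p' := by group
      _ = (ψ stEl * el α ψ 0 y (c - 2 * x * y) * (ψ stEl)⁻¹) * (ψ (lowSL (-x)) *
          β α ψ (shEl a)) * α g * (ψ stEl * b) * p' := by
        rw [W_T h, beta_st h, ← beta_apply, (h.comm g (shEl a)).eq]; group
      _ = _ := by rw [et]; group
  rw [e]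
  exact cells_mul h (low_alpha_W h _ g hb) (mul_mem hpre (beta_mem h _)) hp'

theorem all_cells (hgen : α.range ⊔ ψ.range = ⊤) (x : H) : x ∈ cells h := by
  let M : Submonoid H :=
    { carrier := {g | ∀ y ∈ cells h, g * y ∈ cells h}
      one_mem' := fun y hy => by rwa [one_mul]
      mul_mem' := fun {a b} ha hb y hy => by rw [mul_assoc]; exact ha _ (hb y hy) }
  have hP : ∀ p ∈ Ps h, p ∈ M ∧ p⁻¹ ∈ M := fun p hp =>
    ⟨fun y hy => by simpa using cells_mul h hy hp (one_mem _),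
      fun y hy => by simpa using cells_mul h hy (inv_mem hp) (one_mem _)⟩
  let S : Subgroup H :=
    { carrier := {g | g ∈ M ∧ g⁻¹ ∈ M}
      one_mem' := ⟨one_mem _, by rw [inv_one]; exact one_mem _⟩
      mul_mem' := fun {a b} ha hb => ⟨mul_mem ha.1 hb.1, by rw [_root_.mul_inv_rev]; exact mul_mem hb.2 ha.2⟩
      inv_mem' := fun {a} ha => ⟨ha.2, by rw [inv_inv]; exact ha.1⟩ }
  have hW : ψ stEl ∈ S := by
    refine ⟨fun y hy => W_left h hy, ?_⟩
    have e : (ψ stEl)⁻¹ = ψ stEl * (ψ (shEl (-1)))⁻¹ := by rw [← st_sq_sh, map_mul]; group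
    rw [e]
    exact mul_mem (fun y hy => W_left h hy) (hP _ (psi_sh_mem h _)).2
  have hψ : ψ.range ≤ S := by
    rintro _ ⟨g, rfl⟩
    exact sl_gen (S := S.comap ψ) (fun c => hP _ (Q_le h (T_memQ h c))) hW g
  have hα : α.range ≤ S := by
    rintro _ ⟨g, rfl⟩
    rw [← beta_st h]
    exact mul_mem (mul_mem hW (show β α ψ g ∈ S from hP _ (beta_mem h g))) (inv_mem hW)
  have hx : x ∈ S := (sup_le hα hψ) (by rw [hgen]; exact Subgroup.mem_top x)
  simpa using hx.1 1 (cells_base h (Or.inl rfl))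

theorem injective (hgen : α.range ⊔ ψ.range = ⊤) (π : H →* Sp) (hα : π.comp α = eps) (hψ : π.comp ψ = Symp.gl) :
    Function.Injective π := by
  have eα : ∀ g, π (α g) = eps g := fun g => DFunLike.congr_fun hα g
  have eψ : ∀ g, π (ψ g) = Symp.gl g := fun g => DFunLike.congr_fun hψ g
  have eβ : ∀ g, π (β α ψ g) = β eps Symp.gl g := fun g => by simp [beta_apply, eα, eψ]
  let e0 : Fin 2 ⊕ Fin 2 := Sum.inr 0
  have hline : ∀ p ∈ Ps h, ∀ l : Fin 2 ⊕ Fin 2, l ≠ e0 → (π p : Mat) l e0 = 0 := by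
    let S : Subgroup H :=
      { carrier := {p | ∃ t : Fˣ, (π p : Mat) *ᵥ Pi.single e0 1 = (t : F) • Pi.single e0 1}
        one_mem' := ⟨1, by rw [map_one, Units.val_one, one_smul]; exact Matrix.one_mulVec _⟩
        mul_mem' := fun {a b} ⟨t, ht⟩ ⟨t', ht'⟩ => ⟨t * t', by
          rw [map_mul, mul_mulVec_sp, ht', Matrix.mulVec_smul, ht, smul_smul, Units.val_mul, mul_comm]⟩
        inv_mem' := fun {a} ⟨t, ht⟩ => ⟨t⁻¹, by
          rw [map_inv]
          refine inv_mulVec_of_eq ?_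
          rw [Matrix.mulVec_smul, ht, smul_smul, Units.inv_mul, one_smul]⟩ }
    intro p hp l hl
    have hle : Ps h ≤ S := by
      have hT : ∀ x, ψ (uniSL x) ∈ S := fun x => ⟨1, by
        rw [eψ, coe_gl]
        ext (i | i) <;> fin_cases i <;> simp [e0, Matrix.fromBlocks, coe_uniSL, Matrix.mulVec_single]⟩
      have hβ : ∀ g, β α ψ g ∈ S := fun g => ⟨1, by
        rw [eβ, coe_beta]
        ext (i | i) <;> fin_cases i <;> simp [e0, Matrix.fromBlocks, Matrix.mulVec_single]⟩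
      rw [Ps, sup_le_iff, sup_le_iff]
      refine ⟨?_, ?_, ?_⟩
      · rintro _ ⟨x, y, c, rfl⟩
        refine mul_mem (mul_mem (hT x) ?_) ⟨1, ?_⟩
        · rw [flip' h]; exact mul_mem (mul_mem (hβ _) (hT y)) (inv_mem (hβ _))
        · rw [eα, coe_eps]
          ext (i | i) <;> fin_cases i <;>
            simp [e0, epsMat, Matrix.fromBlocks, coe_uniSL, Matrix.mulVec_single]
      · rintro _ ⟨g, rfl⟩; exact hβ g
      · rintro _ ⟨a, rfl⟩
        refine ⟨a, ?_⟩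
        show (π (α (shEl a)) : Mat) *ᵥ _ = _
        rw [eα, coe_eps]
        ext (i | i) <;> fin_cases i <;> simp [e0, epsMat, Matrix.fromBlocks, coe_shEl, Matrix.mulVec_single]
    obtain ⟨t, ht⟩ := hle hp
    have := congrFun ht l
    simpa [Matrix.mulVec_single, hl] using this
  rw [injective_iff_map_eq_one]
  intro x hx
  obtain ⟨p, hp, p', hp', b, hb, rfl⟩ := all_cells h hgen x
  have hbP : π b = π (p⁻¹ * p'⁻¹) := by
    rw [map_mul, map_mul] at hx
    rw [map_mul, map_inv, map_inv, eq_inv_mul_iff_mul_eq]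
    exact mul_eq_one_iff_eq_inv.1 hx
  have hmem : p⁻¹ * p'⁻¹ ∈ Ps h := mul_mem (inv_mem hp) (inv_mem hp')
  have hb1 : b = 1 := by
    rcases hb with rfl | rfl | rfl
    · rfl
    · exfalso
      have := hline _ hmem (Sum.inr 1) (by simp [e0])
      rw [← hbP, eψ, coe_gl] at this
      simp [e0, coe_stEl, Matrix.fromBlocks] at this
    · exfalso
      have := hline _ hmem (Sum.inl 0) (by simp [e0])
      rw [← hbP, eα, coe_eps] at this
      simp [e0, coe_stEl, epsMat, Matrix.fromBlocks] at this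
  subst hb1
  rw [mul_one] at hx ⊢
  obtain ⟨u, v, c, g, a, e⟩ := mem_Ps h (mul_mem hp hp')
  rw [e] at hx ⊢
  have hM : (π (el α ψ u v c * (β α ψ g * α (shEl a))) : Mat) = 1 := by rw [hx]; rfl
  have hcoe : (π (el α ψ u v c * (β α ψ g * α (shEl a))) : Mat) =
      ((Symp.gl (uniSL u) : Sp) : Mat) * ((eps stEl : Sp) : Mat) * ((Symp.gl (lowSL v) : Sp) : Mat) *
        ((eps (stEl : SL(2, F))⁻¹ : Sp) : Mat) * ((eps (uniSL c) : Sp) : Mat) *
        (((β eps Symp.gl g : Sp) : Mat) * ((eps (shEl a) : Sp) : Mat)) := by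
    simp only [el, q, map_mul, map_inv, eα, eψ, eβ, Submonoid.coe_mul, mul_assoc]
  have hi : ((stEl : SL(2, F))⁻¹ : SL(2, F)).1 = !![0, -1; 1, 0] := by
    rw [Matrix.SpecialLinearGroup.coe_inv, coe_stEl, Matrix.adjugate_fin_two]
    simp
  rw [hcoe, coe_gl, coe_gl, coe_eps, coe_eps, coe_eps, coe_eps, coe_beta, hi] at hM
  simp only [coe_uniSL, coe_lowSL, coe_stEl, coe_shEl, epsMat, Matrix.fromBlocks_multiply] at hM
  have k : ∀ i j, _ := fun i j => congrFun (congrFun hM i) j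
  have k0 := k (Sum.inr 0) (Sum.inr 0)
  simp [Matrix.mul_apply, Fin.sum_univ_two] at k0
  have ha : a = 1 := k0
  subst ha
  have k1 := k (Sum.inl 1) (Sum.inl 0)
  have k2 := k (Sum.inr 1) (Sum.inl 0)
  have k3 := k (Sum.inr 0) (Sum.inl 0)
  simp [Matrix.mul_apply, Fin.sum_univ_two] at k1 k2 k3
  subst k1
  simp at k2 k3
  subst k2
  subst k3
  rw [el_zero, sh_one, map_one, mul_one, one_mul]
  have k4 := k (Sum.inl 1) (Sum.inl 1)
  have k5 := k (Sum.inr 1) (Sum.inr 1)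
  have k6 := k (Sum.inl 1) (Sum.inr 1)
  have k7 := k (Sum.inr 1) (Sum.inl 1)
  simp [Matrix.mul_apply, Fin.sum_univ_two] at k4 k5 k6 k7
  rw [show g = 1 from mat_ext (by ext i j; fin_cases i <;> fin_cases j <;> simp [k4, k5, k6, k7]), map_one]

end Cfsg.Agent.ShortPres.Four
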