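import Cfsg.Agent.Lib.ShortPres.SLTwo
import Cfsg.Agent.Lib.Classical.TwoGen
import Mathlib

/-!
Consequences of the relations between two copies of `SL₂` that define the symplectic group of rank two.
-/

set_option autoImplicit false
set_option linter.unusedSectionVars false

namespace Cfsg.Agent.ShortPres.Four

open Matrix Cfsg.Agent.Classical.GL2 Cfsg.Agent.ShortPres
open scoped MatrixGroups

universe u w

variable {F : Type u} [Field F] {H : Type w} [Group H]

theorem uni_add (a b : F) : (uniSL (a + b) : SL(2, F)) = uniSL a * uniSL b := by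
  apply mat_ext
  rw [Matrix.SpecialLinearGroup.coe_mul, coe_uniSL, coe_uniSL, coe_uniSL, mul_fin_two]
  simp [add_comm]

theorem uni_zero : (uniSL (0 : F) : SL(2, F)) = 1 := by
  apply mat_ext; rw [coe_uniSL]; ext i j; fin_cases i <;> fin_cases j <;> simp

theorem uni_inv (a : F) : (uniSL a : SL(2, F))⁻¹ = uniSL (-a) :=
  inv_eq_of_mul_eq_one_right (by rw [← uni_add, add_neg_cancel, uni_zero])

theorem sh_mul (a b : Fˣ) : (shEl (a * b) : SL(2, F)) = shEl a * shEl b := by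
  apply mat_ext
  rw [Matrix.SpecialLinearGroup.coe_mul, coe_shEl, coe_shEl, coe_shEl, mul_fin_two]
  simp [mul_comm]

/-- The diagonal matrices as a homomorphism. -/
def shHom : Fˣ →* SL(2, F) := MonoidHom.mk' shEl sh_mul

theorem sh_inv (a : Fˣ) : (shEl a : SL(2, F))⁻¹ = shEl a⁻¹ := (map_inv (shHom (F := F)) a).symm

theorem sh_one : (shEl (1 : Fˣ) : SL(2, F)) = 1 := map_one (shHom (F := F))

theorem sh_neg_one : (shEl (-1 : Fˣ) : SL(2, F)) = -1 := by
  apply mat_ext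
  rw [coe_shEl, Matrix.SpecialLinearGroup.coe_neg, Matrix.SpecialLinearGroup.coe_one]
  ext i j; fin_cases i <;> fin_cases j <;> simp [inv_neg]

theorem sh_neg_central (x : SL(2, F)) : Commute (shEl (-1 : Fˣ)) x := by
  rw [sh_neg_one]
  refine mat_ext ?_
  simp [Matrix.SpecialLinearGroup.coe_mul]

theorem sh_conj_uni (a : Fˣ) (c : F) : shEl a * uniSL c * (shEl a)⁻¹ = uniSL ((a : F) ^ 2 * c) := conj_sh a c

theorem sh_conj_low (a : Fˣ) (c : F) : shEl a * lowSL c * (shEl a)⁻¹ = lowSL (((a : F)⁻¹) ^ 2 * c) := by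
  rw [mul_inv_eq_iff_eq_mul]
  apply mat_ext
  simp only [Matrix.SpecialLinearGroup.coe_mul, coe_shEl, coe_lowSL, mul_fin_two]
  ext i j; fin_cases i <;> fin_cases j <;> simp <;> field_simp

theorem st_conj_uni (c : F) : stEl * uniSL c * (stEl : SL(2, F))⁻¹ = lowSL (-c) := by
  rw [mul_inv_eq_iff_eq_mul]
  apply mat_ext
  simp only [Matrix.SpecialLinearGroup.coe_mul, coe_stEl, coe_lowSL, coe_uniSL, mul_fin_two]
  ext i j; fin_cases i <;> fin_cases j <;> simp

theorem st_conj_low (c : F) : stEl * lowSL c * (stEl : SL(2, F))⁻¹ = uniSL (-c) := by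
  rw [mul_inv_eq_iff_eq_mul]
  apply mat_ext
  simp only [Matrix.SpecialLinearGroup.coe_mul, coe_stEl, coe_lowSL, coe_uniSL, mul_fin_two]
  ext i j; fin_cases i <;> fin_cases j <;> simp

theorem st_sq_sh : (stEl : SL(2, F)) * stEl = shEl (-1) := by rw [st_sq, sh_neg_one]

/-- An additively closed set with scaling by squares containing one is everything. -/
theorem all_of_squares [Fintype F] {S : AddSubgroup F} (h : ∀ u : Fˣ, (u : F) ^ 2 ∈ S) (c : F) : c ∈ S := by
  refine (AddSubgroup.closure_le S).2 ?_ (Classical.TwoGen.squares_closure c)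
  rintro _ ⟨u, rfl⟩
  by_cases hu : u = 0
  · rw [hu, mul_zero]; exact S.zero_mem
  · simpa [sq] using h (Units.mk0 u hu)

variable (α ψ : SL(2, F) →* H)

/-- The conjugate copy. -/
def β : SL(2, F) →* H := (MulAut.conj (ψ stEl)).toMonoidHom.comp α

/-- The relations. -/
structure Rels (z : Fˣ) : Prop where
  gen : ∀ x : Fˣ, x ∈ Subgroup.zpowers z
  comm : ∀ x y, Commute (α x) (β α ψ y)
  hsh : ψ (shEl z) = α (shEl z) * β α ψ (shEl z⁻¹)
  sT : α (shEl z) * ψ (uniSL 1) * (α (shEl z))⁻¹ = ψ (uniSL (z : F))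
  r1 : Commute (ψ (lowSL 1)) (β α ψ (uniSL 1))
  r2 : β α ψ (uniSL 1) * ψ (uniSL 1) * (β α ψ (uniSL 1))⁻¹ =
    ψ (uniSL 1) * (α stEl * ψ (lowSL 1) * (α stEl)⁻¹) * α (uniSL 1)
  flip : α stEl * ψ (lowSL 1) * (α stEl)⁻¹ = β α ψ stEl * ψ (uniSL 1) * (β α ψ stEl)⁻¹
  qT : α stEl * ψ (lowSL 1) * (α stEl)⁻¹ * ψ (uniSL 1) =
    ψ (uniSL 1) * (α stEl * ψ (lowSL 1) * (α stEl)⁻¹) * α (uniSL 2)

variable {α ψ} {z : Fˣ}

/-- The root element outside both copies. -/
def q (α ψ : SL(2, F) →* H) (c : F) : H := α stEl * ψ (lowSL c) * (α stEl)⁻¹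

theorem low_add (a b : F) : (lowSL (a + b) : SL(2, F)) = lowSL a * lowSL b := by
  apply mat_ext
  rw [Matrix.SpecialLinearGroup.coe_mul, coe_lowSL, coe_lowSL, coe_lowSL, mul_fin_two]
  simp [add_comm]

theorem q_add (a b : F) : q α ψ (a + b) = q α ψ a * q α ψ b := by
  simp only [q, low_add, map_mul]; group

theorem low_zero : (lowSL (0 : F) : SL(2, F)) = 1 := by
  apply mat_ext; rw [coe_lowSL]; ext i j; fin_cases i <;> fin_cases j <;> simp

theorem q_zero : q α ψ 0 = 1 := by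
  rw [q, low_zero, map_one, mul_one, mul_inv_cancel]

theorem q_neg (a : F) : q α ψ (-a) = (q α ψ a)⁻¹ :=
  eq_inv_of_mul_eq_one_left (by rw [← q_add, neg_add_cancel, q_zero])

theorem beta_apply (x : SL(2, F)) : β α ψ x = ψ stEl * α x * (ψ stEl)⁻¹ := rfl

variable [Fintype F] (h : Rels α ψ z)
include h

theorem sh_all (a : Fˣ) : ψ (shEl a) = α (shEl a) * β α ψ (shEl a⁻¹) := by
  obtain ⟨k, rfl⟩ := Subgroup.mem_zpowers_iff.1 (h.gen a)
  have e1 : ∀ u : Fˣ, (shEl (u ^ k) : SL(2, F)) = shEl u ^ k := fun u => map_zpow (shHom (F := F)) u k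
  rw [← _root_.inv_zpow, e1, e1, map_zpow, map_zpow, map_zpow, h.hsh, (h.comm _ _).mul_zpow]

theorem beta_st (x : SL(2, F)) : ψ stEl * β α ψ x * (ψ stEl)⁻¹ = α x := by
  rw [beta_apply, show ψ stEl * (ψ stEl * α x * (ψ stEl)⁻¹) * (ψ stEl)⁻¹ =
    ψ stEl * ψ stEl * α x * (ψ stEl * ψ stEl)⁻¹ by group, ← map_mul, st_sq_sh, sh_all h, inv_neg, inv_one]
  have h1 : Commute (α (shEl (-1 : Fˣ)) * β α ψ (shEl (-1))) (α x) :=
    ((sh_neg_central x).map α).mul_left (h.comm _ _).symm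
  rw [h1.eq, mul_inv_cancel_right]

theorem t_T (a : Fˣ) (c : F) : α (shEl a) * ψ (uniSL c) * (α (shEl a))⁻¹ = ψ (uniSL ((a : F) * c)) := by
  have hz : ∀ c, α (shEl z) * ψ (uniSL c) * (α (shEl z))⁻¹ = ψ (uniSL ((z : F) * c)) := by
    let S : AddSubgroup F :=
      { carrier := {c | α (shEl z) * ψ (uniSL c) * (α (shEl z))⁻¹ = ψ (uniSL ((z : F) * c))}
        zero_mem' := by simp [uni_zero]
        add_mem' := fun {a b} ha hb => by
          show _ = _
          rw [uni_add, mul_add, uni_add, map_mul, map_mul, ← ha, ← hb]; group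
        neg_mem' := fun {a} ha => by
          show _ = _
          rw [mul_neg, ← uni_inv, ← uni_inv, map_inv, map_inv, ← ha]; group }
    have hsq : ∀ n : ℤ, (((z ^ n : Fˣ) : F)) ^ 2 ∈ S := by
      intro n
      have hc : Commute (α (shEl z)) (ψ (shEl (z ^ n))) := by
        rw [sh_all h]
        exact (((show Commute z (z ^ n) from (Commute.refl z).zpow_right n).map (shHom (F := F))).map α).mul_right
          (h.comm _ _)
      show _ = _
      have e := congrArg (fun y => ψ (shEl (z ^ n)) * y * (ψ (shEl (z ^ n)))⁻¹) h.sT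
      have k1 : ∀ c, ψ (shEl (z ^ n)) * ψ (uniSL c) * (ψ (shEl (z ^ n)))⁻¹ =
          ψ (uniSL (((z ^ n : Fˣ) : F) ^ 2 * c)) := fun c => by
        rw [← map_inv, ← map_mul, ← map_mul, sh_conj_uni]
      rw [k1, mul_comm _ (z : F), show ψ (shEl (z ^ n)) * (α (shEl z) * ψ (uniSL 1) * (α (shEl z))⁻¹) *
        (ψ (shEl (z ^ n)))⁻¹ = α (shEl z) * (ψ (shEl (z ^ n)) * ψ (uniSL 1) * (ψ (shEl (z ^ n)))⁻¹) *
          (α (shEl z))⁻¹ by
        calc _ = (ψ (shEl (z ^ n)) * α (shEl z)) * ψ (uniSL 1) * (ψ (shEl (z ^ n)) * α (shEl z))⁻¹ := by group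
          _ = (α (shEl z) * ψ (shEl (z ^ n))) * ψ (uniSL 1) * (α (shEl z) * ψ (shEl (z ^ n)))⁻¹ := by rw [hc.eq]
          _ = _ := by group, k1, mul_one] at e
      exact e
    intro c
    refine all_of_squares (S := S) (fun u => ?_) c
    obtain ⟨n, rfl⟩ := Subgroup.mem_zpowers_iff.1 (h.gen u)
    exact hsq n
  let S : Subgroup Fˣ :=
    { carrier := {a | ∀ c, α (shEl a) * ψ (uniSL c) * (α (shEl a))⁻¹ = ψ (uniSL ((a : F) * c))}
      one_mem' := fun c => by simp [sh_one]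
      mul_mem' := fun {a b} ha hb c => by
        rw [sh_mul, map_mul, Units.val_mul, mul_assoc (a : F), ← ha, ← hb]; group
      inv_mem' := fun {a} ha c => by
        have e := ha ((a⁻¹ : Fˣ) * c)
        rw [← mul_assoc, Units.mul_inv, one_mul] at e
        rw [← sh_inv, map_inv, ← e]; group }
  have hle : Subgroup.zpowers z ≤ S := Subgroup.zpowers_le.2 hz
  exact hle (h.gen a) c

theorem t1_T (a : Fˣ) (c : F) :
    β α ψ (shEl a) * ψ (uniSL c) * (β α ψ (shEl a))⁻¹ = ψ (uniSL ((a : F)⁻¹ * c)) := by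
  have e : β α ψ (shEl a) = (α (shEl a⁻¹))⁻¹ * ψ (shEl a⁻¹) := by rw [sh_all h, inv_inv]; group
  rw [e, show (α (shEl a⁻¹))⁻¹ * ψ (shEl a⁻¹) * ψ (uniSL c) * ((α (shEl a⁻¹))⁻¹ * ψ (shEl a⁻¹))⁻¹ =
    (α (shEl a⁻¹))⁻¹ * (ψ (shEl a⁻¹) * ψ (uniSL c) * (ψ (shEl a⁻¹))⁻¹) * (α (shEl a⁻¹))⁻¹⁻¹ by group,
    ← map_inv ψ, ← map_mul, ← map_mul, sh_conj_uni, ← map_inv α, sh_inv, inv_inv, t_T h, Units.val_inv_eq_inv_val]
  congr 2
  field_simp

theorem W_T (c : F) : ψ stEl * ψ (uniSL c) * (ψ stEl)⁻¹ = ψ (lowSL (-c)) := by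
  rw [← map_inv, ← map_mul, ← map_mul, st_conj_uni]

theorem t_L (a : Fˣ) (c : F) : α (shEl a) * ψ (lowSL c) * (α (shEl a))⁻¹ = ψ (lowSL ((a : F)⁻¹ * c)) := by
  rw [← neg_neg c, ← W_T h, ← beta_st h (shEl a), mul_neg ((a : F)⁻¹), ← W_T h ((a : F)⁻¹ * -c), ← t1_T h]
  group

theorem t1_L (a : Fˣ) (c : F) : β α ψ (shEl a) * ψ (lowSL c) * (β α ψ (shEl a))⁻¹ = ψ (lowSL ((a : F) * c)) := by
  rw [← neg_neg c, ← W_T h, beta_apply, mul_neg (a : F), ← W_T h ((a : F) * -c), ← t_T h]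
  group

theorem t_X (a : Fˣ) (c : F) : α (shEl a) * α (uniSL c) * (α (shEl a))⁻¹ = α (uniSL ((a : F) ^ 2 * c)) := by
  rw [← map_inv, ← map_mul, ← map_mul, sh_conj_uni]

theorem t1_X (a : Fˣ) (c : F) :
    β α ψ (shEl a) * β α ψ (uniSL c) * (β α ψ (shEl a))⁻¹ = β α ψ (uniSL ((a : F) ^ 2 * c)) := by
  rw [← map_inv, ← map_mul, ← map_mul, sh_conj_uni]

theorem L_X1 (c a : F) : Commute (ψ (lowSL c)) (β α ψ (uniSL a)) := by
  by_cases hc : c = 0
  · rw [hc, low_zero, map_one]; exact Commute.one_left _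
  let S : AddSubgroup F :=
    { carrier := {a | Commute (ψ (lowSL c)) (β α ψ (uniSL a))}
      zero_mem' := by simp [uni_zero]
      add_mem' := fun {a b} ha hb => by
        show Commute _ _
        rw [uni_add, map_mul]; exact ha.mul_right hb
      neg_mem' := fun {a} ha => by
        show Commute _ _
        rw [← uni_inv, map_inv]; exact ha.inv_right }
  refine all_of_squares (S := S) (fun u => ?_) a
  show Commute _ _
  set μ : Fˣ := u * (Units.mk0 c hc)⁻¹
  have k := (h.r1.map (MulAut.conj (α (shEl μ))).toMonoidHom).map (MulAut.conj (β α ψ (shEl u))).toMonoidHom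
  simp only [MulEquiv.coe_toMonoidHom, MulAut.conj_apply] at k
  rw [t_L h, t1_L h, (h.comm (shEl μ) (uniSL 1)).eq, mul_inv_cancel_right, t1_X h, mul_one, mul_one] at k
  convert k using 3
  congr 1
  simp only [μ, Units.val_mul, Units.val_inv_eq_inv_val, Units.val_mk0]
  field_simp

theorem T_X0 (c a : F) : Commute (ψ (uniSL c)) (α (uniSL a)) := by
  have k := (L_X1 h c a).map (MulAut.conj (ψ stEl)).toMonoidHom
  simp only [MulEquiv.coe_toMonoidHom, MulAut.conj_apply] at k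
  rw [beta_st h, ← map_inv, ← map_mul, ← map_mul, st_conj_low] at k
  simpa [← uni_inv, Commute.inv_left_iff] using k

theorem t_q (a : Fˣ) (c : F) : α (shEl a) * q α ψ c * (α (shEl a))⁻¹ = q α ψ ((a : F) * c) := by
  have e : α (shEl a) * α stEl = α stEl * α (shEl a⁻¹) := by
    rw [← map_mul, ← map_mul]
    congr 1
    apply mat_ext
    simp only [Matrix.SpecialLinearGroup.coe_mul, coe_shEl, coe_stEl, mul_fin_two]
    simp
  rw [q, q, show α (shEl a) * (α stEl * ψ (lowSL c) * (α stEl)⁻¹) * (α (shEl a))⁻¹ =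
    (α (shEl a) * α stEl) * ψ (lowSL c) * (α (shEl a) * α stEl)⁻¹ by group, e,
    show α stEl * α (shEl a⁻¹) * ψ (lowSL c) * (α stEl * α (shEl a⁻¹))⁻¹ =
    α stEl * (α (shEl a⁻¹) * ψ (lowSL c) * (α (shEl a⁻¹))⁻¹) * (α stEl)⁻¹ by group, t_L h,
    Units.val_inv_eq_inv_val, inv_inv]

theorem t1_q (a : Fˣ) (c : F) : β α ψ (shEl a) * q α ψ c * (β α ψ (shEl a))⁻¹ = q α ψ ((a : F) * c) := by
  rw [q, q, ← t1_L h a c]
  have e := (h.comm stEl (shEl a)).eq
  calc _ = (β α ψ (shEl a) * α stEl) * ψ (lowSL c) * (β α ψ (shEl a) * α stEl)⁻¹ := by group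
    _ = (α stEl * β α ψ (shEl a)) * ψ (lowSL c) * (α stEl * β α ψ (shEl a))⁻¹ := by rw [e]
    _ = _ := by group

theorem flip' (c : F) : q α ψ c = β α ψ stEl * ψ (uniSL c) * (β α ψ stEl)⁻¹ := by
  by_cases hc : c = 0
  · rw [hc, q_zero, uni_zero, map_one, mul_one, mul_inv_cancel]
  have k := congrArg (fun y => α (shEl (Units.mk0 c hc)) * y * (α (shEl (Units.mk0 c hc)))⁻¹) h.flip
  rw [show α stEl * ψ (lowSL 1) * (α stEl)⁻¹ = q α ψ 1 from rfl] at k
  simp only [t_q h, Units.val_mk0, mul_one] at k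
  rw [k]
  have e := (h.comm (shEl (Units.mk0 c hc)) stEl).eq
  calc _ = (α (shEl (Units.mk0 c hc)) * β α ψ stEl) * ψ (uniSL 1) *
      (α (shEl (Units.mk0 c hc)) * β α ψ stEl)⁻¹ := by group
    _ = (β α ψ stEl * α (shEl (Units.mk0 c hc))) * ψ (uniSL 1) *
      (β α ψ stEl * α (shEl (Units.mk0 c hc)))⁻¹ := by rw [e]
    _ = β α ψ stEl * (α (shEl (Units.mk0 c hc)) * ψ (uniSL 1) * (α (shEl (Units.mk0 c hc)))⁻¹) *
      (β α ψ stEl)⁻¹ := by group
    _ = _ := by rw [t_T h, Units.val_mk0, mul_one]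

theorem q_X0 (c a : F) : Commute (q α ψ c) (α (uniSL a)) := by
  rw [flip' h]
  exact ((h.comm _ _).symm.mul_left (T_X0 h c a)).mul_left (h.comm _ _).symm.inv_left

theorem q_X1 (c a : F) : Commute (q α ψ c) (β α ψ (uniSL a)) :=
  ((h.comm _ _).mul_left (L_X1 h c a)).mul_left (h.comm _ _).inv_left

theorem q_T (y c : F) : q α ψ y * ψ (uniSL c) = ψ (uniSL c) * q α ψ y * α (uniSL (2 * c * y)) := by
  by_cases hc : c = 0
  · simp [hc, uni_zero]
  let S : AddSubgroup F :=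
    { carrier := {t | q α ψ (c * t) * ψ (uniSL c) = ψ (uniSL c) * q α ψ (c * t) * α (uniSL (2 * c * (c * t)))}
      zero_mem' := by simp [q_zero, uni_zero]
      add_mem' := fun {a b} ha hb => by
        show _ = _
        simp only [Set.mem_setOf_eq] at ha hb
        rw [mul_add, mul_add, q_add, uni_add, map_mul, mul_assoc (q α ψ (c * a)), hb,
          ← mul_assoc (q α ψ (c * a)), ← mul_assoc (q α ψ (c * a)), ha,
          mul_assoc (ψ (uniSL c) * q α ψ (c * a)) (α _) (q α ψ (c * b)), ← (q_X0 h _ _).eq]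
        group
      neg_mem' := fun {a} ha => by
        show _ = _
        simp only [Set.mem_setOf_eq] at ha
        rw [mul_neg c a, q_neg, mul_neg (2 * c), ← uni_inv, map_inv, inv_mul_eq_iff_eq_mul, ← mul_assoc,
          ← mul_assoc, ha, mul_assoc (ψ (uniSL c) * q α ψ (c * a)), ← (q_X0 h _ _).inv_left.eq]
        group }
  have key : ∀ t, t ∈ S := fun t => by
    refine all_of_squares (S := S) (fun u => ?_) t
    show _ = _
    set cu : Fˣ := Units.mk0 c hc
    have e : q α ψ 1 * ψ (uniSL 1) = ψ (uniSL 1) * q α ψ 1 * α (uniSL 2) := h.qT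
    have k := congrArg (fun y => β α ψ (shEl u) * (α (shEl (cu * u)) * y * (α (shEl (cu * u)))⁻¹) *
      (β α ψ (shEl u))⁻¹) e
    have k0 : ∀ a b : H, β α ψ (shEl u) * (α (shEl (cu * u)) * (a * b) * (α (shEl (cu * u)))⁻¹) *
        (β α ψ (shEl u))⁻¹ =
      (β α ψ (shEl u) * (α (shEl (cu * u)) * a * (α (shEl (cu * u)))⁻¹) * (β α ψ (shEl u))⁻¹) *
      (β α ψ (shEl u) * (α (shEl (cu * u)) * b * (α (shEl (cu * u)))⁻¹) * (β α ψ (shEl u))⁻¹) := fun a b => by
      group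
    simp only [k0, t_q h, t_T h, t_X h, t1_q h, t1_T h, ← (h.comm _ _).eq, mul_inv_cancel_right] at k
    simp only [cu, Units.val_mul, Units.val_mk0, mul_one] at k
    rw [show (u : F) * (c * u) = c * (u : F) ^ 2 by ring, show (u : F)⁻¹ * (c * u) = c by field_simp,
      show (c * (u : F)) ^ 2 * 2 = 2 * c * (c * (u : F) ^ 2) by ring] at k
    exact k
  have : q α ψ (c * (y / c)) * ψ (uniSL c) =
      ψ (uniSL c) * q α ψ (c * (y / c)) * α (uniSL (2 * c * (c * (y / c)))) := key (y / c)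
  rwa [show c * (y / c) = y by field_simp] at this

theorem X1_T (a c : F) : β α ψ (uniSL a) * ψ (uniSL c) * (β α ψ (uniSL a))⁻¹ =
    ψ (uniSL c) * q α ψ (a * c) * α (uniSL (a * c ^ 2)) := by
  by_cases hc : c = 0
  · simp [hc, uni_zero, q_zero]
  let S : AddSubgroup F :=
    { carrier := {a | β α ψ (uniSL a) * ψ (uniSL c) * (β α ψ (uniSL a))⁻¹ =
        ψ (uniSL c) * q α ψ (a * c) * α (uniSL (a * c ^ 2))}
      zero_mem' := by simp [uni_zero, q_zero]
      add_mem' := fun {a b} ha hb => by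
        show _ = _
        simp only [Set.mem_setOf_eq] at ha hb
        calc _ = β α ψ (uniSL a) * (β α ψ (uniSL b) * ψ (uniSL c) * (β α ψ (uniSL b))⁻¹) *
              (β α ψ (uniSL a))⁻¹ := by rw [uni_add, map_mul]; group
          _ = (β α ψ (uniSL a) * ψ (uniSL c) * (β α ψ (uniSL a))⁻¹) *
              (β α ψ (uniSL a) * q α ψ (b * c) * (β α ψ (uniSL a))⁻¹) *
              (β α ψ (uniSL a) * α (uniSL (b * c ^ 2)) * (β α ψ (uniSL a))⁻¹) := by rw [hb]; group
          _ = _ := by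
            rw [ha, ← (q_X1 h _ _).eq, mul_inv_cancel_right, ← (h.comm _ _).eq, mul_inv_cancel_right, add_mul,
              add_mul, q_add, uni_add, map_mul, mul_assoc (ψ (uniSL c) * q α ψ (a * c)), ← (q_X0 h _ _).eq]
            group
      neg_mem' := fun {a} ha => by
        show _ = _
        simp only [Set.mem_setOf_eq] at ha
        have e : ψ (uniSL c) = β α ψ (uniSL a) *
            (ψ (uniSL c) * q α ψ (-a * c) * α (uniSL (-a * c ^ 2))) * (β α ψ (uniSL a))⁻¹ := by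
          rw [show β α ψ (uniSL a) * (ψ (uniSL c) * q α ψ (-a * c) * α (uniSL (-a * c ^ 2))) *
              (β α ψ (uniSL a))⁻¹ = (β α ψ (uniSL a) * ψ (uniSL c) * (β α ψ (uniSL a))⁻¹) *
              (β α ψ (uniSL a) * q α ψ (-a * c) * (β α ψ (uniSL a))⁻¹) *
              (β α ψ (uniSL a) * α (uniSL (-a * c ^ 2)) * (β α ψ (uniSL a))⁻¹) by group, ha,
            ← (q_X1 h _ _).eq, mul_inv_cancel_right, ← (h.comm _ _).eq, mul_inv_cancel_right,
            mul_assoc (ψ (uniSL c) * q α ψ (a * c)), ← (q_X0 h _ _).eq, neg_mul, neg_mul, q_neg, ← uni_inv,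
            map_inv]
          group
        rw [← uni_inv, map_inv]
        nth_rw 1 [e]
        group }
  refine all_of_squares (S := S) (fun u => ?_) a
  show _ = _
  set cu : Fˣ := Units.mk0 c hc
  have e : β α ψ (uniSL 1) * ψ (uniSL 1) * (β α ψ (uniSL 1))⁻¹ = ψ (uniSL 1) * q α ψ 1 * α (uniSL 1) := h.r2
  rw [← map_inv, uni_inv] at e
  have k := congrArg (fun y => β α ψ (shEl u) * (α (shEl (cu * u)) * y * (α (shEl (cu * u)))⁻¹) *
    (β α ψ (shEl u))⁻¹) e
  have k0 : ∀ a b : H, β α ψ (shEl u) * (α (shEl (cu * u)) * (a * b) * (α (shEl (cu * u)))⁻¹) *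
      (β α ψ (shEl u))⁻¹ =
    (β α ψ (shEl u) * (α (shEl (cu * u)) * a * (α (shEl (cu * u)))⁻¹) * (β α ψ (shEl u))⁻¹) *
    (β α ψ (shEl u) * (α (shEl (cu * u)) * b * (α (shEl (cu * u)))⁻¹) * (β α ψ (shEl u))⁻¹) := fun a b => by
    group
  simp only [k0, t_q h, t_T h, t_X h, t1_q h, t1_T h, (h.comm _ _).eq, mul_inv_cancel_right, t1_X h] at k
  simp only [← (h.comm _ _).eq, mul_inv_cancel_right, cu, Units.val_mul, Units.val_mk0, mul_one] at k
  rw [show (u : F) * (c * u) = (u : F) ^ 2 * c by ring, show (u : F)⁻¹ * (c * u) = c by field_simp,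
    show (c * (u : F)) ^ 2 = (u : F) ^ 2 * c ^ 2 by ring, mul_neg_one, ← uni_inv, map_inv] at k
  exact k

end Cfsg.Agent.ShortPres.Four
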