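import Cfsg.Agent.Lib.ShortPres.FourPres
import Cfsg.Agent.Lib.Classical.SympTwoGenMain
import Mathlib

/-!
Generators of the symplectic group of rank two and of its subgroup on one pair.
-/

set_option autoImplicit false
set_option linter.unusedSectionVars false
set_option linter.unusedSimpArgs false

namespace Cfsg.Agent.ShortPres.Four

open Matrix Cfsg.Agent.Classical.GL2 Cfsg.Agent.ShortPres Cfsg.Agent.Forms.SympStd
  Cfsg.Agent.Classical.Symplectic Cfsg.Agent.SimpleFacts.SpMult.Levels
open scoped MatrixGroups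

universe u

variable {F : Type u} [Field F]

local notation "Sp" => symplecticGroup (Fin 2) F
local notation "Mat" => Matrix (Fin 2 ⊕ Fin 2) (Fin 2 ⊕ Fin 2) F
local notation "M2" => Matrix (Fin 2 ⊕ Fin 2) (Fin 2 ⊕ Fin 2) (ZMod 2)

theorem eps_range : (eps (F := F)).range = Symp.fx (F := F) ({0} : Finset (Fin 2)) := by
  refine le_antisymm ?_ ?_
  · rintro _ ⟨a, rfl⟩
    refine Symp.mem_fx_of_fix fun j hj => ?_
    obtain rfl : j = 1 := by
      fin_cases j
      · exact absurd (Finset.mem_singleton_self _) hj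
      · rfl
    rw [coe_eps]
    constructor <;> ext (l | l) <;> fin_cases l <;> simp [epsMat, Matrix.fromBlocks, Symp.be, Symp.bh]
  · rw [Symp.fx, fixer_eq (Symp.good _), Subgroup.closure_le]
    rintro A ⟨w, c, hw, hA⟩
    have hA' : A = tv w c := Subtype.ext hA
    have hw' : w ∈ perp (Symp.off ({0} : Finset (Fin 2))) := hw
    obtain ⟨hl, hr⟩ := Symp.mem_sp.1 hw' 1 (by simp)
    set a := w (Sum.inr 0) with ha
    set b := w (Sum.inl 0) with hb
    refine ⟨⟨!![1 + c * a * b, -(c * a * a); c * b * b, 1 - c * a * b],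
      by rw [Matrix.det_fin_two_of]; ring⟩, ?_⟩
    rw [hA']
    refine sp_ext fun v => ?_
    show epsMat !![1 + c * a * b, -(c * a * a); c * b * b, 1 - c * a * b] *ᵥ v = _
    rw [tv_mulVec, sympForm_eq]
    ext (l | l) <;> fin_cases l <;>
      simp [epsMat, Matrix.mulVec, dotProduct, Fintype.sum_sum_type, Fin.sum_univ_two, hl, hr, ← ha, ← hb] <;> ring

/-- Two elements generate the group on one pair. -/
theorem fx_two_gen [Fintype F] : ∃ u v : SL(2, F),
    Subgroup.closure ({eps u, eps v} : Set Sp) = Symp.fx ({0} : Finset (Fin 2)) := by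
  obtain ⟨u, v, h⟩ := sl_two_gen (F := F)
  refine ⟨u, v, ?_⟩
  rw [← eps_range, MonoidHom.range_eq_map, ← h, MonoidHom.map_closure, Set.image_pair]

section two

variable (φ : ZMod 2 →+* F)

/-- The first transvection over two elements. -/
def uMat : M2 := epsMat !![1, 1; 0, 1]

/-- The first turn over two elements. -/
def sMat : M2 := epsMat !![0, 1; 1, 0]

/-- The Levi transvection over two elements. -/
def tMat : M2 := Matrix.fromBlocks !![1, 0; 1, 1] 0 0 !![1, 1; 0, 1]

/-- The Levi turn over two elements. -/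
def wMat : M2 := Matrix.fromBlocks !![0, 1; 1, 0] 0 0 !![0, 1; 1, 0]

theorem uMat_map : (eps (uniSL (1 : F)) : Mat) = φ.mapMatrix uMat := by
  rw [coe_eps, coe_uniSL]
  ext (i | i) (j | j) <;> fin_cases i <;> fin_cases j <;> simp [uMat, epsMat, Matrix.fromBlocks]

theorem sMat_map (h2 : (-1 : F) = 1) : (eps (stEl : SL(2, F)) : Mat) = φ.mapMatrix sMat := by
  rw [coe_eps, coe_stEl, h2]
  ext (i | i) (j | j) <;> fin_cases i <;> fin_cases j <;> simp [sMat, epsMat, Matrix.fromBlocks]

theorem tMat_map (h2 : (-1 : F) = 1) : (Symp.gl (uniSL (1 : F)) : Mat) = φ.mapMatrix tMat := by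
  rw [coe_gl, coe_uniSL]
  ext (i | i) (j | j) <;> fin_cases i <;> fin_cases j <;> simp [tMat, Matrix.fromBlocks, h2]

theorem wMat_map (h2 : (-1 : F) = 1) : (Symp.gl (stEl : SL(2, F)) : Mat) = φ.mapMatrix wMat := by
  rw [coe_gl, coe_stEl, h2]
  ext (i | i) (j | j) <;> fin_cases i <;> fin_cases j <;> simp [wMat, Matrix.fromBlocks, h2]

end two

/-- Two elements generate the group over two elements. -/
theorem two_gen_two [Fintype F] (h01 : ∀ x : F, x = 0 ∨ x = 1) :
    ∃ a b : Sp, Subgroup.closure ({a, b} : Set Sp) = ⊤ := by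
  classical
  have h2 : (-1 : F) = 1 := (h01 (-1)).resolve_left (neg_ne_zero.2 one_ne_zero)
  have htwo : (2 : F) = 0 := by linear_combination -h2
  haveI : CharP F 2 := CharTwo.of_one_ne_zero_of_two_eq_zero one_ne_zero htwo
  let φ : ZMod 2 →+* F := ZMod.castHom dvd_rfl F
  let a : Sp := eps (uniSL 1)
  let b : Sp := eps stEl * Symp.gl (uniSL 1) * Symp.gl stEl * eps stEl * Symp.gl stEl
  refine ⟨a, b, ?_⟩
  set K := Subgroup.closure ({a, b} : Set Sp) with hK
  have ma : a ∈ K := Subgroup.subset_closure (Set.mem_insert _ _)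
  have mb : b ∈ K := Subgroup.subset_closure (Set.mem_insert_of_mem _ rfl)
  have hb : (b : Mat) = φ.mapMatrix (sMat * tMat * wMat * sMat * wMat) := by
    simp only [b, Submonoid.coe_mul, sMat_map φ h2, tMat_map φ h2, wMat_map φ h2, map_mul]
  have ha : (a : Mat) = φ.mapMatrix uMat := uMat_map φ
  have ea : eps (uniSL (1 : F)) = a := rfl
  clear_value a b
  have eS : eps (stEl : SL(2, F)) = a * b * a * b * b * b * b * b * a := Subtype.ext (by
    simp only [Submonoid.coe_mul, ha, hb, sMat_map φ h2, ← map_mul]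
    exact congrArg _ (by decide))
  have eT : Symp.gl (uniSL (1 : F)) = a * b * b * a * b * b * a * b * b := Subtype.ext (by
    simp only [Submonoid.coe_mul, ha, hb, tMat_map φ h2, ← map_mul]
    exact congrArg _ (by decide))
  have eW : Symp.gl (stEl : SL(2, F)) = b * b * b := Subtype.ext (by
    simp only [Submonoid.coe_mul, hb, wMat_map φ h2, ← map_mul]
    exact congrArg _ (by decide))
  have huni : ∀ c, uniSL c ∈ K.comap (eps (F := F)) ∧ uniSL c ∈ K.comap Symp.gl := fun c => by
    rcases h01 c with rfl | rfl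
    · rw [uni_zero]; exact ⟨one_mem _, one_mem _⟩
    · refine ⟨by rw [Subgroup.mem_comap, ea]; exact ma, ?_⟩
      rw [Subgroup.mem_comap, eT]
      repeat' apply mul_mem
      all_goals first | exact ma | exact mb
  rw [eq_top_iff, ← gen_top, sup_le_iff]
  constructor
  · rintro _ ⟨g, rfl⟩
    refine sl_gen (S := K.comap (eps (F := F))) (fun c => (huni c).1) ?_ g
    rw [Subgroup.mem_comap, eS]
    repeat' apply mul_mem
    all_goals first | exact ma | exact mb
  · rintro _ ⟨g, rfl⟩
    refine sl_gen (S := K.comap Symp.gl) (fun c => (huni c).2) ?_ g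
    rw [Subgroup.mem_comap, eW]
    repeat' apply mul_mem
    all_goals exact mb

/-- Two elements generate the symplectic group of rank two. -/
theorem two_gen [Fintype F] : ∃ a b : Sp, Subgroup.closure ({a, b} : Set Sp) = ⊤ := by
  by_cases hx : ∃ x : F, x ≠ 0 ∧ x ≠ 1
  · exact Classical.SympTwoGen.two_gen_large le_rfl hx
  · exact two_gen_two fun x => by
      by_contra h
      push Not at h
      exact hx ⟨x, h⟩

end Cfsg.Agent.ShortPres.Four
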