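import Mathlib

/-!
Choice of field elements for short presentations: a square generating the field whose successor is a square,
and the basis of its powers.
-/

set_option autoImplicit false

namespace Cfsg.Agent.ShortPres

open Polynomial

variable {p : ℕ} [Fact p.Prime] {F : Type*} [Field F] [Finite F] [Algebra (ZMod p) F]

/-- An element of no proper subfield gives a basis of powers. -/
theorem exists_basis {e : F}
    (h : ∀ r, 0 < r → r ≤ Module.finrank (ZMod p) F / 2 → e ^ p ^ r ≠ e) :
    ∃ B : Module.Basis (Fin (Module.finrank (ZMod p) F)) (ZMod p) F, ∀ i, B i = e ^ (i : ℕ) := by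
  classical
  have hint : IsIntegral (ZMod p) e := IsIntegral.of_finite (ZMod p) e
  let K := IntermediateField.adjoin (ZMod p) ({e} : Set F)
  have hr : Module.finrank (ZMod p) K = (minpoly (ZMod p) e).natDegree := IntermediateField.adjoin.finrank hint
  have hdvd : Module.finrank (ZMod p) K ∣ Module.finrank (ZMod p) F :=
    ⟨_, (Module.finrank_mul_finrank (ZMod p) K F).symm⟩
  have hd : (minpoly (ZMod p) e).natDegree = Module.finrank (ZMod p) F := by
    by_contra hne
    rw [← hr] at hne
    have hpos : 0 < Module.finrank (ZMod p) K := hr ▸ minpoly.natDegree_pos hint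
    have hle : Module.finrank (ZMod p) K ≤ Module.finrank (ZMod p) F / 2 := by
      obtain ⟨q, hq⟩ := hdvd
      rcases q with _ | _ | q
      · exact absurd (hq.trans (mul_zero _)) Module.finrank_pos.ne'
      · exact absurd (hq.trans (mul_one _)).symm hne
      · rw [Nat.le_div_iff_mul_le two_pos, hq]
        exact Nat.mul_le_mul_left _ (by omega)
    refine h _ hpos hle ?_
    have hFin : Finite K := Subtype.finite
    have := Fintype.ofFinite K
    have hcard : Fintype.card K = p ^ Module.finrank (ZMod p) K := by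
      rw [Module.card_eq_pow_finrank (K := ZMod p), ZMod.card]
    have hfix := FiniteField.pow_card (⟨e, IntermediateField.subset_adjoin _ _ rfl⟩ : K)
    rw [hcard] at hfix
    exact congrArg (fun x : K => (x : F)) hfix
  have hli := linearIndependent_pow (K := ZMod p) e
  have hne : Nonempty (Fin (minpoly (ZMod p) e).natDegree) := ⟨⟨0, minpoly.natDegree_pos hint⟩⟩
  let B := basisOfLinearIndependentOfCardEqFinrank hli (by rw [Fintype.card_fin, hd])
  refine ⟨B.reindex (finCongr hd), fun i => ?_⟩
  simp [B]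

theorem two_mul_sum_pow (q : ℕ) (hq : 3 ≤ q) (s : ℕ) : 2 * ∑ r ∈ Finset.Icc 1 s, q ^ r ≤ 3 * q ^ s := by
  induction s with
  | zero => simp
  | succ s ih =>
    rw [Finset.sum_Icc_succ_top (Nat.le_add_left 1 s), mul_add, pow_succ']
    have := Nat.mul_le_mul_right (q ^ s) hq
    omega

/-- In odd characteristic and degree at least three some square of no proper subfield has a square successor. -/
theorem exists_square_succ [CharP F p] (hp2 : p ≠ 2) (hd : 3 ≤ Module.finrank (ZMod p) F) :
    ∃ e z y : F, z ≠ 0 ∧ y ≠ 0 ∧ e = z ^ 2 ∧ e + 1 = y ^ 2 ∧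
      ∀ r, 0 < r → r ≤ Module.finrank (ZMod p) F / 2 → e ^ p ^ r ≠ e := by
  classical
  have := Fintype.ofFinite F
  set d := Module.finrank (ZMod p) F with hd'
  have hp3 : 3 ≤ p := by
    have := (Fact.out : p.Prime).two_le
    omega
  have hcard : Fintype.card F = p ^ d := by rw [Module.card_eq_pow_finrank (K := ZMod p), ZMod.card]
  have h2 : (2 : F) ≠ 0 := Ring.two_ne_zero (by rw [ringChar.eq F p]; exact hp2)
  set bad : Finset F := Finset.univ.filter fun e => ∃ r ∈ Finset.Icc 1 (d / 2), e ^ p ^ r = e with hbad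
  have hmem : ∀ e, e ∈ bad ↔ ∃ r ∈ Finset.Icc 1 (d / 2), e ^ p ^ r = e := fun e => by simp [hbad]
  have hbadcard : bad.card ≤ ∑ r ∈ Finset.Icc 1 (d / 2), p ^ r := by
    refine (Finset.card_le_card (t := (Finset.Icc 1 (d / 2)).biUnion fun r =>
      ((X ^ p ^ r - X : F[X])).roots.toFinset) ?_).trans (Finset.card_biUnion_le.trans (Finset.sum_le_sum ?_))
    · intro e he
      obtain ⟨r, hr, her⟩ := (hmem e).1 he
      refine Finset.mem_biUnion.2 ⟨r, hr, ?_⟩
      have h1 : 1 < p ^ r := Nat.one_lt_pow (by simp at hr; omega) (by omega)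
      rw [Multiset.mem_toFinset, mem_roots (FiniteField.X_pow_card_sub_X_ne_zero F h1)]
      simp [her]
    · intro r hr
      have h1 : 1 < p ^ r := Nat.one_lt_pow (by simp at hr; omega) (by omega)
      refine (Multiset.toFinset_card_le _).trans ((Polynomial.card_roots' _).trans ?_)
      rw [FiniteField.X_pow_card_sub_X_natDegree_eq F h1]
  let E : F → F := fun t => ((t - t⁻¹) / 2) ^ 2
  set tbad : Finset F := bad.biUnion fun e => (((X ^ 2 - 1) ^ 2 - C (4 * e) * X ^ 2 : F[X])).roots.toFinset
  have htbad : tbad.card ≤ bad.card * 4 := by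
    refine Finset.card_biUnion_le_card_mul _ _ _ fun e _ => ?_
    refine (Multiset.toFinset_card_le _).trans ((Polynomial.card_roots' _).trans ?_)
    compute_degree
  have hlt : tbad.card + 1 < Fintype.card F := by
    have e1 := two_mul_sum_pow p hp3 (d / 2)
    have e2 : 9 * p ^ (d / 2) ≤ p ^ d := by
      calc 9 * p ^ (d / 2) ≤ p ^ 2 * p ^ (d / 2) := Nat.mul_le_mul_right _ (by nlinarith)
        _ = p ^ (2 + d / 2) := (pow_add _ _ _).symm
        _ ≤ _ := Nat.pow_le_pow_right (by omega) (by omega)
    have e3 : 0 < p ^ (d / 2) := pow_pos (by omega) _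
    omega
  obtain ⟨t, ht⟩ : ∃ t, t ∉ insert 0 tbad := by
    by_contra hall
    push Not at hall
    have := Finset.card_le_card (fun x _ => hall x : (Finset.univ : Finset F) ⊆ insert 0 tbad)
    rw [Finset.card_univ] at this
    exact absurd (this.trans (Finset.card_insert_le _ _)) (by omega)
  rw [Finset.mem_insert, not_or] at ht
  obtain ⟨ht0, htb⟩ := ht
  have hgood : E t ∉ bad := fun h => htb (Finset.mem_biUnion.2 ⟨E t, h, by
    rw [Multiset.mem_toFinset, Polynomial.mem_roots']
    refine ⟨fun h0 => ?_, ?_⟩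
    · have := congrArg (fun f : F[X] => f.eval 0) h0
      simp at this
    · rw [Polynomial.IsRoot.def]
      simp only [eval_sub, eval_pow, eval_mul, eval_X, eval_C, eval_one, E]
      field_simp
      ring⟩)
  have hfix : ∀ a : F, a ^ p = a → a ∈ bad := fun a ha => by
    rw [hmem]
    exact ⟨1, by simp; omega, by rw [pow_one, ha]⟩
  refine ⟨E t, (t - t⁻¹) / 2, (t + t⁻¹) / 2, fun h => hgood (hfix _ ?_), fun h => hgood (hfix _ ?_), rfl, ?_,
    fun r h1 h2 h3 => hgood ?_⟩
  · simp only [E, h]
    rw [zero_pow two_ne_zero, zero_pow (Fact.out : p.Prime).ne_zero]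
  · have e1 : E t = -1 := by
      have : E t + 1 = ((t + t⁻¹) / 2) ^ 2 := by simp only [E]; field_simp; ring
      rw [h, zero_pow two_ne_zero] at this
      linear_combination this
    rw [e1, ((Fact.out : p.Prime).odd_of_ne_two hp2).neg_one_pow]
  · simp only [E]; field_simp; ring
  · rw [hmem]
    exact ⟨r, Finset.mem_Icc.2 ⟨h1, h2⟩, h3⟩

/-- The square of a generator of the units lies in no proper subfield. -/
theorem sq_generator_good {z : Fˣ} (hz : ∀ x : Fˣ, x ∈ Subgroup.zpowers z) (r : ℕ) (h1 : 0 < r)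
    (h2 : r ≤ Module.finrank (ZMod p) F / 2) : ((z : F) ^ 2) ^ p ^ r ≠ (z : F) ^ 2 := by
  classical
  have := Fintype.ofFinite F
  set d := Module.finrank (ZMod p) F
  have hp2 := (Fact.out : p.Prime).two_le
  have hcard : Fintype.card F = p ^ d := by rw [Module.card_eq_pow_finrank (K := ZMod p), ZMod.card]
  intro h
  have hord : orderOf z = p ^ d - 1 := by
    rw [orderOf_eq_card_of_forall_mem_zpowers hz, Nat.card_units, Nat.card_eq_fintype_card, hcard]
  have hr : 2 ≤ p ^ r := hp2.trans (Nat.le_self_pow h1.ne' p)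
  have e : z ^ (2 * (p ^ r - 1)) = 1 := by
    have e1 : z ^ (2 * p ^ r) = z ^ 2 := Units.ext (by
      rw [Units.val_pow_eq_pow_val, Units.val_pow_eq_pow_val, pow_mul]; exact h)
    rw [show 2 * p ^ r = 2 * (p ^ r - 1) + 2 by omega, pow_add] at e1
    exact mul_eq_right.1 e1
  have hle := Nat.le_of_dvd (by omega) (hord ▸ orderOf_dvd_of_pow_eq_one e)
  have e2 : p ^ r * p ^ r ≤ p ^ d := by
    rw [← pow_add]; exact Nat.pow_le_pow_right (by omega) (by omega)
  have e3 : 2 * p ^ r ≤ p ^ r * p ^ r := Nat.mul_le_mul_right _ hr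
  omega

end Cfsg.Agent.ShortPres
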