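import Cfsg.Agent.Lib.ShortPres.Word
import Cfsg.Agent.Lib.ShortPres.Param
import Cfsg.Agent.Lib.Classical.Linear
import Mathlib

/-!
Presentations of `SL₂` and `PSL₂` of bounded length on a unipotent, a torus and a Weyl generator.
-/

set_option autoImplicit false

namespace Cfsg.Agent.ShortPres

open Cfsg.Agent.Classical.GL2 Matrix
open scoped MatrixGroups

variable {F : Type*} [Field F]

theorem mat_ext {g h : SL(2, F)} (H : (g : Matrix (Fin 2) (Fin 2) F) = (h : Matrix (Fin 2) (Fin 2) F)) : g = h := by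
  ext i j
  exact congrFun (congrFun H i) j

/-- The Weyl generator. -/
def stEl : SL(2, F) := ⟨!![0, 1; -1, 0], by simp [det_fin_two]⟩

/-- The torus generator. -/
def shEl (z : Fˣ) : SL(2, F) := ⟨!![(z : F), 0; 0, (z : F)⁻¹], by simp [det_fin_two]⟩

theorem coe_stEl : ((stEl : SL(2, F)) : Matrix (Fin 2) (Fin 2) F) = !![0, 1; -1, 0] := rfl

theorem coe_shEl (z : Fˣ) : (shEl z : Matrix (Fin 2) (Fin 2) F) = !![(z : F), 0; 0, (z : F)⁻¹] := rfl

theorem st_eq : (stEl : SL(2, F)) = uniSL 1 * lowSL (-1) * uniSL 1 := by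
  refine mat_ext ?_
  rw [Matrix.SpecialLinearGroup.coe_mul, Matrix.SpecialLinearGroup.coe_mul, coe_stEl, coe_uniSL, coe_lowSL, mul_fin_two,
    mul_fin_two]
  simp

theorem sh_st_eq (z : Fˣ) :
    shEl z * stEl = uniSL (z : F) * lowSL (-(z : F)⁻¹) * uniSL (z : F) := by
  refine mat_ext ?_
  rw [Matrix.SpecialLinearGroup.coe_mul, Matrix.SpecialLinearGroup.coe_mul, Matrix.SpecialLinearGroup.coe_mul, coe_stEl, coe_shEl,
    coe_uniSL, coe_lowSL, mul_fin_two, mul_fin_two, mul_fin_two]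
  simp

theorem conj_sh (z : Fˣ) (c : F) : shEl z * uniSL c * (shEl z)⁻¹ = uniSL ((z : F) ^ 2 * c) := by
  rw [mul_inv_eq_iff_eq_mul]
  refine mat_ext ?_
  rw [Matrix.SpecialLinearGroup.coe_mul, Matrix.SpecialLinearGroup.coe_mul, coe_shEl, coe_uniSL, coe_uniSL, mul_fin_two,
    mul_fin_two]
  ext i j
  fin_cases i <;> fin_cases j <;> simp <;> field_simp

theorem conj_sh_pow (z : Fˣ) (n : ℕ) (c : F) :
    shEl z ^ n * uniSL c * (shEl z ^ n)⁻¹ = uniSL ((z : F) ^ (2 * n) * c) := by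
  induction n with
  | zero => simp
  | succ n ih =>
    rw [pow_succ', show shEl z * shEl z ^ n * uniSL c * (shEl z * shEl z ^ n)⁻¹ =
      shEl z * (shEl z ^ n * uniSL c * (shEl z ^ n)⁻¹) * (shEl z)⁻¹ by group, ih, conj_sh]
    ring_nf

theorem st_conj_sh (z : Fˣ) : stEl * shEl z * (stEl : SL(2, F))⁻¹ = (shEl z)⁻¹ := by
  rw [mul_inv_eq_iff_eq_mul, eq_inv_mul_iff_mul_eq]
  refine mat_ext ?_
  rw [Matrix.SpecialLinearGroup.coe_mul, Matrix.SpecialLinearGroup.coe_mul, coe_shEl, coe_stEl, mul_fin_two, mul_fin_two]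
  ext i j
  fin_cases i <;> fin_cases j <;> simp

theorem st_sq : (stEl : SL(2, F)) * stEl = -1 := by
  refine mat_ext ?_
  rw [Matrix.SpecialLinearGroup.coe_mul, Matrix.SpecialLinearGroup.coe_neg, Matrix.SpecialLinearGroup.coe_one, coe_stEl, mul_fin_two]
  ext i j
  fin_cases i <;> fin_cases j <;> simp

theorem center_mem {c : SL(2, F)} (hc : c ∈ Subgroup.center SL(2, F)) : c = 1 ∨ c = -1 := by
  obtain ⟨r, hr, hA⟩ := Matrix.SpecialLinearGroup.mem_center_iff.1 hc
  rw [Fintype.card_fin, sq_eq_one_iff] at hr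
  rcases hr with rfl | rfl
  · exact Or.inl (mat_ext (by rw [← hA, map_one, Matrix.SpecialLinearGroup.coe_one]))
  · exact Or.inr (mat_ext (by rw [← hA, map_neg, map_one, Matrix.SpecialLinearGroup.coe_neg, Matrix.SpecialLinearGroup.coe_one]))

variable {p d : ℕ} [Fact p.Prime] [Algebra (ZMod p) F] (B : Module.Basis (Fin d) (ZMod p) F) (k : ℕ)

theorem elt_sl (z : Fˣ) {e : F} (he : e = (z : F) ^ (2 * k)) (hB : ∀ i : Fin d, B i = e ^ (i : ℕ)) (c : F) :
    elt B k (uniSL 1) (shEl z) c = uniSL c := by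
  have h := hom_eq_word B (uniHom F) c
  rw [show uniHom F (Multiplicative.ofAdd c) = uniSL c from rfl] at h
  rw [h, elt]
  congr 1
  funext i
  rw [orb, ← pow_mul, conj_sh_pow, show uniHom F (Multiplicative.ofAdd (B i)) = uniSL (B i) from rfl, hB, he,
    mul_one, ← pow_mul, mul_assoc]

variable {B k}

/-- A presentation by short relations. -/
theorem exists_iso [Finite F] {Q : Type*} [Group Q] (π : SL(2, F) →* Q) (hπ : Function.Surjective π) {z : Fˣ}
    (hz : ∀ x : Fˣ, x ∈ Subgroup.zpowers z) {e : F} (he : e = (z : F) ^ (2 * k)) (hd : 0 < d)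
    (hB : ∀ i : Fin d, B i = e ^ (i : ℕ)) (R : Set (FreeGroup (Fin 3)))
    (hR : ∀ r ∈ R, π (FreeGroup.lift ![uniSL 1, shEl z, stEl] r) = 1)
    (H : Hyp B k (z : F) e (PresentedGroup.of (rels := R) 0) (PresentedGroup.of 1) (PresentedGroup.of 2))
    (hker : ∀ ψ : SL(2, F) →* PresentedGroup R, ψ stEl = PresentedGroup.of 2 → π.ker ≤ ψ.ker) :
    Nonempty (PresentedGroup R ≃* Q) := by
  obtain ⟨ψ, hU, hL⟩ := exists_hom hz rfl hd hB H
  have hR' : ∀ r ∈ R, FreeGroup.lift (fun i => π (![uniSL 1, shEl z, stEl] i)) r = 1 := fun r hr => by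
    rw [← hR r hr]
    exact (DFunLike.congr_fun (FreeGroup.ext_hom (FreeGroup.lift fun i => π (![uniSL 1, shEl z, stEl] i))
      (π.comp (FreeGroup.lift ![uniSL 1, shEl z, stEl])) fun i => by simp) r)
  let σ : PresentedGroup R →* Q := PresentedGroup.toGroup hR'
  have hu : ψ (uniSL 1) = PresentedGroup.of 0 := by rw [hU, elt_one hd hB]
  have ht : ψ stEl = PresentedGroup.of 2 := by
    rw [st_eq, map_mul, map_mul, hL, neg_neg, hu, elt_one hd hB]
    exact H.tu.symm
  have hh : ψ (shEl z) = PresentedGroup.of 1 := by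
    have e1 : ψ (shEl z) * ψ stEl = PresentedGroup.of 1 * PresentedGroup.of 2 := by
      rw [← map_mul, sh_st_eq, map_mul, map_mul, hU, hL, neg_neg]
      exact H.ht.symm
    rw [ht] at e1
    exact mul_right_cancel e1
  let τ : Q →* PresentedGroup R := MonoidHom.liftOfSurjective π hπ ⟨ψ, hker ψ ht⟩
  have hτ : ∀ g, τ (π g) = ψ g :=
    fun g => MonoidHom.liftOfRightInverse_comp_apply π _ (Function.rightInverse_surjInv hπ) ⟨ψ, hker ψ ht⟩ g
  have hval : ∀ i, σ (PresentedGroup.of i) = π (![uniSL 1, shEl z, stEl] i) :=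
    fun i => PresentedGroup.toGroup.of hR'
  have h1 : τ.comp σ = MonoidHom.id _ := PresentedGroup.ext fun i => by
    rw [MonoidHom.comp_apply, hval, hτ]
    fin_cases i
    exacts [hu, hh, ht]
  have h2 : σ.comp τ = MonoidHom.id _ := by
    refine MonoidHom.ext fun y => ?_
    obtain ⟨g, rfl⟩ := hπ y
    rw [MonoidHom.comp_apply, hτ, MonoidHom.id_apply]
    have hσu : ∀ c, σ (elt B k (PresentedGroup.of 0) (PresentedGroup.of 1) c) = π (uniSL c) := fun c => by
      rw [map_elt, hval, hval, ← elt_sl B k z he hB c, map_elt]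
      rfl
    suffices hloc : (σ.comp ψ).eqLocus π = ⊤ by
      exact (hloc ▸ Subgroup.mem_top g : g ∈ (σ.comp ψ).eqLocus π)
    refine Classical.Linear.eq_top_of_transvection_mem _ fun i j hij c => ?_
    show σ (ψ _) = π _
    fin_cases i <;> fin_cases j <;> first | exact absurd rfl hij | skip
    · rw [show Matrix.SpecialLinearGroup.transvection hij c = uniSL c by
        refine mat_ext ?_
        rw [coe_uniSL]
        change Matrix.transvection (0 : Fin 2) 1 c = _
        ext a b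
        fin_cases a <;> fin_cases b <;> simp [Matrix.transvection], hU, hσu]
    · rw [show Matrix.SpecialLinearGroup.transvection hij c = stEl * uniSL (-c) * stEl⁻¹ by
        rw [eq_mul_inv_iff_mul_eq]
        refine mat_ext ?_
        rw [Matrix.SpecialLinearGroup.coe_mul, Matrix.SpecialLinearGroup.coe_mul, coe_uniSL, coe_stEl]
        change Matrix.transvection (1 : Fin 2) 0 c * _ = _
        ext a b
        fin_cases a <;> fin_cases b <;> simp [Matrix.transvection, Matrix.mul_apply, Fin.sum_univ_two],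
        ]
      simp only [map_mul, map_inv, hU, ht, hσu, hval]
      rfl
  exact ⟨MonoidHom.toMulEquiv σ τ h1 h2⟩

/-- The nine relations, with the last one as a parameter. -/
noncomputable def relList (B : Module.Basis (Fin d) (ZMod p) F) (k m : ℕ) (z : Fˣ) (e : F)
    (Z : FreeGroup (Fin 3)) : List (FreeGroup (Fin 3)) :=
  let U := FreeGroup.of (0 : Fin 3)
  let H := FreeGroup.of (1 : Fin 3)
  let T := FreeGroup.of (2 : Fin 3)
  [U ^ p,
    U * (H ^ k * U * (H ^ k)⁻¹) * U⁻¹ * (H ^ k * U * (H ^ k)⁻¹)⁻¹,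
    (if 3 ≤ d then H ^ m * U * (H ^ m)⁻¹ * (U * (H ^ k * U * (H ^ k)⁻¹))⁻¹ else U ^ p),
    (H ^ k) ^ d * U * ((H ^ k) ^ d)⁻¹ * (elt B k U H (e ^ d))⁻¹,
    H * U * H⁻¹ * (elt B k U H ((z : F) ^ 2))⁻¹,
    T * H * T⁻¹ * H,
    Z,
    H * T * (elt B k U H (z : F) * (T * elt B k U H (z : F)⁻¹ * T⁻¹) * elt B k U H (z : F))⁻¹,
    T * (U * (T * U * T⁻¹) * U)⁻¹]

theorem hyp_of_relList {m : ℕ} (z : Fˣ) {e : F} (hd : 0 < d) (Z : FreeGroup (Fin 3))
    (R : Set (FreeGroup (Fin 3))) (hR : ∀ r ∈ relList B k m z e Z, r ∈ R)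
    (hZ : Commute (PresentedGroup.of (rels := R) 2 * PresentedGroup.of 2) (PresentedGroup.of 0)) :
    Hyp B k (z : F) e (PresentedGroup.of (rels := R) 0) (PresentedGroup.of 1) (PresentedGroup.of 2) := by
  have hof : ∀ i, PresentedGroup.mk R (FreeGroup.of i) = PresentedGroup.of i := fun _ => rfl
  have get : ∀ r ∈ relList B k m z e Z, PresentedGroup.mk R r = 1 := fun r hr =>
    PresentedGroup.one_of_mem (hR r hr)
  simp only [relList, List.forall_mem_cons, List.not_mem_nil, false_imp_iff, implies_true, and_true] at get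
  obtain ⟨g1, g2, g3, g4, g5, g6, -, g8, g9⟩ := get
  simp only [map_mul, map_inv, map_pow, map_elt, hof] at g1 g2 g4 g5 g6 g8 g9
  rw [mul_inv_eq_one] at g4 g5 g8 g9
  rw [mul_eq_one_iff_eq_inv] at g6
  have hcomm1 : Commute (PresentedGroup.of (rels := R) 0)
      (PresentedGroup.of 1 ^ k * PresentedGroup.of 0 * (PresentedGroup.of 1 ^ k)⁻¹) := by
    rw [mul_inv_eq_one, mul_inv_eq_iff_eq_mul] at g2
    exact g2
  refine ⟨g1, fun i hi => ?_, g4, g5, g6, hZ, g8, g9⟩
  by_cases hd3 : 3 ≤ d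
  · rw [if_pos hd3] at g3
    simp only [map_mul, map_inv, map_pow, hof] at g3
    rw [mul_inv_eq_one] at g3
    exact commute_orbit (Commute.pow_pow_self _ k m) hcomm1 g3 i
  · obtain rfl | rfl : i = 0 ∨ i = 1 := by omega
    · simp
    · simpa using hcomm1

theorem lift_elt {G : Type*} [Group G] (f : Fin 3 → G) (c : F) :
    FreeGroup.lift f (elt B k (FreeGroup.of 0) (FreeGroup.of 1) c) = elt B k (f 0) (f 1) c := by
  rw [map_elt, FreeGroup.lift_apply_of, FreeGroup.lift_apply_of]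

theorem relList_true [CharP F p] {m : ℕ} (z : Fˣ) {e : F} (he : e = (z : F) ^ (2 * k))
    (hB : ∀ i : Fin d, B i = e ^ (i : ℕ)) (hm : 3 ≤ d → e + 1 = (z : F) ^ (2 * m)) (Z : FreeGroup (Fin 3))
    {Q : Type*} [Group Q] (π : SL(2, F) →* Q) (hZ : π (FreeGroup.lift ![uniSL 1, shEl z, stEl] Z) = 1) :
    ∀ r ∈ relList B k m z e Z, π (FreeGroup.lift ![uniSL 1, shEl z, stEl] r) = 1 := by
  have hpow : (uniSL (1 : F)) ^ p = 1 := by
    have := map_pow (uniHom F) (Multiplicative.ofAdd (1 : F)) p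
    rw [show uniHom F (Multiplicative.ofAdd (1 : F)) = uniSL 1 from rfl] at this
    rw [← this, ← ofAdd_nsmul, nsmul_one, CharP.cast_eq_zero, ofAdd_zero, map_one]
  simp only [relList, List.forall_mem_cons, List.not_mem_nil, false_imp_iff, implies_true, and_true]
  refine ⟨?_, ?_, ?_, ?_, ?_, ?_, hZ, ?_, ?_⟩
  all_goals try split_ifs
  all_goals
    simp only [map_mul, map_inv, map_pow, lift_elt, FreeGroup.lift_apply_of, Matrix.cons_val_zero,
      Matrix.cons_val_one, Matrix.cons_val, elt_sl B k z he hB]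
    simp only [← map_inv, ← map_mul, ← map_pow]
    refine (congrArg π ?_).trans (map_one π)
  · exact hpow
  · rw [mul_inv_eq_one, mul_inv_eq_iff_eq_mul, conj_sh_pow, uniSL_mul, uniSL_mul, add_comm]
  · rw [mul_inv_eq_one, conj_sh_pow, conj_sh_pow, mul_one, mul_one, uniSL_mul, ← hm (by assumption), he]
    congr 1
    ring
  · exact hpow
  · rw [mul_inv_eq_one, ← pow_mul, conj_sh_pow, he, mul_one, ← pow_mul, mul_assoc]
  · rw [mul_inv_eq_one, conj_sh, mul_one]
  · rw [st_conj_sh, inv_mul_cancel]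
  · rw [mul_inv_eq_one, sh_st_eq, show stEl * uniSL (z : F)⁻¹ * stEl⁻¹ = lowSL (-(z : F)⁻¹) by
      rw [mul_inv_eq_iff_eq_mul]
      refine mat_ext ?_
      rw [Matrix.SpecialLinearGroup.coe_mul, Matrix.SpecialLinearGroup.coe_mul, coe_uniSL, coe_lowSL, coe_stEl, mul_fin_two,
        mul_fin_two]
      simp]
  · rw [mul_inv_eq_one, show stEl * uniSL (1 : F) * stEl⁻¹ = lowSL (-1) by
      rw [mul_inv_eq_iff_eq_mul]
      refine mat_ext ?_
      rw [Matrix.SpecialLinearGroup.coe_mul, Matrix.SpecialLinearGroup.coe_mul, coe_uniSL, coe_lowSL, coe_stEl, mul_fin_two,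
        mul_fin_two]
      simp]
    exact st_eq

end Cfsg.Agent.ShortPres
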