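import Mathlib

/-!
Groups presented by boundedly many relations: gluing, quotients, and change of generators.
-/

set_option autoImplicit false

namespace Cfsg.Agent.ShortPres.Bound

open Monoid

/-- Some finite generating family has a kernel normally generated by at most `k` elements. -/
def Pres (G : Type*) [Group G] (k : ℕ) : Prop :=
  ∃ (m : ℕ) (f : Fin m → G) (R : List (FreeGroup (Fin m))), R.length ≤ k ∧
    (∀ r ∈ R, FreeGroup.lift f r = 1) ∧ Function.Surjective (FreeGroup.lift f) ∧
    ∀ r, FreeGroup.lift f r = 1 → r ∈ Subgroup.normalClosure {r | r ∈ R}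

variable {G : Type*} [Group G] {k : ℕ}

theorem Pres.mono {k' : ℕ} (h : Pres G k) (hk : k ≤ k') : Pres G k' := by
  obtain ⟨m, f, R, h1, h2⟩ := h
  exact ⟨m, f, R, h1.trans hk, h2⟩

theorem Pres.congr {G' : Type*} [Group G'] (h : Pres G k) (e : G ≃* G') : Pres G' k := by
  obtain ⟨m, f, R, h1, h2, h3, h4⟩ := h
  have he : FreeGroup.lift (fun i => e (f i)) = e.toMonoidHom.comp (FreeGroup.lift f) :=
    FreeGroup.ext_hom _ _ fun i => by simp
  refine ⟨m, fun i => e (f i), R, h1, fun r hr => ?_, ?_, fun r hr => h4 r ?_⟩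
  · rw [he, MonoidHom.comp_apply, h2 r hr, map_one]
  · rw [he]; exact e.surjective.comp h3
  · rw [he] at hr; exact e.map_eq_one_iff.1 hr

/-- A homomorphism on the free group killing the relators kills the kernel. -/
theorem ker_le {α : Type*} {H : Type*} [Group H] (h : α → H) {R : List (FreeGroup α)}
    (hR : ∀ r ∈ R, FreeGroup.lift h r = 1) {r : FreeGroup α} (hr : r ∈ Subgroup.normalClosure {r | r ∈ R}) :
    FreeGroup.lift h r = 1 :=
  (Subgroup.normalClosure_le_normal (N := (FreeGroup.lift h).ker) (fun x hx => hR x hx)) hr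

/-- Generators and relators satisfying the universal property. -/
theorem Pres.of_universal {m : ℕ} (f : Fin m → G) (R : List (FreeGroup (Fin m))) (hlen : R.length ≤ k)
    (hR : ∀ r ∈ R, FreeGroup.lift f r = 1) (hs : Function.Surjective (FreeGroup.lift f))
    (hu : ∀ (H : Type) [Group H] (h : Fin m → H), (∀ r ∈ R, FreeGroup.lift h r = 1) →
      ∃ φ : G →* H, ∀ i, φ (f i) = h i) : Pres G k := by
  refine ⟨m, f, R, hlen, hR, hs, fun r hr => ?_⟩
  set N := Subgroup.normalClosure {r | r ∈ R}
  obtain ⟨φ, hφ⟩ := hu (FreeGroup (Fin m) ⧸ N) (fun i => QuotientGroup.mk' N (FreeGroup.of i)) fun x hx => by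
    rw [show FreeGroup.lift (fun i => QuotientGroup.mk' N (FreeGroup.of i)) = QuotientGroup.mk' N from
      FreeGroup.ext_hom _ _ fun i => by simp]
    exact (QuotientGroup.eq_one_iff x).2 (Subgroup.subset_normalClosure hx)
  have e : φ.comp (FreeGroup.lift f) = QuotientGroup.mk' N := FreeGroup.ext_hom _ _ fun i => by simp [hφ]
  exact (QuotientGroup.eq_one_iff r).1 (show QuotientGroup.mk' N r = 1 by
    rw [← e, MonoidHom.comp_apply, hr, map_one])

/-- A presented group has a bounded presentation. -/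
theorem Pres.of_presented {m : ℕ} (rels : Finset (FreeGroup (Fin m))) (hk : rels.card ≤ k)
    (h : Nonempty (PresentedGroup (↑rels : Set (FreeGroup (Fin m))) ≃* G)) : Pres G k := by
  obtain ⟨e⟩ := h
  refine Pres.congr ?_ e
  refine ⟨m, PresentedGroup.of, rels.toList, by rwa [Finset.length_toList], fun r hr => ?_, ?_, fun r hr => ?_⟩
  all_goals have hl : FreeGroup.lift (PresentedGroup.of (rels := (↑rels : Set (FreeGroup (Fin m))))) =
      PresentedGroup.mk _ := FreeGroup.ext_hom _ _ fun i => by simp [PresentedGroup.of]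
  · rw [hl]; exact PresentedGroup.one_of_mem (by simpa using hr)
  · rw [hl]; exact PresentedGroup.mk_surjective _
  · rw [hl] at hr
    have hset : {r | r ∈ rels.toList} = (↑rels : Set (FreeGroup (Fin m))) := by ext; simp
    rw [hset]
    exact PresentedGroup.mk_eq_one_iff.1 hr

/-- The universal property. -/
theorem exists_hom_of {m : ℕ} (f : Fin m → G) (R : List (FreeGroup (Fin m)))
    (hs : Function.Surjective (FreeGroup.lift f))
    (hn : ∀ r, FreeGroup.lift f r = 1 → r ∈ Subgroup.normalClosure {r | r ∈ R}) {H : Type*} [Group H]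
    (h : Fin m → H) (hR : ∀ r ∈ R, FreeGroup.lift h r = 1) : ∃ φ : G →* H, ∀ i, φ (f i) = h i := by
  refine ⟨(FreeGroup.lift f).liftOfRightInverse _ (Function.rightInverse_surjInv hs)
    ⟨FreeGroup.lift h, fun r hr => ker_le h hR (hn r hr)⟩, fun i => ?_⟩
  have := MonoidHom.liftOfRightInverse_comp_apply (FreeGroup.lift f) _ (Function.rightInverse_surjInv hs)
    ⟨FreeGroup.lift h, fun r hr => ker_le h hR (hn r hr)⟩ (FreeGroup.of i)
  simpa using this

/-- The coproduct maps of surjections are surjective. -/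
theorem coprod_map_surjective {A B A' B' : Type*} [Group A] [Group B] [Group A'] [Group B'] {f : A →* A'}
    {g : B →* B'} (hf : Function.Surjective f) (hg : Function.Surjective g) :
    Function.Surjective (Coprod.map f g) := by
  intro x
  induction x using Coprod.induction_on with
  | inl a => obtain ⟨a, rfl⟩ := hf a; exact ⟨Coprod.inl a, Coprod.map_apply_inl f g a⟩
  | inr b => obtain ⟨b, rfl⟩ := hg b; exact ⟨Coprod.inr b, Coprod.map_apply_inr f g b⟩
  | mul x y hx hy =>
    obtain ⟨x, rfl⟩ := hx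
    obtain ⟨y, rfl⟩ := hy
    exact ⟨x * y, map_mul _ x y⟩

/-- Evaluation of the glued words. -/
theorem word_eval {A B H : Type*} [Group A] [Group B] [Group H] {a b : ℕ} (fA : Fin a → A) (fB : Fin b → B)
    (jA : FreeGroup (Fin a) →* FreeGroup (Fin (a + b))) (jB : FreeGroup (Fin b) →* FreeGroup (Fin (a + b)))
    (hjA : jA = FreeGroup.map (Fin.castAdd b)) (hjB : jB = FreeGroup.map (Fin.natAdd a))
    (α : A →* H) (β : B →* H) (h : Fin (a + b) → H)
    (ha : ∀ i, h (Fin.castAdd b i) = α (fA i)) (hb : ∀ i, h (Fin.natAdd a i) = β (fB i)) :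
    (∀ r, FreeGroup.lift h (jA r) = α (FreeGroup.lift fA r)) ∧
      (∀ r, FreeGroup.lift h (jB r) = β (FreeGroup.lift fB r)) ∧
      ∀ w, FreeGroup.lift h (Coprod.lift jA jB w) =
        Coprod.lift α β (Coprod.map (FreeGroup.lift fA) (FreeGroup.lift fB) w) := by
  have e1 : (FreeGroup.lift h).comp jA = α.comp (FreeGroup.lift fA) :=
    FreeGroup.ext_hom _ _ fun i => by simp [hjA, ha]
  have e2 : (FreeGroup.lift h).comp jB = β.comp (FreeGroup.lift fB) :=
    FreeGroup.ext_hom _ _ fun i => by simp [hjB, hb]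
  refine ⟨fun r => DFunLike.congr_fun e1 r, fun r => DFunLike.congr_fun e2 r, fun w => ?_⟩
  have e3 : (FreeGroup.lift h).comp (Coprod.lift jA jB) =
      (Coprod.lift α β).comp (Coprod.map (FreeGroup.lift fA) (FreeGroup.lift fB)) := by
    refine Coprod.hom_ext ?_ ?_
    · rw [MonoidHom.comp_assoc, Coprod.lift_comp_inl, e1, MonoidHom.comp_assoc, Coprod.map_comp_inl,
        ← MonoidHom.comp_assoc, Coprod.lift_comp_inl]
    · rw [MonoidHom.comp_assoc, Coprod.lift_comp_inr, e2, MonoidHom.comp_assoc, Coprod.map_comp_inr,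
        ← MonoidHom.comp_assoc, Coprod.lift_comp_inr]
  exact DFunLike.congr_fun e3 w

/-- A group glued from two presented groups along a list of extra relations. -/
theorem Pres.glue {A B : Type*} [Group A] [Group B] {kA kB : ℕ} (hA : Pres A kA) (hB : Pres B kB)
    (iA : A →* G) (iB : B →* G) (hgen : iA.range ⊔ iB.range = ⊤) (E : List (Coprod A B))
    (hE : ∀ e ∈ E, Coprod.lift iA iB e = 1)
    (hu : ∀ (H : Type) [Group H] (α : A →* H) (β : B →* H), (∀ e ∈ E, Coprod.lift α β e = 1) →
      ∃ φ : G →* H, φ.comp iA = α ∧ φ.comp iB = β) : Pres G (kA + kB + E.length) := by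
  obtain ⟨a, fA, RA, lA, tA, sA, nA⟩ := hA
  obtain ⟨b, fB, RB, lB, tB, sB, nB⟩ := hB
  let jA : FreeGroup (Fin a) →* FreeGroup (Fin (a + b)) := FreeGroup.map (Fin.castAdd b)
  let jB : FreeGroup (Fin b) →* FreeGroup (Fin (a + b)) := FreeGroup.map (Fin.natAdd a)
  obtain ⟨sec, hsec⟩ := (coprod_map_surjective sA sB).hasRightInverse
  let word : Coprod A B → FreeGroup (Fin (a + b)) := fun e => Coprod.lift jA jB (sec e)
  have word_eq : ∀ e, Coprod.map (FreeGroup.lift fA) (FreeGroup.lift fB) (sec e) = e := hsec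
  let f : Fin (a + b) → G := Fin.append (fun i => iA (fA i)) (fun i => iB (fB i))
  obtain ⟨kfA, kfB, kfE⟩ := word_eval fA fB jA jB rfl rfl iA iB f (fun i => Fin.append_left _ _ i) (fun i => Fin.append_right _ _ i)
  refine Pres.of_universal f (RA.map jA ++ RB.map jB ++ E.map word) (by simp; omega) (fun r hr => ?_) ?_ ?_
  · simp only [List.mem_append, List.mem_map] at hr
    rcases hr with (⟨r, h, rfl⟩ | ⟨r, h, rfl⟩) | ⟨e, h, rfl⟩
    · rw [kfA, tA r h, map_one]
    · rw [kfB, tB r h, map_one]
    · rw [kfE, word_eq, hE e h]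
  · rw [← MonoidHom.range_eq_top, eq_top_iff, ← hgen, sup_le_iff]
    constructor
    · rintro _ ⟨x, rfl⟩
      obtain ⟨r, rfl⟩ := sA x
      exact ⟨jA r, kfA r⟩
    · rintro _ ⟨x, rfl⟩
      obtain ⟨r, rfl⟩ := sB x
      exact ⟨jB r, kfB r⟩
  · intro H _ h hR
    have hh : ∀ {n : ℕ} (j : Fin n → Fin (a + b)) (r : FreeGroup (Fin n)),
        FreeGroup.lift (fun i => h (j i)) r = FreeGroup.lift h (FreeGroup.map j r) := fun j r =>
      DFunLike.congr_fun (show FreeGroup.lift (fun i => h (j i)) = (FreeGroup.lift h).comp (FreeGroup.map j) from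
        FreeGroup.ext_hom _ _ fun i => by simp) r
    obtain ⟨α, hα⟩ := exists_hom_of fA RA sA nA (fun i => h (Fin.castAdd b i)) fun r hr => (hh _ r).trans <| hR _ (by
      simp only [List.mem_append, List.mem_map]; exact Or.inl (Or.inl ⟨r, hr, rfl⟩))
    obtain ⟨β, hβ⟩ := exists_hom_of fB RB sB nB (fun i => h (Fin.natAdd a i)) fun r hr => (hh _ r).trans <| hR _ (by
      simp only [List.mem_append, List.mem_map]; exact Or.inl (Or.inr ⟨r, hr, rfl⟩))
    obtain ⟨-, -, khE⟩ := word_eval fA fB jA jB rfl rfl α β h (fun i => (hα i).symm) (fun i => (hβ i).symm)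
    obtain ⟨φ, hφA, hφB⟩ := hu H α β fun e he => by
      rw [← word_eq e, ← khE]
      exact hR _ (by simp only [List.mem_append, List.mem_map]; exact Or.inr ⟨e, he, rfl⟩)
    refine ⟨φ, fun i => ?_⟩
    induction i using Fin.addCases with
    | left i => simp [f, ← hα, ← hφA]
    | right i => simp [f, ← hβ, ← hφB]

/-- A quotient by the normal closure of one element costs one relation. -/
theorem Pres.quotient {Q : Type*} [Group Q] (h : Pres G k) (π : G →* Q) (hπ : Function.Surjective π) (z : G)
    (hz : π z = 1) (hker : π.ker ≤ Subgroup.normalClosure {z}) : Pres Q (k + 1) := by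
  obtain ⟨m, f, R, h1, h2, h3, h4⟩ := h
  obtain ⟨w, hw⟩ := h3 z
  have he : FreeGroup.lift (fun i => π (f i)) = π.comp (FreeGroup.lift f) := FreeGroup.ext_hom _ _ fun i => by simp
  refine ⟨m, fun i => π (f i), w :: R, by simpa using h1, fun r hr => ?_, ?_, fun r hr => ?_⟩
  · rw [he, MonoidHom.comp_apply]
    rcases List.mem_cons.1 hr with rfl | hr
    · rw [hw, hz]
    · rw [h2 r hr, map_one]
  · rw [he]; exact hπ.comp h3
  · rw [he] at hr
    set N := Subgroup.normalClosure {x | x ∈ w :: R}
    have : N.Normal := Subgroup.normalClosure_normal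
    have hzN : Subgroup.normalClosure {z} ≤ N.map (FreeGroup.lift f) := by
      have : (N.map (FreeGroup.lift f)).Normal := Subgroup.Normal.map inferInstance _ h3
      refine Subgroup.normalClosure_le_normal ?_
      rintro _ rfl
      exact ⟨w, Subgroup.subset_normalClosure (List.mem_cons_self ..), hw⟩
    obtain ⟨r', hr', e⟩ := hzN (hker hr)
    have hmono : Subgroup.normalClosure {x | x ∈ R} ≤ N :=
      Subgroup.normalClosure_mono fun x hx => List.mem_cons_of_mem _ hx
    have e2 : r * r'⁻¹ ∈ N := hmono (h4 _ (by rw [map_mul, map_inv, e, mul_inv_cancel]))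
    simpa using N.mul_mem e2 hr'

/-- Any generating tuple carries a presentation with as many more relators as generators. -/
theorem Pres.exists_presented {l : ℕ} (h : Pres G k) (g : Fin l → G)
    (hg : Subgroup.closure (Set.range g) = ⊤) : ∃ rels : Finset (FreeGroup (Fin l)), rels.card ≤ k + l ∧
      Nonempty (PresentedGroup (↑rels : Set (FreeGroup (Fin l))) ≃* G) := by
  classical
  obtain ⟨m, f, R, h1, h2, h3, h4⟩ := h
  have hgs : Function.Surjective (FreeGroup.lift g) := by
    rw [← MonoidHom.range_eq_top, FreeGroup.range_lift_eq_closure, hg]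
  choose w hw using fun i => hgs (f i)
  choose v hv using fun j => h3 (g j)
  let S := R.map (FreeGroup.lift w) ++ (List.ofFn fun j => FreeGroup.of j * (FreeGroup.lift w (v j))⁻¹)
  have hgw : (FreeGroup.lift g).comp (FreeGroup.lift w) = FreeGroup.lift f :=
    FreeGroup.ext_hom _ _ fun i => by simp [hw]
  have hS : ∀ r ∈ (↑S.toFinset : Set (FreeGroup (Fin l))), FreeGroup.lift g r = 1 := by
    intro r hr
    simp only [S, List.coe_toFinset, Set.mem_ofPred_eq, List.mem_append, List.mem_map, List.mem_ofFn] at hr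
    rcases hr with ⟨r, h, rfl⟩ | ⟨j, rfl⟩
    · rw [← MonoidHom.comp_apply, hgw, h2 r h]
    · rw [map_mul, map_inv, ← MonoidHom.comp_apply, hgw, hv, FreeGroup.lift_apply_of, mul_inv_cancel]
  set P := (↑S.toFinset : Set (FreeGroup (Fin l)))
  have hk : ∀ r : FreeGroup (Fin m), FreeGroup.lift f r = 1 →
      PresentedGroup.mk P (FreeGroup.lift w r) = 1 := by
    intro r hr
    have e : (PresentedGroup.mk P).comp (FreeGroup.lift w) =
        FreeGroup.lift fun i => PresentedGroup.mk P (w i) := FreeGroup.ext_hom _ _ fun i => by simp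
    rw [← MonoidHom.comp_apply, e]
    refine ker_le _ (fun x hx => ?_) (h4 r hr)
    rw [← e]
    exact PresentedGroup.one_of_mem (by simp [P, S]; exact Or.inl ⟨x, hx, rfl⟩)
  let Φ : G →* PresentedGroup P := (FreeGroup.lift f).liftOfRightInverse _ (Function.rightInverse_surjInv h3)
    ⟨(PresentedGroup.mk P).comp (FreeGroup.lift w), fun r hr => hk r hr⟩
  have hΦ : ∀ r, Φ (FreeGroup.lift f r) = PresentedGroup.mk P (FreeGroup.lift w r) := fun r =>
    MonoidHom.liftOfRightInverse_comp_apply (FreeGroup.lift f) _ (Function.rightInverse_surjInv h3)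
      ⟨(PresentedGroup.mk P).comp (FreeGroup.lift w), fun r hr => hk r hr⟩ r
  refine ⟨S.toFinset, (List.toFinset_card_le _).trans (by simp [S]; omega),
    ⟨MonoidHom.toMulEquiv (PresentedGroup.toGroup hS) Φ ?_ ?_⟩⟩
  · refine PresentedGroup.ext fun j => ?_
    rw [MonoidHom.comp_apply, PresentedGroup.toGroup.of, MonoidHom.id_apply, ← hv j, hΦ]
    have := PresentedGroup.one_of_mem (rels := P) (x := FreeGroup.of j * (FreeGroup.lift w (v j))⁻¹)
      (by simp [P, S])
    rw [map_mul, map_inv, mul_inv_eq_one] at this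
    exact this.symm
  · refine MonoidHom.ext fun x => ?_
    obtain ⟨r, rfl⟩ := h3 x
    rw [MonoidHom.comp_apply, hΦ]
    show PresentedGroup.toGroup hS (PresentedGroup.mk P (FreeGroup.lift w r)) = _
    exact DFunLike.congr_fun hgw r

end Cfsg.Agent.ShortPres.Bound
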