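import Cfsg.Agent.Lib.ShortPres.SLTwo
import Cfsg.Agent.Lib.SteinbergSL.Outer
import Mathlib

/-!
Fourteen relations on a unipotent, a torus, a Weyl and a three-cycle generator give a homomorphism from `SL₃`.
-/

set_option autoImplicit false
set_option linter.unusedSectionVars false

namespace Cfsg.Agent.ShortPres.Three

open Cfsg.Agent.Classical.GL2 Matrix Cfsg.Agent.SimpleFacts.SLnRootLifts
open scoped MatrixGroups commutatorElement

variable {F : Type*} [Field F] {p d : ℕ} [Fact p.Prime] [Algebra (ZMod p) F]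
  (B : Module.Basis (Fin d) (ZMod p) F) {G : Type*} [Group G]

/-- The torus element of the first block. -/
def hEl (g t : G) : G := g * (t * g * t⁻¹)⁻¹

/-- Upper root elements of the first block. -/
noncomputable def xx (u g t : G) (c : F) : G := elt B 1 u (hEl g t) c

/-- The root elements of the three blocks. -/
noncomputable def root (u g t s : G) (i j : Fin 3) (a : F) : G :=
  ![![1, xx B u g t a, s * s * (t * xx B u g t a * t⁻¹) * (s * s)⁻¹],
    ![t * xx B u g t (-a) * t⁻¹, 1, s * xx B u g t a * s⁻¹],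
    ![s * s * xx B u g t (-a) * (s * s)⁻¹, s * (t * xx B u g t (-a) * t⁻¹) * s⁻¹, 1]] i j

/-- The relations. -/
structure Hyp3 (n m : ℕ) (z : Fˣ) (u g t s : G) : Prop where
  pow : u ^ p = 1
  b : 3 ≤ d → g ^ m * u * (g ^ m)⁻¹ = u * (hEl g t * u * (hEl g t)⁻¹)
  min : (hEl g t ^ 1) ^ d * u * ((hEl g t ^ 1) ^ d)⁻¹ = xx B u g t (((z : F) ^ 2) ^ d)
  gu : g * u * g⁻¹ = xx B u g t (z : F)
  cgg : Commute g (t * g * t⁻¹)
  tt : t * t = hEl g t ^ n
  ht : hEl g t * t =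
    xx B u g t (z : F) * (t * xx B u g t (z : F)⁻¹ * t⁻¹) * xx B u g t (z : F)
  tu : t = u * (t * u * t⁻¹) * u
  s3 : s * s * s = 1
  sw : s = t * (s * t * s⁻¹)
  rg : g = hEl g t * (s * hEl g t * s⁻¹)
  row : Commute u (root B u g t s 0 2 (1 : F))
  col : Commute u (root B u g t s 2 1 ((z : F) ^ 2))
  brk : ⁅root B u g t s 0 2 (1 : F), root B u g t s 2 1 ((z : F) ^ 2)⁆ = xx B u g t ((z : F) ^ 2)
  brk' : d = 2 → p = 2 →
    ⁅root B u g t s 0 2 ((z : F) ^ 2), root B u g t s 2 1 ((z : F) ^ 2)⁆ = xx B u g t ((z : F) ^ 2 * (z : F) ^ 2)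

theorem map_xx {H : Type*} [Group H] (f : G →* H) (u g t : G) (c : F) :
    f (xx B u g t c) = xx B (f u) (f g) (f t) c := by
  simp [xx, map_elt, hEl]

theorem map_root {H : Type*} [Group H] (f : G →* H) (u g t s : G) (i j : Fin 3) (a : F) :
    f (root B u g t s i j a) = root B (f u) (f g) (f t) (f s) i j a := by
  fin_cases i <;> fin_cases j <;> simp [root, map_xx]

theorem conj_st_low (a : F) : stEl * lowSL a * (stEl : SL(2, F))⁻¹ = uniSL (-a) := by
  rw [mul_inv_eq_iff_eq_mul]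
  refine mat_ext ?_
  rw [Matrix.SpecialLinearGroup.coe_mul, Matrix.SpecialLinearGroup.coe_mul, coe_uniSL, coe_lowSL, coe_stEl,
    mul_fin_two, mul_fin_two]
  simp

theorem conj_st_inv_uni (a : F) : (stEl : SL(2, F))⁻¹ * uniSL a * stEl = lowSL (-a) := by
  rw [mul_assoc, inv_mul_eq_iff_eq_mul]
  refine mat_ext ?_
  rw [Matrix.SpecialLinearGroup.coe_mul, Matrix.SpecialLinearGroup.coe_mul, coe_uniSL, coe_lowSL, coe_stEl,
    mul_fin_two, mul_fin_two]
  simp

theorem conj_sh_low (z : Fˣ) (c : F) : shEl z * lowSL c * (shEl z)⁻¹ = lowSL (((z : F) ^ 2)⁻¹ * c) := by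
  rw [mul_inv_eq_iff_eq_mul]
  refine mat_ext ?_
  rw [Matrix.SpecialLinearGroup.coe_mul, Matrix.SpecialLinearGroup.coe_mul, coe_shEl, coe_lowSL, coe_lowSL,
    mul_fin_two, mul_fin_two]
  ext i j
  fin_cases i <;> fin_cases j <;> simp <;> field_simp

/-- A set closed under sums and under the cube of a generator is everything. -/
theorem eq_univ_of_cube [Finite F] [CharP F p] {z : Fˣ} (hz : ∀ x : Fˣ, x ∈ Subgroup.zpowers z)
    (hd3 : Module.finrank (ZMod p) F = d) (hne : ¬(d = 2 ∧ p = 2)) {S : Set F} (h0 : (0 : F) ∈ S)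
    (hadd : ∀ a b, a ∈ S → b ∈ S → a + b ∈ S) (hmul : ∀ a ∈ S, (z : F) ^ 3 * a ∈ S) {a : F} (ha : a ∈ S)
    (ha0 : a ≠ 0) : ∀ c, c ∈ S := by
  classical
  have := Fintype.ofFinite F
  have hgood : ∀ r, 0 < r → r ≤ Module.finrank (ZMod p) F / 2 → ((z : F) ^ 3) ^ p ^ r ≠ (z : F) ^ 3 := by
    intro r h1 h2 h
    have hp2 := (Fact.out : p.Prime).two_le
    have hcard : Fintype.card F = p ^ d := by rw [Module.card_eq_pow_finrank (K := ZMod p), ZMod.card, hd3]
    have hord : orderOf z = p ^ d - 1 := by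
      rw [orderOf_eq_card_of_forall_mem_zpowers hz, Nat.card_units, Nat.card_eq_fintype_card, hcard]
    have hr : 2 ≤ p ^ r := hp2.trans (Nat.le_self_pow h1.ne' p)
    have e : z ^ (3 * (p ^ r - 1)) = 1 := by
      have e1 : z ^ (3 * p ^ r) = z ^ 3 := Units.ext (by
        rw [Units.val_pow_eq_pow_val, Units.val_pow_eq_pow_val, pow_mul]; exact h)
      rw [show 3 * p ^ r = 3 * (p ^ r - 1) + 3 by omega, pow_add] at e1
      exact mul_eq_right.1 e1
    have hle := Nat.le_of_dvd (by omega) (hord ▸ orderOf_dvd_of_pow_eq_one e)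
    rw [hd3] at h2
    have e2 : p ^ r * p ^ r ≤ p ^ d := by
      rw [← pow_add]; exact Nat.pow_le_pow_right (by omega) (by omega)
    rcases eq_or_lt_of_le hr with h2r | h3r
    · -- the smallest case
      have hp : p = 2 := le_antisymm (h2r ▸ Nat.le_self_pow h1.ne' p) hp2
      have hr1 : r = 1 := by
        by_contra hne1
        have : p ^ 2 ≤ p ^ r := Nat.pow_le_pow_right (by omega) (by omega)
        rw [hp] at this h2r
        omega
      have hd' : d ≠ 2 := fun h => hne ⟨h, hp⟩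
      have : p ^ 3 ≤ p ^ d := Nat.pow_le_pow_right (by omega) (by omega)
      rw [hp, hr1] at hle
      rw [hp] at this
      omega
    · have e3 : 3 * p ^ r ≤ p ^ r * p ^ r := Nat.mul_le_mul_right _ h3r
      omega
  obtain ⟨B3, hB3⟩ := ShortPres.exists_basis (p := p) (e := (z : F) ^ 3) hgood
  intro c
  have hnsmul : ∀ b ∈ S, ∀ k : ℕ, k • b ∈ S := fun b hb k => by
    induction k with
    | zero => rw [zero_smul]; exact h0
    | succ k ih => rw [add_smul, one_smul]; exact hadd _ _ ih hb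
  have hpows : ∀ i : ℕ, a * ((z : F) ^ 3) ^ i ∈ S := fun i => by
    induction i with
    | zero => rw [pow_zero, mul_one]; exact ha
    | succ i ih => rw [pow_succ', ← mul_assoc, mul_comm a, mul_assoc]; exact hmul _ ih
  have e := B3.sum_repr (a⁻¹ * c)
  have e2 : c = ∑ i, (B3.repr (a⁻¹ * c) i).val • (a * ((z : F) ^ 3) ^ (i : ℕ)) := by
    calc c = a * (a⁻¹ * c) := by field_simp
      _ = a * ∑ i, B3.repr (a⁻¹ * c) i • B3 i := by rw [e]
      _ = _ := by
        rw [Finset.mul_sum]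
        refine Finset.sum_congr rfl fun i _ => ?_
        rw [hB3, mul_smul_comm, ← Nat.cast_smul_eq_nsmul (ZMod p), ZMod.natCast_zmod_val]
  rw [e2]
  exact Finset.sum_induction _ (· ∈ S) hadd h0 fun i _ => hnsmul _ (hpows _) _

variable {B}

set_option maxHeartbeats 1600000 in
/-- The relations give a homomorphism from `SL₃`. -/
theorem exists_hom3 [Finite F] [CharP F p] {z : Fˣ} (hz : ∀ x : Fˣ, x ∈ Subgroup.zpowers z)
    (hd3 : Module.finrank (ZMod p) F = d) (hd : 0 < d) (hB : ∀ i : Fin d, B i = ((z : F) ^ 2) ^ (i : ℕ))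
    {n m : ℕ} (hn : (z : F) ^ n = -1) {u g t s : G} (H : Hyp3 B n m z u g t s) :
    ∃ Φ : SL(3, F) →* G, ∀ i j, i ≠ j → ∀ a, Φ (T i j a) = root B u g t s i j a := by
  classical
  set h := hEl g t with hhdef
  set g' := t * g * t⁻¹ with hg'
  have hh : h = g * g'⁻¹ := rfl
  have cgh : Commute g h := by rw [hh]; exact (Commute.refl g).mul_right H.cgg.inv_right
  have ctg : Commute (t * t) g := by rw [H.tt]; exact (cgh.pow_right n).symm
  have hth : t * h * t⁻¹ = h⁻¹ := by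
    calc t * h * t⁻¹ = g' * (t * t * g⁻¹ * (t * t)⁻¹) := by rw [hh, hg']; group
      _ = g' * g⁻¹ := by rw [ctg.inv_right.eq, mul_inv_cancel_right]
      _ = h⁻¹ := by rw [hh]; group
  have hc1 : 2 ≤ d → Commute u (h * u * h⁻¹) := by
    intro h2
    have e : xx B u g t ((z : F) ^ 2) = h * u * h⁻¹ := by
      have := hB ⟨1, h2⟩
      rw [pow_one] at this
      rw [xx, elt, ← this, word_single, orb]
      simp [h]
    rw [← e, ← H.brk]
    exact SteinbergSL.Outer.commute_comm H.row H.col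
  have hc : ∀ i < d, Commute u ((h ^ 1) ^ i * u * ((h ^ 1) ^ i)⁻¹) := by
    intro i hi
    by_cases hd' : 3 ≤ d
    · exact commute_orbit ((cgh.pow_left m).symm.pow_left 1) (by rw [pow_one]; exact hc1 (by omega))
        (by rw [pow_one]; exact H.b hd') i
    · obtain rfl | rfl : i = 0 ∨ i = 1 := by omega
      · simp
      · simpa using hc1 (by omega)
  have hone : xx B u g t (1 : F) = u := elt_one hd hB
  have hu : h * u * h⁻¹ = xx B u g t ((z : F) ^ 2) := by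
    by_cases hd1 : 1 < d
    · have := hB ⟨1, hd1⟩
      rw [pow_one] at this
      rw [xx, elt, ← this, word_single, orb]
      simp [h]
    · obtain rfl : d = 1 := by omega
      simpa [h] using H.min
  have hstep : ∀ c, h ^ 1 * xx B u g t c * (h ^ 1)⁻¹ = xx B u g t ((z : F) ^ 2 * c) := by
    refine conj_elt (B := B) H.pow hc _ ((z : F) ^ 2) fun i => ?_
    rw [orb, show h ^ 1 * ((h ^ 1) ^ (i : ℕ) * u * ((h ^ 1) ^ (i : ℕ))⁻¹) * (h ^ 1)⁻¹ =
      (h ^ 1) ^ ((i : ℕ) + 1) * u * ((h ^ 1) ^ ((i : ℕ) + 1))⁻¹ by rw [pow_succ']; group, hB, ← pow_succ']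
    by_cases hi : (i : ℕ) + 1 < d
    · rw [← hB ⟨(i : ℕ) + 1, hi⟩, elt, word_single, orb]
    · rw [show (i : ℕ) + 1 = d by omega]; exact H.min
  simp only [pow_one] at hstep
  have hpowconj : ∀ (k : ℕ) c, h ^ k * xx B u g t c * (h ^ k)⁻¹ = xx B u g t ((z : F) ^ (2 * k) * c) := by
    intro k
    induction k with
    | zero => intro c; simp
    | succ k ih =>
      intro c
      rw [pow_succ' h k, show h * h ^ k * xx B u g t c * (h * h ^ k)⁻¹ =
        h * (h ^ k * xx B u g t c * (h ^ k)⁻¹) * h⁻¹ by group, ih, hstep]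
      ring_nf
  have hn2 : (z : F) ^ (2 * n) = 1 := by rw [mul_comm, pow_mul, hn]; ring
  have htt : Commute (t * t) u := by
    rw [H.tt, Commute, SemiconjBy, ← mul_inv_eq_iff_eq_mul, ← hone, hpowconj, hn2, mul_one]
  obtain ⟨ψ, hψU, hψL⟩ := exists_hom hz rfl hd hB
    (⟨H.pow, hc, H.min, hu, hth, htt, H.ht, H.tu⟩ : Hyp B 1 (z : F) ((z : F) ^ 2) u h t)
  change ∀ c, ψ (uniSL c) = xx B u g t c at hψU
  change ∀ c, ψ (lowSL c) = t * xx B u g t (-c) * t⁻¹ at hψL
  have hψt : ψ stEl = t := by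
    rw [st_eq, map_mul, map_mul, hψL, neg_neg, hψU, hone]
    exact H.tu.symm
  have hψh : ψ (shEl z) = h := by
    have e1 : ψ (shEl z) * ψ stEl = h * t := by
      rw [← map_mul, sh_st_eq, map_mul, map_mul, hψU, hψL, neg_neg]
      exact H.ht.symm
    rw [hψt] at e1
    exact mul_right_cancel e1
  obtain ⟨x, hx⟩ : ∃ x : F → G, ∀ c, x c = ψ (uniSL c) := ⟨_, fun _ => rfl⟩
  obtain ⟨y, hy⟩ : ∃ y : F → G, ∀ c, y c = ψ (lowSL c) := ⟨_, fun _ => rfl⟩
  have hxx : ∀ c, xx B u g t c = x c := fun c => by rw [hx, hψU]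
  have hxadd : ∀ a b, x (a + b) = x a * x b := fun a b => by rw [hx, hx, hx, ← map_mul, uniSL_mul]
  have htx : ∀ c, t * x c * t⁻¹ = y (-c) := fun c => by rw [hy, hψL, neg_neg, hxx]
  have hyadd : ∀ a b, y (a + b) = y a * y b := fun a b => by
    calc y (a + b) = t * x (-(a + b)) * t⁻¹ := by rw [htx, neg_neg]
      _ = (t * x (-a) * t⁻¹) * (t * x (-b) * t⁻¹) := by rw [neg_add, hxadd]; group
      _ = _ := by rw [htx, htx, neg_neg, neg_neg]
  have hty : ∀ c, t * y c * t⁻¹ = x (-c) := fun c => by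
    rw [hy, hx, ← hψt, ← map_inv, ← map_mul, ← map_mul, conj_st_low]
  have htinv : ∀ c, t⁻¹ * x c * t = y (-c) := fun c => by
    rw [hy, hx, ← hψt, ← map_inv, ← map_mul, ← map_mul, conj_st_inv_uni]
  have hhx : ∀ c, h * x c * h⁻¹ = x ((z : F) ^ 2 * c) := fun c => by
    rw [← hxx, ← hxx, hstep]
  have hhy : ∀ c, h * y c * h⁻¹ = y (((z : F) ^ 2)⁻¹ * c) := fun c => by
    rw [hy, hy, ← hψh, ← map_inv, ← map_mul, ← map_mul, conj_sh_low]
  have hgx : ∀ c, g * x c * g⁻¹ = x ((z : F) * c) := by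
    intro c
    rw [← hxx, ← hxx]
    refine conj_elt (B := B) H.pow hc g (z : F) (fun i => ?_) c
    have e : Commute g (hEl g t ^ (i : ℕ)) := cgh.pow_right _
    rw [orb, pow_one, show g * (hEl g t ^ (i : ℕ) * u * (hEl g t ^ (i : ℕ))⁻¹) * g⁻¹ =
      (g * hEl g t ^ (i : ℕ)) * u * ((g * hEl g t ^ (i : ℕ))⁻¹) by group, e.eq, show hEl g t ^ (i : ℕ) * g * u *
      (hEl g t ^ (i : ℕ) * g)⁻¹ = hEl g t ^ (i : ℕ) * (g * u * g⁻¹) * (hEl g t ^ (i : ℕ))⁻¹ by group, H.gu,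
      hpowconj, hB, ← pow_mul, mul_comm]
    rfl
  have cgg : Commute g g' := H.cgg
  have hgg' : g' = h⁻¹ * g := by
    calc g' = g' * g⁻¹ * g := by group
      _ = h⁻¹ * g := by rw [hh, _root_.mul_inv_rev, inv_inv]
  have hinvconj : ∀ {a : G} {P : F → G} {c₀ : F}, c₀ ≠ 0 → (∀ c, a * P c * a⁻¹ = P (c₀ * c)) →
      ∀ c, a⁻¹ * P c * a⁻¹⁻¹ = P (c₀⁻¹ * c) := by
    intro a P c₀ h0 hP c
    conv_lhs => rw [show c = c₀ * (c₀⁻¹ * c) by rw [mul_inv_cancel_left₀ h0], ← hP]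
    group
  have hzne : (z : F) ≠ 0 := z.ne_zero
  have hg'x : ∀ c, g' * x c * g'⁻¹ = x ((z : F)⁻¹ * c) := fun c => by
    have e := hinvconj (pow_ne_zero 2 hzne) hhx ((z : F) * c)
    rw [← hgx, show ((z : F) ^ 2)⁻¹ * ((z : F) * c) = (z : F)⁻¹ * c by field_simp] at e
    rw [hgg', ← e]; group
  have htgt : t⁻¹ * g * t = g' := by
    calc t⁻¹ * g * t = (t * t)⁻¹ * g' * (t * t) := by rw [hg']; group
      _ = g' := by
        have e : Commute (t * t) g' := by
          rw [hgg']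
          exact ((H.tt ▸ (Commute.refl h).pow_left n : Commute (t * t) h).inv_right).mul_right ctg
        rw [e.inv_left.eq, inv_mul_cancel_right]
  have hgy : ∀ c, g * y c * g⁻¹ = y ((z : F)⁻¹ * c) := fun c => by
    calc g * y c * g⁻¹ = g * (t * x (-c) * t⁻¹) * g⁻¹ := by rw [htx, neg_neg]
      _ = t * ((t⁻¹ * g * t) * x (-c) * (t⁻¹ * g * t)⁻¹) * t⁻¹ := by group
      _ = _ := by rw [htgt, hg'x, mul_neg, htx, neg_neg]
  have hg'y : ∀ c, g' * y c * g'⁻¹ = y ((z : F) * c) := fun c => by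
    have e := hinvconj (inv_ne_zero (pow_ne_zero 2 hzne)) hhy ((z : F)⁻¹ * c)
    simp only [inv_inv] at e
    rw [← hgy, show (z : F) ^ 2 * ((z : F)⁻¹ * c) = (z : F) * c by field_simp] at e
    rw [hgg', ← e]; group
  -- the three-cycle
  have hs2 : s * s = s⁻¹ := eq_inv_of_mul_eq_one_left H.s3
  have htst : t * s * t = s⁻¹ := by
    rw [← hs2]
    calc t * s * t = t * (s * t * s⁻¹) * s := by group
      _ = s * s := by rw [← H.sw]
  have hts : t * s = s⁻¹ * t⁻¹ := eq_mul_inv_of_mul_eq htst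
  have hts' : t * s⁻¹ = t * t * s * t := by rw [← htst]; group
  have shs : s * h * s⁻¹ = g' := by
    have e : s * h * s⁻¹ = h⁻¹ * g := eq_inv_mul_of_mul_eq H.rg.symm
    rw [e, hgg']
  have sgs : s * g * s⁻¹ = h⁻¹ := by
    have e1 : t * g' * t⁻¹ = g := by
      rw [hg', show t * (t * g * t⁻¹) * t⁻¹ = t * t * g * (t * t)⁻¹ by group, ctg.eq, mul_inv_cancel_right]
    have e2 : s⁻¹ * h⁻¹ * s = g := by
      calc s⁻¹ * h⁻¹ * s = s⁻¹ * (t⁻¹ * (t * h⁻¹ * t⁻¹) * t) * s := by group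
        _ = (s⁻¹ * t⁻¹) * h * (s⁻¹ * t⁻¹)⁻¹ := by
          rw [show t * h⁻¹ * t⁻¹ = h by rw [show t * h⁻¹ * t⁻¹ = (t * h * t⁻¹)⁻¹ by group, hth, inv_inv]]
          group
        _ = t * (s * h * s⁻¹) * t⁻¹ := by rw [← hts]; group
        _ = g := by rw [shs, e1]
    rw [← e2]; group
  have sg's : s * g' * s⁻¹ = g⁻¹ := by
    rw [hgg', show s * (h⁻¹ * g) * s⁻¹ = (s * h * s⁻¹)⁻¹ * (s * g * s⁻¹) by group, shs, sgs, hh]
    group
  have sgis : s⁻¹ * g * s = g'⁻¹ := by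
    have e := congrArg (fun a => s⁻¹ * a⁻¹ * s) sg's
    simp only [inv_inv] at e
    rw [← e]; group
  have shis : s⁻¹ * h * s = g⁻¹ := by
    have e := congrArg (fun a => s⁻¹ * a⁻¹ * s) sgs
    simp only [inv_inv] at e
    rw [← e]; group
  -- the root families
  obtain ⟨R, hR⟩ : ∃ R : Fin 3 → Fin 3 → F → G, ∀ i j a, R i j a = root B u g t s i j a :=
    ⟨_, fun _ _ _ => rfl⟩
  have R01 : ∀ a, R 0 1 a = x a := fun a => by simp [hR, root, hxx]
  have R10 : ∀ a, R 1 0 a = y a := fun a => by simp [hR, root, hxx, htx]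
  have R12 : ∀ a, R 1 2 a = s * x a * s⁻¹ := fun a => by simp [hR, root, hxx]
  have R21 : ∀ a, R 2 1 a = s * y a * s⁻¹ := fun a => by simp [hR, root, hxx, htx]
  have R20 : ∀ a, R 2 0 a = s * s * x (-a) * (s * s)⁻¹ := fun a => by simp [hR, root, hxx]
  have R02 : ∀ a, R 0 2 a = s * s * y (-a) * (s * s)⁻¹ := fun a => by simp [hR, root, hxx, htx]
  have Radd : ∀ i j, i ≠ j → ∀ a b, R i j (a + b) = R i j a * R i j b := by
    intro i j hij a b
    fin_cases i <;> fin_cases j <;> simp only [Fin.zero_eta, Fin.mk_one, Fin.reduceFinMk] at hij ⊢ <;>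
      first | exact absurd rfl hij | skip
    all_goals simp only [R01, R02, R10, R12, R20, R21, neg_add, hxadd, hyadd]
    all_goals group
  -- torus action on the roots needed
  have gR02 : ∀ c, g * R 0 2 c * g⁻¹ = R 0 2 ((z : F) ^ 2 * c) := fun c => by
    have e := hinvconj (inv_ne_zero (pow_ne_zero 2 hzne)) hhy (-c)
    simp only [inv_inv, mul_neg] at e
    rw [R02, R02, ← e, hs2]
    calc g * (s⁻¹ * y (-c) * s⁻¹⁻¹) * g⁻¹ = s⁻¹ * ((s * g * s⁻¹) * y (-c) * (s * g * s⁻¹)⁻¹) * s := by group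
      _ = _ := by simp only [sgs, inv_inv]
  have g'R02 : ∀ c, g' * R 0 2 c * g'⁻¹ = R 0 2 ((z : F) * c) := fun c => by
    have e := hinvconj (inv_ne_zero hzne) hgy (-c)
    simp only [inv_inv, mul_neg] at e
    rw [R02, R02, ← e, hs2]
    calc g' * (s⁻¹ * y (-c) * s⁻¹⁻¹) * g'⁻¹ = s⁻¹ * ((s * g' * s⁻¹) * y (-c) * (s * g' * s⁻¹)⁻¹) * s := by group
      _ = _ := by simp only [sg's, inv_inv]
  have gR21 : ∀ c, g * R 2 1 c * g⁻¹ = R 2 1 ((z : F)⁻¹ * c) := fun c => by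
    have e := hinvconj hzne hg'y c
    rw [R21, R21, ← e]
    calc g * (s * y c * s⁻¹) * g⁻¹ = s * ((s⁻¹ * g * s) * y c * (s⁻¹ * g * s)⁻¹) * s⁻¹ := by group
      _ = _ := by rw [sgis]
  have hR21 : ∀ c, h * R 2 1 c * h⁻¹ = R 2 1 ((z : F) * c) := fun c => by
    have e := hinvconj (inv_ne_zero hzne) hgy c
    simp only [inv_inv] at e
    rw [R21, R21, ← e]
    calc h * (s * y c * s⁻¹) * h⁻¹ = s * ((s⁻¹ * h * s) * y c * (s⁻¹ * h * s)⁻¹) * s⁻¹ := by group
      _ = _ := by simp only [shis, inv_inv]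
  have g'R21 : ∀ c, g' * R 2 1 c * g'⁻¹ = R 2 1 (((z : F) ^ 2)⁻¹ * c) := fun c => by
    have e := hinvconj hzne hR21 ((z : F)⁻¹ * c)
    rw [← gR21, show (z : F)⁻¹ * ((z : F)⁻¹ * c) = ((z : F) ^ 2)⁻¹ * c by field_simp] at e
    rw [hgg', ← e]; group
  have hconjc : ∀ (τ P Q : G), Commute P Q → Commute (τ * P * τ⁻¹) (τ * Q * τ⁻¹) :=
    fun τ P Q hPQ => hPQ.map (MulAut.conj τ).toMonoidHom
  have hx1 : x 1 = u := by rw [← hxx, hone]
  have hzero : ∀ i j, i ≠ j → R i j 0 = 1 := fun i j hij => by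
    have e := Radd i j hij 0 0
    rwa [add_zero, left_eq_mul] at e
  have hcommS : ∀ {k l : Fin 3}, k ≠ l → ∀ (P : G) a b, Commute P (R k l a) → Commute P (R k l b) →
      Commute P (R k l (a + b)) := fun hkl P a b ha hb => by
    rw [Radd _ _ hkl]; exact ha.mul_right hb
  have hcover : ∀ (P : F → Prop), (∀ a, P a → P ((z : F) * a)) → P 0 → P 1 → ∀ a, P a := by
    intro P hP h0 h1 a
    by_cases ha : a = 0
    · rw [ha]; exact h0
    obtain ⟨k, hk⟩ := mem_powers_iff_mem_zpowers.2 (hz (Units.mk0 a ha))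
    rw [← show (z : F) ^ k = a by rw [← Units.val_pow_eq_pow_val]; exact congrArg Units.val hk]
    clear hk
    induction k with
    | zero => rw [pow_zero]; exact h1
    | succ k ih => rw [pow_succ']; exact hP _ ih
  have hinvol : d = 2 → p = 2 → ∀ P Q : G, P * P = 1 → Q * Q = 1 → ⁅P, Q⁆ * ⁅P, Q⁆ = 1 →
      Commute ⁅P, Q⁆ P ∧ Commute ⁅P, Q⁆ Q := by
    intro _ _ P Q hP hQ hZ
    have hPi : P⁻¹ = P := inv_eq_of_mul_eq_one_right hP
    have hQi : Q⁻¹ = Q := inv_eq_of_mul_eq_one_right hQ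
    have hZi : (P * Q * P * Q)⁻¹ = P * Q * P * Q := by
      refine inv_eq_of_mul_eq_one_right ?_
      rw [commutatorElement_def, hPi, hQi] at hZ
      exact hZ
    simp only [commutatorElement_def, hPi, hQi, Commute, SemiconjBy]
    constructor
    · nth_rw 1 [← hZi]
      simp only [_root_.mul_inv_rev, hPi, hQi, mul_assoc, hP, mul_one]
      rw [← mul_assoc P P, hP, one_mul]
    · nth_rw 2 [← hZi]
      simp only [_root_.mul_inv_rev, hPi, hQi, mul_assoc, hQ, mul_one]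
      rw [← mul_assoc Q Q, hQ, one_mul]
  have hdbl : d = 2 → p = 2 → ∀ i j, i ≠ j → ∀ c, R i j c * R i j c = 1 := by
    intro _ hp i j hij c
    subst hp
    rw [← Radd i j hij, CharTwo.add_self_eq_zero, hzero i j hij]
  have hbrkZ : d = 2 → p = 2 →
      Commute (x ((z : F) ^ 2)) (R 0 2 1) ∧ Commute (x ((z : F) ^ 2)) (R 2 1 ((z : F) ^ 2)) := by
    intro h2 hp
    have e := hinvol h2 hp _ _ (hdbl h2 hp 0 2 (by decide) 1) (hdbl h2 hp 2 1 (by decide) ((z : F) ^ 2))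
      (by rw [hR, hR, H.brk, hxx, ← R01]; exact hdbl h2 hp 0 1 (by decide) _)
    rwa [show ⁅R 0 2 1, R 2 1 ((z : F) ^ 2)⁆ = x ((z : F) ^ 2) by rw [hR, hR, H.brk, hxx]] at e
  have hq4 : d = 2 → p = 2 → ∀ (S : Set F), (0 : F) ∈ S → (∀ a b, a ∈ S → b ∈ S → a + b ∈ S) →
      (1 : F) ∈ S → (z : F) ^ 2 ∈ S → ∀ c, c ∈ S := by
    intro h2 hp S h0 hadd hS1 hS2 c
    have hB0 : ∀ i : Fin d, B i ∈ S := fun i => by
      rw [hB]
      obtain hi | hi : (i : ℕ) = 0 ∨ (i : ℕ) = 1 := by have := i.2; omega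
      · rw [hi, pow_zero]; exact hS1
      · rw [hi, pow_one]; exact hS2
    rw [← B.sum_repr c]
    refine Finset.sum_induction _ (· ∈ S) hadd h0 fun i _ => ?_
    rw [← ZMod.natCast_zmod_val (B.repr c i), Nat.cast_smul_eq_nsmul]
    induction (B.repr c i).val with
    | zero => rw [zero_smul]; exact h0
    | succ k ih => rw [add_smul, one_smul]; exact hadd _ _ ih (hB0 i)
  have hrow : ∀ a b, Commute (x a) (R 0 2 b) := by
    have hg : ∀ a b, Commute (x a) (R 0 2 b) → Commute (x ((z : F) * a)) (R 0 2 ((z : F) ^ 2 * b)) :=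
      fun a b hab => by rw [← hgx, ← gR02]; exact hconjc g _ _ hab
    have h3 : ∀ a b, Commute (x a) (R 0 2 b) → Commute (x a) (R 0 2 ((z : F) ^ 3 * b)) := fun a b hab => by
      have e := hconjc g' _ _ (hg a b hab)
      rw [hg'x, g'R02, inv_mul_cancel_left₀ hzne, ← mul_assoc, ← pow_succ'] at e
      exact e
    have h11 : Commute (x 1) (R 0 2 1) := by rw [hx1, hR]; exact H.row
    refine hcover (fun a => ∀ b, Commute (x a) (R 0 2 b)) (fun a ha b => ?_) (fun b => ?_) ?_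
    · have e := hg a (((z : F) ^ 2)⁻¹ * b) (ha _)
      rwa [mul_inv_cancel_left₀ (pow_ne_zero 2 hzne)] at e
    · rw [show x 0 = 1 by rw [← R01, hzero 0 1 (by decide)]]; exact Commute.one_left _
    by_cases h4 : d = 2 ∧ p = 2
    · have hall : ∀ a, Commute (x a) (R 0 2 1) := fun a =>
        hq4 h4.1 h4.2 {a | Commute (x a) (R 0 2 1)}
          (by show Commute _ _; rw [show x 0 = 1 by rw [← R01, hzero 0 1 (by decide)]]; exact Commute.one_left _)
          (fun a b ha hb => by show Commute _ _; rw [hxadd]; exact ha.mul_left hb) h11 (hbrkZ h4.1 h4.2).1 a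
      intro b
      refine hq4 h4.1 h4.2 {b | Commute (x 1) (R 0 2 b)} (by show Commute _ _; rw [hzero 0 2 (by decide)]; exact Commute.one_right _)
        (fun a b => hcommS (by decide) _ a b) h11 ?_ b
      have e := hg ((z : F)⁻¹) 1 (hall _)
      rw [mul_inv_cancel₀ hzne, mul_one] at e
      exact e
    · exact eq_univ_of_cube hz hd3 h4 (S := {b | Commute (x 1) (R 0 2 b)})
        (by show Commute _ _; rw [hzero 0 2 (by decide)]; exact Commute.one_right _)
        (fun a b => hcommS (by decide) _ a b) (fun b hb => h3 1 b hb) h11 one_ne_zero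
  have hcol : ∀ a b, Commute (x a) (R 2 1 b) := by
    have hg : ∀ a b, Commute (x a) (R 2 1 b) → Commute (x ((z : F) * a)) (R 2 1 ((z : F)⁻¹ * b)) :=
      fun a b hab => by rw [← hgx, ← gR21]; exact hconjc g _ _ hab
    have h3 : ∀ a b, Commute (x a) (R 2 1 b) → Commute (x a) (R 2 1 (((z : F) ^ 3)⁻¹ * b)) := fun a b hab => by
      have e := hconjc g' _ _ (hg a b hab)
      rw [hg'x, g'R21, inv_mul_cancel_left₀ hzne, ← mul_assoc, ← mul_inv, ← pow_succ] at e
      exact e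
    have h1e : Commute (x 1) (R 2 1 ((z : F) ^ 2)) := by rw [hx1, hR]; exact H.col
    refine hcover (fun a => ∀ b, Commute (x a) (R 2 1 b)) (fun a ha b => ?_) (fun b => ?_) ?_
    · have e := hg a ((z : F) * b) (ha _)
      rwa [inv_mul_cancel_left₀ hzne] at e
    · rw [show x 0 = 1 by rw [← R01, hzero 0 1 (by decide)]]; exact Commute.one_left _
    by_cases h4 : d = 2 ∧ p = 2
    · have hall : ∀ a, Commute (x a) (R 2 1 ((z : F) ^ 2)) := fun a =>
        hq4 h4.1 h4.2 {a | Commute (x a) (R 2 1 ((z : F) ^ 2))}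
          (by show Commute _ _; rw [show x 0 = 1 by rw [← R01, hzero 0 1 (by decide)]]; exact Commute.one_left _)
          (fun a b ha hb => by show Commute _ _; rw [hxadd]; exact ha.mul_left hb) h1e (hbrkZ h4.1 h4.2).2 a
      have hz1 : ∀ k, Commute (x 1) (R 2 1 (((z : F) ^ k)⁻¹ * (z : F) ^ 2)) := by
        intro k
        have hgen : ∀ a, Commute (x a) (R 2 1 (((z : F) ^ k)⁻¹ * (z : F) ^ 2)) := by
          induction k with
          | zero => intro a; simpa using hall a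
          | succ k ih =>
            intro a
            have e := hg ((z : F)⁻¹ * a) _ (ih _)
            rwa [mul_inv_cancel_left₀ hzne, ← mul_assoc, ← mul_inv, ← pow_succ'] at e
        exact hgen 1
      intro b
      refine hq4 h4.1 h4.2 {b | Commute (x 1) (R 2 1 b)} (by show Commute _ _; rw [hzero 2 1 (by decide)]; exact Commute.one_right _)
        (fun a b => hcommS (by decide) _ a b) ?_ h1e b
      have e := hz1 2
      rwa [inv_mul_cancel₀ (pow_ne_zero 2 hzne)] at e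
    · refine eq_univ_of_cube hz hd3 h4 (S := {b | Commute (x 1) (R 2 1 b)})
        (by show Commute _ _; rw [hzero 2 1 (by decide)]; exact Commute.one_right _)
        (fun a b => hcommS (by decide) _ a b) (fun b hb => ?_) h1e (pow_ne_zero 2 hzne)
      have e := hconjc g'⁻¹ _ _ (hconjc g⁻¹ _ _ hb)
      rw [hinvconj hzne hgx, hinvconj (inv_ne_zero hzne) hg'x, hinvconj (inv_ne_zero hzne) gR21,
        hinvconj (inv_ne_zero (pow_ne_zero 2 hzne)) g'R21] at e
      simp only [inv_inv] at e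
      rw [mul_inv_cancel_left₀ hzne, ← mul_assoc, ← pow_succ] at e
      exact e
  have hbrk : ∀ a b, ⁅R 0 2 a, R 2 1 b⁆ = x (a * b) := by
    have haddr : ∀ a b b', ⁅R 0 2 a, R 2 1 b⁆ = x (a * b) → ⁅R 0 2 a, R 2 1 b'⁆ = x (a * b') →
        ⁅R 0 2 a, R 2 1 (b + b')⁆ = x (a * (b + b')) := fun a b b' e e' => by
      rw [Radd 2 1 (by decide), show ⁅R 0 2 a, R 2 1 b * R 2 1 b'⁆ =
        ⁅R 0 2 a, R 2 1 b⁆ * (R 2 1 b * ⁅R 0 2 a, R 2 1 b'⁆ * (R 2 1 b)⁻¹) by
          simp only [commutatorElement_def]; group, e, e', ← (hcol _ b).eq, mul_inv_cancel_right, ← hxadd, mul_add]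
    have haddl : ∀ a a' b, ⁅R 0 2 a, R 2 1 b⁆ = x (a * b) → ⁅R 0 2 a', R 2 1 b⁆ = x (a' * b) →
        ⁅R 0 2 (a + a'), R 2 1 b⁆ = x ((a + a') * b) := fun a a' b e e' => by
      rw [Radd 0 2 (by decide), show ⁅R 0 2 a * R 0 2 a', R 2 1 b⁆ =
        (R 0 2 a * ⁅R 0 2 a', R 2 1 b⁆ * (R 0 2 a)⁻¹) * ⁅R 0 2 a, R 2 1 b⁆ by
          simp only [commutatorElement_def]; group, e, e', ← (hrow _ a).eq, mul_inv_cancel_right, ← hxadd, add_mul,
        add_comm]
    have hg : ∀ a b, ⁅R 0 2 a, R 2 1 b⁆ = x (a * b) →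
        ⁅R 0 2 ((z : F) ^ 2 * a), R 2 1 ((z : F)⁻¹ * b)⁆ = x ((z : F) ^ 2 * a * ((z : F)⁻¹ * b)) := fun a b e => by
      rw [← gR02, ← gR21, show ⁅g * R 0 2 a * g⁻¹, g * R 2 1 b * g⁻¹⁆ = g * ⁅R 0 2 a, R 2 1 b⁆ * g⁻¹ by
        simp only [commutatorElement_def]; group, e, hgx]
      congr 1
      field_simp
    have hg' : ∀ a b, ⁅R 0 2 a, R 2 1 b⁆ = x (a * b) →
        ⁅R 0 2 ((z : F) * a), R 2 1 (((z : F) ^ 2)⁻¹ * b)⁆ = x ((z : F) * a * (((z : F) ^ 2)⁻¹ * b)) := fun a b e => by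
      rw [← g'R02, ← g'R21, show ⁅g' * R 0 2 a * g'⁻¹, g' * R 2 1 b * g'⁻¹⁆ = g' * ⁅R 0 2 a, R 2 1 b⁆ * g'⁻¹ by
        simp only [commutatorElement_def]; group, e, hg'x]
      congr 1
      field_simp
    have hz2 : ∀ a b, ⁅R 0 2 a, R 2 1 b⁆ = x (a * b) →
        ⁅R 0 2 ((z : F) ^ 3 * a), R 2 1 b⁆ = x ((z : F) ^ 3 * a * b) := by
      intro a b e
      have e1 := hg _ _ (hg _ _ e)
      have h1 : ∀ (σ P Q : G), σ * ⁅P, Q⁆ * σ⁻¹ = ⁅σ * P * σ⁻¹, σ * Q * σ⁻¹⁆ := fun σ P Q => by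
        simp only [commutatorElement_def]; group
      have e2 := congrArg (fun P => g'⁻¹ * P * g'⁻¹⁻¹) e1
      simp only [h1] at e2
      rw [hinvconj hzne g'R02, hinvconj (inv_ne_zero (pow_ne_zero 2 hzne)) g'R21,
        hinvconj (inv_ne_zero hzne) hg'x] at e2
      simp only [inv_inv] at e2
      rw [show (z : F)⁻¹ * ((z : F) ^ 2 * ((z : F) ^ 2 * a)) = (z : F) ^ 3 * a by field_simp,
        show (z : F) ^ 2 * ((z : F)⁻¹ * ((z : F)⁻¹ * b)) = b by field_simp] at e2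
      rw [e2]
      congr 1
      field_simp
    have h1e : ⁅R 0 2 1, R 2 1 ((z : F) ^ 2)⁆ = x (1 * (z : F) ^ 2) := by
      rw [hR, hR, H.brk, hxx, one_mul]
    have h0r : ∀ a, ⁅R 0 2 a, R 2 1 0⁆ = x (a * 0) := fun a => by
      rw [hzero 2 1 (by decide), mul_zero, ← R01, hzero 0 1 (by decide), commutatorElement_def]; group
    have h0l : ∀ b, ⁅R 0 2 0, R 2 1 b⁆ = x (0 * b) := fun b => by
      rw [hzero 0 2 (by decide), zero_mul, ← R01, hzero 0 1 (by decide), commutatorElement_def]; group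
    have hall : ∀ a, ⁅R 0 2 a, R 2 1 ((z : F) ^ 2)⁆ = x (a * (z : F) ^ 2) := by
      by_cases h4 : d = 2 ∧ p = 2
      · intro a
        refine hq4 h4.1 h4.2 {a | ⁅R 0 2 a, R 2 1 ((z : F) ^ 2)⁆ = x (a * (z : F) ^ 2)} (h0l _)
          (fun a a' => haddl a a' _) h1e ?_ a
        show ⁅_, _⁆ = _
        rw [hR, hR, H.brk' h4.1 h4.2, hxx]
      · exact eq_univ_of_cube hz hd3 h4 (S := {a | ⁅R 0 2 a, R 2 1 ((z : F) ^ 2)⁆ = x (a * (z : F) ^ 2)}) (h0l _)
          (fun a a' => haddl a a' _) (fun a ha => hz2 a _ ha) h1e one_ne_zero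
    intro a b
    by_cases hb : b = 0
    · rw [hb]; exact h0r a
    obtain ⟨k, hk⟩ := mem_powers_iff_mem_zpowers.2 (hz (Units.mk0 b hb)⁻¹)
    have hk' : ((z : F) ^ k) = b⁻¹ := by
      rw [← Units.val_pow_eq_pow_val, show z ^ k = (Units.mk0 b hb)⁻¹ from hk, Units.val_inv_eq_inv_val, Units.val_mk0]
    have hkk : ∀ k a, ⁅R 0 2 a, R 2 1 (((z : F) ^ k)⁻¹ * (z : F) ^ 2)⁆ = x (a * (((z : F) ^ k)⁻¹ * (z : F) ^ 2)) := by
      intro k
      induction k with
      | zero => intro a; simpa using hall a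
      | succ k ih =>
        intro a
        have e := hg (((z : F) ^ 2)⁻¹ * a) _ (ih _)
        rw [mul_inv_cancel_left₀ (pow_ne_zero 2 hzne), ← mul_assoc ((z : F)⁻¹), ← mul_inv, ← pow_succ'] at e
        exact e
    have e := hkk (k + 2) a
    rwa [show ((z : F) ^ (k + 2))⁻¹ * (z : F) ^ 2 = b by rw [pow_add, hk']; field_simp] at e
  -- the symmetries
  obtain ⟨ds, hds⟩ : ∃ ds : Fin 3 → F, ds = ![-1, -1, 1] := ⟨_, rfl⟩
  obtain ⟨dt, hdt⟩ : ∃ dt : Fin 3 → F, dt = ![-1, 1, 1] := ⟨_, rfl⟩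
  have hsconj : ∀ i j, i ≠ j → ∀ a, s * R i j a * s⁻¹ =
      R (Equiv.addRight (1 : Fin 3) i) (Equiv.addRight (1 : Fin 3) j) (ds i / ds j * a) := by
    intro i j hij a
    fin_cases i <;> fin_cases j <;> simp only [Fin.zero_eta, Fin.mk_one, Fin.reduceFinMk] at hij ⊢ <;>
      first | exact absurd rfl hij | skip
    all_goals simp [hds, R01, R02, R10, R12, R20, R21, Equiv.coe_addRight]
    all_goals
      have hs3' : ∀ P, s * (s * (s * P)) = P := fun P => by rw [← mul_assoc, ← mul_assoc, H.s3, one_mul]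
      have hs3 : s * (s * s) = 1 := by rw [← mul_assoc, H.s3]
      simp only [← hs2, _root_.mul_inv_rev, mul_assoc, hs3', hs3, mul_one]
  have hpowneg : ∀ {a : G} {P : F → G} {c₀ : F}, (∀ c, a * P c * a⁻¹ = P (c₀ * c)) →
      ∀ (k : ℕ) c, a ^ k * P c * (a ^ k)⁻¹ = P (c₀ ^ k * c) := by
    intro a P c₀ hP k
    induction k with
    | zero => intro c; simp
    | succ k ih =>
      intro c
      rw [pow_succ' a, show a * a ^ k * P c * (a * a ^ k)⁻¹ = a * (a ^ k * P c * (a ^ k)⁻¹) * a⁻¹ by group, ih, hP,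
        pow_succ' c₀, mul_assoc]
  have hninv : ((z : F)⁻¹) ^ n = -1 := by rw [inv_pow, hn]; norm_num
  have t12 : ∀ a, t * R 1 2 a * t⁻¹ = R 0 2 a := fun a => by
    rw [R12, R02, show t * (s * x a * s⁻¹) * t⁻¹ = (t * s) * x a * (t * s)⁻¹ by group, hts,
      show s⁻¹ * t⁻¹ * x a * (s⁻¹ * t⁻¹)⁻¹ = s⁻¹ * (t⁻¹ * x a * t) * s by group, htinv, hs2, inv_inv]
  have t02 : ∀ a, t * R 0 2 a * t⁻¹ = R 1 2 (-a) := fun a => by
    have e : Commute (t * t) (1 : G) := Commute.one_right _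
    rw [← t12, show t * (t * R 1 2 a * t⁻¹) * t⁻¹ = (t * t) * R 1 2 a * (t * t)⁻¹ by group, H.tt, R12, R12]
    have e1 := hpowneg (hinvconj hzne hgx) n a
    rw [hninv, neg_one_mul] at e1
    rw [← e1, show s * (g⁻¹ ^ n * x a * (g⁻¹ ^ n)⁻¹) * s⁻¹ =
      (s * g⁻¹ ^ n * s⁻¹) * (s * x a * s⁻¹) * (s * g⁻¹ ^ n * s⁻¹)⁻¹ by group, ← conj_pow,
      show s * g⁻¹ * s⁻¹ = (s * g * s⁻¹)⁻¹ by group, sgs, inv_inv]
  have t20 : ∀ a, t * R 2 0 a * t⁻¹ = R 2 1 (-a) := fun a => by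
    rw [R20, hs2, inv_inv, show t * (s⁻¹ * x (-a) * s) * t⁻¹ = (t * s⁻¹) * x (-a) * (t * s⁻¹)⁻¹ by group, hts',
      show t * t * s * t * x (-a) * (t * t * s * t)⁻¹ = (t * t) * (s * (t * x (-a) * t⁻¹) * s⁻¹) * (t * t)⁻¹ by group,
      htx, neg_neg, H.tt, R21]
    have e1 := hpowneg (hinvconj (inv_ne_zero hzne) hgy) n a
    rw [inv_inv, hn, neg_one_mul] at e1
    rw [← e1, show s * (g⁻¹ ^ n * y a * (g⁻¹ ^ n)⁻¹) * s⁻¹ =
      (s * g⁻¹ ^ n * s⁻¹) * (s * y a * s⁻¹) * (s * g⁻¹ ^ n * s⁻¹)⁻¹ by group, ← conj_pow,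
      show s * g⁻¹ * s⁻¹ = (s * g * s⁻¹)⁻¹ by group, sgs, inv_inv]
  have t21 : ∀ a, t * R 2 1 a * t⁻¹ = R 2 0 a := fun a => by
    rw [← neg_neg a, ← t20 (-a), neg_neg,
      show t * (t * R 2 0 (-a) * t⁻¹) * t⁻¹ = (t * t) * R 2 0 (-a) * (t * t)⁻¹ by group, H.tt, R20, R20, neg_neg,
      hs2, inv_inv]
    have e1 := hpowneg hg'x n a
    rw [hninv, neg_one_mul] at e1
    rw [← e1, show s⁻¹ * (g' ^ n * x a * (g' ^ n)⁻¹) * s =
      (s⁻¹ * g' ^ n * s) * (s⁻¹ * x a * s) * (s⁻¹ * g' ^ n * s)⁻¹ by group]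
    have e2 : s⁻¹ * g' ^ n * s = h ^ n := by rw [← shs, conj_pow]; group
    rw [e2]
  have htconj : ∀ i j, i ≠ j → ∀ a, t * R i j a * t⁻¹ =
      R (Equiv.swap (0 : Fin 3) 1 i) (Equiv.swap (0 : Fin 3) 1 j) (dt i / dt j * a) := by
    intro i j hij a
    fin_cases i <;> fin_cases j <;> simp only [Fin.zero_eta, Fin.mk_one, Fin.reduceFinMk] at hij ⊢ <;>
      first | exact absurd rfl hij | skip
    all_goals simp [hdt, R01, R10, t12, t02, t20, t21, htx, hty, Equiv.swap_apply_def]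
  have dsne : ∀ i, ds i ≠ 0 := fun i => by fin_cases i <;> simp [hds]
  have dtne : ∀ i, dt i ≠ 0 := fun i => by fin_cases i <;> simp [hdt]
  have moveB : ∀ {τ : G} {π : Equiv.Perm (Fin 3)} {e : Fin 3 → F}, (∀ i, e i ≠ 0) →
      (∀ i j, i ≠ j → ∀ a, τ * R i j a * τ⁻¹ = R (π i) (π j) (e i / e j * a)) →
      ∀ {i j k : Fin 3}, i ≠ j → j ≠ k → i ≠ k → (∀ a b, ⁅R i j a, R j k b⁆ = R i k (a * b)) →
      ∀ a b, ⁅R (π i) (π j) a, R (π j) (π k) b⁆ = R (π i) (π k) (a * b) := by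
    intro τ π e he hτ i j k hij hjk hik hP a b
    have h1 := hτ i j hij (e j / e i * a)
    have h2 := hτ j k hjk (e k / e j * b)
    have h3 := hτ i k hik (e j / e i * a * (e k / e j * b))
    have := he i; have := he j; have := he k
    rw [show e i / e j * (e j / e i * a) = a by field_simp] at h1
    rw [show e j / e k * (e k / e j * b) = b by field_simp] at h2
    rw [show e i / e k * (e j / e i * a * (e k / e j * b)) = a * b by field_simp, ← hP] at h3
    rw [← h1, ← h2, ← h3]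
    simp only [commutatorElement_def]; group
  have moveC : ∀ {τ : G} {π : Equiv.Perm (Fin 3)} {e : Fin 3 → F}, (∀ i, e i ≠ 0) →
      (∀ i j, i ≠ j → ∀ a, τ * R i j a * τ⁻¹ = R (π i) (π j) (e i / e j * a)) →
      ∀ {i j k l : Fin 3}, i ≠ j → k ≠ l → (∀ a b, Commute (R i j a) (R k l b)) →
      ∀ a b, Commute (R (π i) (π j) a) (R (π k) (π l) b) := by
    intro τ π e he hτ i j k l hij hkl hP a b
    have h1 := hτ i j hij (e j / e i * a)
    have h2 := hτ k l hkl (e l / e k * b)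
    have := he i; have := he j; have := he k; have := he l
    rw [show e i / e j * (e j / e i * a) = a by field_simp] at h1
    rw [show e k / e l * (e l / e k * b) = b by field_simp] at h2
    rw [← h1, ← h2]
    exact hconjc τ _ _ (hP _ _)
  have b021 : ∀ a b, ⁅R 0 2 a, R 2 1 b⁆ = R 0 1 (a * b) := fun a b => by rw [R01]; exact hbrk a b
  have b102 : ∀ a b, ⁅R 1 0 a, R 0 2 b⁆ = R 1 2 (a * b) := moveB dsne hsconj (by decide) (by decide) (by decide) b021
  have b210 : ∀ a b, ⁅R 2 1 a, R 1 0 b⁆ = R 2 0 (a * b) := moveB dsne hsconj (by decide) (by decide) (by decide) b102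
  have b120 : ∀ a b, ⁅R 1 2 a, R 2 0 b⁆ = R 1 0 (a * b) := moveB dtne htconj (by decide) (by decide) (by decide) b021
  have b201 : ∀ a b, ⁅R 2 0 a, R 0 1 b⁆ = R 2 1 (a * b) := moveB dsne hsconj (by decide) (by decide) (by decide) b120
  have b012 : ∀ a b, ⁅R 0 1 a, R 1 2 b⁆ = R 0 2 (a * b) := moveB dsne hsconj (by decide) (by decide) (by decide) b201
  have r0 : ∀ a b, Commute (R 0 1 a) (R 0 2 b) := fun a b => by rw [R01]; exact hrow a b
  have r1 : ∀ a b, Commute (R 1 2 a) (R 1 0 b) := moveC dsne hsconj (by decide) (by decide) r0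
  have r2 : ∀ a b, Commute (R 2 0 a) (R 2 1 b) := moveC dsne hsconj (by decide) (by decide) r1
  have c0 : ∀ a b, Commute (R 0 1 a) (R 2 1 b) := fun a b => by rw [R01]; exact hcol a b
  have c1 : ∀ a b, Commute (R 1 2 a) (R 0 2 b) := moveC dsne hsconj (by decide) (by decide) c0
  have c2 : ∀ a b, Commute (R 2 0 a) (R 1 0 b) := moveC dsne hsconj (by decide) (by decide) c1
  have hrels : SteinbergSL.Outer.Rels R fun i j => i ≠ j := by
    refine ⟨Radd, ?_, ?_⟩
    · intro i j k l hij hkl hil hjk a b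
      fin_cases i <;> fin_cases j <;> fin_cases k <;> fin_cases l <;>
        simp only [Fin.zero_eta, Fin.mk_one, Fin.reduceFinMk] at hij hkl hil hjk ⊢ <;>
        first
          | exact absurd rfl hij | exact absurd rfl hkl | exact absurd rfl hil | exact absurd rfl hjk
          | exact r0 a b | exact (r0 b a).symm | exact r1 a b | exact (r1 b a).symm
          | exact r2 a b | exact (r2 b a).symm | exact c0 a b | exact (c0 b a).symm
          | exact c1 a b | exact (c1 b a).symm | exact c2 a b | exact (c2 b a).symm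
          | (rw [Commute, SemiconjBy, ← Radd _ _ (by decide), ← Radd _ _ (by decide), add_comm a b])
    · intro i j k hij hjk hik a b
      fin_cases i <;> fin_cases j <;> fin_cases k <;>
        simp only [Fin.zero_eta, Fin.mk_one, Fin.reduceFinMk] at hij hjk hik ⊢ <;>
        first
          | exact absurd rfl hij | exact absurd rfl hjk | exact absurd rfl hik
          | exact b021 a b | exact b102 a b | exact b210 a b | exact b120 a b | exact b201 a b | exact b012 a b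
  obtain ⟨Φ, hΦ⟩ := SteinbergSL.Outer.exists_hom (by simp) hrels
  exact ⟨Φ, fun i j hij a => by rw [hΦ i j hij a, hR]⟩

end Cfsg.Agent.ShortPres.Three
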