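import Cfsg.Agent.Lib.ShortPres.SympBasics
import Mathlib

/-!
The symplectic groups as amalgams: homomorphisms on the groups of one and two pairs together with one on
the Levi factor extend, provided disjoint supports commute.
-/

set_option autoImplicit false
set_option linter.unusedSectionVars false

namespace Cfsg.Agent.ShortPres.Symp

open Matrix Cfsg.Agent.Forms.SympStd Cfsg.Agent.Classical.Symplectic Cfsg.Agent.SimpleFacts.SpMult.Levels
  Cfsg.Agent.SimpleFacts.SLnRootLifts Cfsg.Agent.SimpleFacts.SLnCosets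
open scoped commutatorElement

universe u w

variable {F : Type u} [Field F] {m : ℕ} {H : Type w} [Group H]

local notation "Vec" => (Fin m ⊕ Fin m → F)
local notation "Mat" => Matrix (Fin m ⊕ Fin m) (Fin m ⊕ Fin m) F
local notation "Sp" => symplecticGroup (Fin m) F
local notation "f" => Cfsg.sympForm m F

/-- Compatible homomorphisms on the small groups. -/
structure Data (F : Type u) [Field F] (m : ℕ) (H : Type w) [Group H] where
  /-- On the Levi factor. -/
  lam : SpecialLinearGroup (Fin m) F →* H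
  /-- On the groups of one or two pairs. -/
  small : ∀ s : Finset (Fin m), s.card ≤ 2 → (↥(fx (F := F) s) →* H)
  mono : ∀ (s t : Finset (Fin m)) (hs : s.card ≤ 2) (ht : t.card ≤ 2) (h : s ⊆ t)
    (g : symplecticGroup (Fin m) F) (hg : g ∈ fx s), small s hs ⟨g, hg⟩ = small t ht ⟨g, fx_mono h hg⟩
  comm : ∀ (s t : Finset (Fin m)) (hs : s.card ≤ 2) (ht : t.card ≤ 2), Disjoint s t → ∀ x y,
    Commute (small s hs x) (small t ht y)
  lam_T : ∀ (s : Finset (Fin m)) (hs : s.card ≤ 2) (i j : Fin m) (hij : i ≠ j) (hi : i ∈ s) (hj : j ∈ s) (c : F),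
    small s hs ⟨gl (T i j c), gl_T_mem hij c hi hj⟩ = lam (T i j c)

namespace Data

variable (D : Data F m H)

/-- The graph on a small group. -/
def iota (s : Finset (Fin m)) (hs : s.card ≤ 2) : ↥(fx (F := F) s) →* Sp × H :=
  (fx s).subtype.prod (D.small s hs)

/-- The graph on the Levi factor. -/
def lh : SpecialLinearGroup (Fin m) F →* Sp × H := gl.prod D.lam

theorem c1 (k : Fin m) : ({k} : Finset (Fin m)).card ≤ 2 := by simp

theorem c2 (a b : Fin m) : ({a, b} : Finset (Fin m)).card ≤ 2 := Finset.card_le_two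

/-- An element of one pair. -/
def sg (k : Fin m) : ↥(fx (F := F) {k}) →* Sp × H := D.iota {k} (c1 k)

/-- An element of two pairs. -/
def dg (a b : Fin m) : ↥(fx (F := F) {a, b}) →* Sp × H := D.iota {a, b} (c2 a b)

theorem iota_eq {s t : Finset (Fin m)} (hs : s.card ≤ 2) (ht : t.card ≤ 2) (h : s ⊆ t) (g : Sp) (hg : g ∈ fx s) :
    D.iota s hs ⟨g, hg⟩ = D.iota t ht ⟨g, fx_mono h hg⟩ :=
  Prod.ext rfl (D.mono s t hs ht h g hg)

theorem iota_comm {s t : Finset (Fin m)} (hs : s.card ≤ 2) (ht : t.card ≤ 2) (h : Disjoint s t)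
    (x : ↥(fx (F := F) s)) (y : ↥(fx (F := F) t)) : Commute (D.iota s hs x) (D.iota t ht y) :=
  Prod.ext (fx_commute h x.2 y.2).eq (D.comm s t hs ht h x y).eq

theorem lh_T {s : Finset (Fin m)} (hs : s.card ≤ 2) {i j : Fin m} (hij : i ≠ j) (hi : i ∈ s) (hj : j ∈ s) (c : F) :
    D.iota s hs ⟨gl (T i j c), gl_T_mem hij c hi hj⟩ = D.lh (T i j c) :=
  Prod.ext rfl (D.lam_T s hs i j hij hi hj c)

theorem dg_T {i j : Fin m} (hij : i ≠ j) {a b : Fin m} (hi : i ∈ ({a, b} : Finset (Fin m)))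
    (hj : j ∈ ({a, b} : Finset (Fin m))) (c : F) : D.lh (T i j c) ∈ (D.dg a b).range :=
  ⟨_, D.lh_T (c2 a b) hij hi hj c⟩

theorem dg_wel {i j : Fin m} (hij : i ≠ j) {a b : Fin m} (hi : i ∈ ({a, b} : Finset (Fin m)))
    (hj : j ∈ ({a, b} : Finset (Fin m))) : D.lh (wel i j) ∈ (D.dg a b).range := by
  simp only [wel, wWord, map_mul]
  exact mul_mem (mul_mem (D.dg_T hij.symm hj hi _) (D.dg_T hij hi hj _)) (D.dg_T hij.symm hj hi _)

theorem sg_dg {k a b : Fin m} (hk : k ∈ ({a, b} : Finset (Fin m))) (x : ↥(fx (F := F) {k})) :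
    D.sg k x ∈ (D.dg a b).range :=
  ⟨_, (D.iota_eq (c1 k) (c2 a b) (Finset.singleton_subset_iff.2 hk) x.1 x.2).symm⟩

theorem dg_ext {a b : Fin m} {x y : Sp × H} (hx : x ∈ (D.dg a b).range) (hy : y ∈ (D.dg a b).range)
    (h : x.1 = y.1) : x = y := by
  obtain ⟨g, rfl⟩ := hx
  obtain ⟨g', rfl⟩ := hy
  rw [show g = g' from Subtype.ext h]

theorem sg_comm_T {k i j : Fin m} (hij : i ≠ j) (hi : i ≠ k) (hj : j ≠ k) (x : ↥(fx (F := F) {k})) (c : F) :
    Commute (D.sg k x) (D.lh (T i j c)) := by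
  rw [← D.lh_T (c2 i j) hij (by simp) (by simp) c]
  exact D.iota_comm _ _ (by simp [hi.symm, hj.symm]) _ _

/-- Generators of the group over a set of pairs. -/
def gens (s : Finset (Fin m)) : Set (Sp × H) :=
  {x | (∃ k ∈ s, x ∈ (D.sg k).range) ∨ ∃ a ∈ s, ∃ b ∈ s, a ≠ b ∧ ∃ c, x = D.lh (T a b c)}

/-- The group over a set of pairs. -/
def K (s : Finset (Fin m)) : Subgroup (Sp × H) := Subgroup.closure (D.gens s)

theorem sg_mem {k : Fin m} {s : Finset (Fin m)} (hk : k ∈ s) (x : ↥(fx (F := F) {k})) : D.sg k x ∈ D.K s :=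
  Subgroup.subset_closure (Or.inl ⟨k, hk, x, rfl⟩)

theorem T_mem {a b : Fin m} {s : Finset (Fin m)} (ha : a ∈ s) (hb : b ∈ s) (hab : a ≠ b) (c : F) :
    D.lh (T a b c) ∈ D.K s :=
  Subgroup.subset_closure (Or.inr ⟨a, ha, b, hb, hab, c, rfl⟩)

theorem wel_mem' {a b : Fin m} {s : Finset (Fin m)} (ha : a ∈ s) (hb : b ∈ s) (hab : a ≠ b) :
    D.lh (wel a b) ∈ D.K s := by
  simp only [wel, wWord, map_mul]
  exact mul_mem (mul_mem (D.T_mem hb ha hab.symm _) (D.T_mem ha hb hab _)) (D.T_mem hb ha hab.symm _)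

theorem K_mono {s t : Finset (Fin m)} (h : s ⊆ t) : D.K s ≤ D.K t :=
  Subgroup.closure_mono fun _ hx => hx.elim (fun ⟨k, hk, e⟩ => Or.inl ⟨k, h hk, e⟩)
    fun ⟨a, ha, b, hb, r⟩ => Or.inr ⟨a, h ha, b, h hb, r⟩

theorem K_fst {s : Finset (Fin m)} {x : Sp × H} (hx : x ∈ D.K s) : x.1 ∈ fx s := by
  refine (Subgroup.closure_le (K := (fx s).comap (MonoidHom.fst Sp H))).2 ?_ hx
  rintro y (⟨k, hk, g, rfl⟩ | ⟨a, ha, b, hb, hab, c, rfl⟩)
  · exact fx_mono (Finset.singleton_subset_iff.2 hk) g.2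
  · exact gl_T_mem hab c ha hb

theorem K_le_iota {s : Finset (Fin m)} (hs : s.card ≤ 2) : D.K s ≤ (D.iota s hs).range := by
  rw [K, Subgroup.closure_le]
  rintro y (⟨k, hk, g, rfl⟩ | ⟨a, ha, b, hb, hab, c, rfl⟩)
  · exact ⟨_, (D.iota_eq (c1 k) hs (Finset.singleton_subset_iff.2 hk) g.1 g.2).symm⟩
  · exact ⟨_, D.lh_T hs hab ha hb c⟩

theorem K_comm {s : Finset (Fin m)} {y : Sp × H} (h : ∀ x ∈ D.gens s, Commute x y) {x : Sp × H} (hx : x ∈ D.K s) :
    Commute x y := by
  induction hx using Subgroup.closure_induction with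
  | mem a ha => exact h a ha
  | one => exact Commute.one_left _
  | mul a b _ _ ha hb => exact ha.mul_left hb
  | inv a _ ha => exact ha.inv_left

/-! ### The radical -/

/-- A central element of the radical. -/
def cen (i : Fin m) (a : F) : Sp × H :=
  D.sg i ⟨un (be i) 0 a, un_mem_fixer (be_mem (Finset.mem_singleton_self i)) (zero_mem _) a⟩

theorem un_mem_fx {i k : Fin m} {v : Vec} (hv : v ∈ perp (off ({k} : Finset (Fin m)))) (a : F) :
    un (be i) v a ∈ fx ({i, k} : Finset (Fin m)) :=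
  un_mem_fixer (be_mem (by simp)) (sp_mono (by simp) hv) a

/-- An element of the radical from one other pair. -/
def q (i k : Fin m) (v : Vec) (hv : v ∈ perp (off ({k} : Finset (Fin m)))) (a : F) : Sp × H :=
  D.dg i k ⟨un (be i) v a, un_mem_fx hv a⟩

/-- The generators of the radical over a set. -/
def qgens (i : Fin m) (s : Finset (Fin m)) : Set (Sp × H) :=
  {x | (∃ a, x = D.cen i a) ∨ ∃ k ∈ s, ∃ v hv a, x = D.q i k v hv a}

/-- The radical over a set. -/
def Q (i : Fin m) (s : Finset (Fin m)) : Subgroup (Sp × H) := Subgroup.closure (D.qgens i s)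

theorem f_be_sp {i : Fin m} {s : Finset (Fin m)} (hi : i ∉ s) {v : Vec} (hv : v ∈ perp (off s)) :
    f (be i) v = 0 := by rw [f_be, (mem_sp.1 hv i hi).1]

theorem Q_shape {i : Fin m} {s : Finset (Fin m)} (hi : i ∉ s) {x : Sp × H} (hx : x ∈ D.Q i s) :
    ∃ v ∈ perp (off s), ∃ a : F, x.1 = un (be i) v a := by
  induction hx using Subgroup.closure_induction with
  | mem y hy =>
    rcases hy with ⟨a, rfl⟩ | ⟨k, hk, v, hv, a, rfl⟩
    · exact ⟨0, zero_mem _, a, rfl⟩
    · exact ⟨v, sp_mono (Finset.singleton_subset_iff.2 hk) hv, a, rfl⟩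
  | one => exact ⟨0, zero_mem _, 0, (un_zero _).symm⟩
  | mul y z _ _ hy hz =>
    obtain ⟨v, hv, a, e⟩ := hy
    obtain ⟨v', hv', a', e'⟩ := hz
    exact ⟨_, add_mem hv hv', _, by rw [Prod.fst_mul, e, e', un_mul (f_be_sp hi hv) (f_be_sp hi hv')]⟩
  | inv y _ hy =>
    obtain ⟨v, hv, a, e⟩ := hy
    refine ⟨-v, neg_mem hv, -a, ?_⟩
    rw [Prod.fst_inv, e]
    refine inv_eq_of_mul_eq_one_right ?_
    rw [un_mul (f_be_sp hi hv) (f_be_sp hi (neg_mem hv)), add_neg_cancel, f_neg_left, sympForm_self, neg_zero,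
      add_zero, add_neg_cancel, un_zero]

theorem q_eq_T {i k : Fin m} (hik : i ≠ k) (c : F) :
    D.q i k (c • bh k) (Submodule.smul_mem _ _ (bh_mem (Finset.mem_singleton_self k))) 0 = D.lh (T i k c) :=
  D.dg_ext ⟨_, rfl⟩ (D.dg_T hik (by simp) (by simp) c) (gl_T_un hik c).symm

theorem un_symm {i k : Fin m} (hik : i ≠ k) (c : F) :
    (un (be i) (c • be k) 0 : Sp) = un (be k) (c • be i) 0 := by
  have h1 : f (be i) (c • be k : Vec) = 0 := by rw [f_smul_right, f_be]; simp [be]
  have h2 : f (be k) (c • be i : Vec) = 0 := by rw [f_smul_right, f_be]; simp [be]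
  refine sp_ext fun x => ?_
  rw [un_mulVec h1, un_mulVec h2, f_smul_right, f_smul_right]
  module

theorem q_flip_other {i k : Fin m} (hik : i ≠ k) {A : ↥(fx (F := F) {k})} (hA : (A.1 : Mat) *ᵥ bh k = be k) (c : F) :
    D.q i k (c • be k) (Submodule.smul_mem _ _ (be_mem (Finset.mem_singleton_self k))) 0 =
      D.sg k A * D.lh (T i k c) * (D.sg k A)⁻¹ := by
  refine D.dg_ext ⟨_, rfl⟩ (mul_mem (mul_mem (D.sg_dg (by simp) A) (D.dg_T hik (by simp) (by simp) c))
    (inv_mem (D.sg_dg (by simp) A))) ?_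
  show (un (be i) (c • be k) 0 : Sp) = A.1 * gl (T i k c) * A.1⁻¹
  rw [gl_T_un hik, un_conj, fix_be A.2 (by simpa using hik), Matrix.mulVec_smul, hA]

theorem q_flip_self {i k : Fin m} (hik : i ≠ k) {A : ↥(fx (F := F) {i})} (hA : (A.1 : Mat) *ᵥ bh i = be i) (c : F) :
    D.q i k (c • be k) (Submodule.smul_mem _ _ (be_mem (Finset.mem_singleton_self k))) 0 =
      D.sg i A * D.lh (T k i c) * (D.sg i A)⁻¹ := by
  refine D.dg_ext ⟨_, rfl⟩ (mul_mem (mul_mem (D.sg_dg (by simp) A) (D.dg_T hik.symm (by simp) (by simp) c))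
    (inv_mem (D.sg_dg (by simp) A))) ?_
  show (un (be i) (c • be k) 0 : Sp) = A.1 * gl (T k i c) * A.1⁻¹
  rw [gl_T_un hik.symm, un_conj, fix_be A.2 (by simpa using hik.symm), Matrix.mulVec_smul, hA, un_symm hik]

/-- Every element from one other pair is a product of three standard ones. -/
theorem q_split {i k : Fin m} (hik : i ≠ k) {v : Vec} (hv : v ∈ perp (off ({k} : Finset (Fin m)))) (a : F) :
    ∃ x y b, D.q i k v hv a = D.lh (T i k x) *
      D.q i k (y • be k) (Submodule.smul_mem _ _ (be_mem (Finset.mem_singleton_self k))) 0 * D.cen i b := by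
  set x := v (Sum.inl k)
  set y := v (Sum.inr k)
  have hv' : v = x • bh k + y • be k := by
    funext l
    rcases l with l | l <;> by_cases h : l = k
    all_goals first
      | (subst h; simp [be, bh, x, y])
      | simp [be, bh, h, mem_sp.1 hv l (by simpa using h)]
  refine ⟨x, y, a - f (y • be k) (x • bh k), D.dg_ext ⟨_, rfl⟩
    (mul_mem (mul_mem (D.dg_T hik (by simp) (by simp) x) ⟨_, rfl⟩) (D.sg_dg (by simp) _)) ?_⟩
  show (un (be i) v a : Sp) = gl (T i k x) * un (be i) (y • be k) 0 * un (be i) 0 _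
  have hi : i ∉ ({k} : Finset (Fin m)) := by simpa using hik
  have h1 := f_be_sp hi (Submodule.smul_mem _ x (bh_mem (F := F) (Finset.mem_singleton_self k)))
  have h2 := f_be_sp hi (Submodule.smul_mem _ y (be_mem (F := F) (Finset.mem_singleton_self k)))
  rw [gl_T_un hik, un_mul h1 h2, un_mul (by rw [f_add_right, h1, h2, add_zero]) (f_zero_right _), add_zero, ← hv',
    f_zero_left]
  congr 1
  ring

theorem cen_mem {i : Fin m} {s : Finset (Fin m)} (a : F) : D.cen i a ∈ D.Q i s :=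
  Subgroup.subset_closure (Or.inl ⟨a, rfl⟩)

theorem q_mem {i k : Fin m} {s : Finset (Fin m)} (hk : k ∈ s) {v : Vec}
    (hv : v ∈ perp (off ({k} : Finset (Fin m)))) (a : F) : D.q i k v hv a ∈ D.Q i s :=
  Subgroup.subset_closure (Or.inr ⟨k, hk, v, hv, a, rfl⟩)

theorem T_mem_Q {i k : Fin m} {s : Finset (Fin m)} (hik : i ≠ k) (hk : k ∈ s) (c : F) :
    D.lh (T i k c) ∈ D.Q i s := by
  rw [← D.q_eq_T hik]; exact D.q_mem hk _ _

theorem cen_comm {i k : Fin m} (hik : i ≠ k) {v : Vec} (hv : v ∈ perp (off ({k} : Finset (Fin m)))) (a b : F) :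
    Commute (D.cen i b) (D.q i k v hv a) := by
  have hi : i ∉ ({k} : Finset (Fin m)) := by simpa using hik
  refine D.dg_ext (mul_mem (D.sg_dg (by simp) _) ⟨_, rfl⟩) (mul_mem ⟨_, rfl⟩ (D.sg_dg (by simp) _)) ?_
  show (un (be i) 0 b : Sp) * un (be i) v a = un (be i) v a * un (be i) 0 b
  rw [un_mul (f_zero_right _) (f_be_sp hi hv), un_mul (f_be_sp hi hv) (f_zero_right _), f_zero_left,
    f_zero_right]
  congr 1 <;> abel

theorem q_comm {i k l : Fin m} (hik : i ≠ k) (hil : i ≠ l) (hkl : k ≠ l) {v v' : Vec}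
    (hv : v ∈ perp (off ({k} : Finset (Fin m)))) (hv' : v' ∈ perp (off ({l} : Finset (Fin m)))) (a a' : F) :
    Commute (D.q i k v hv a) (D.q i l v' hv' a') := by
  obtain ⟨x, y, b, e⟩ := D.q_split hik hv a
  obtain ⟨x', y', b', e'⟩ := D.q_split hil hv' a'
  obtain ⟨A, hA, hA'⟩ := exists_flip (F := F) k
  obtain ⟨B, hB, hB'⟩ := exists_flip (F := F) l
  have TT : ∀ c c', Commute (D.lh (T i k c)) (D.lh (T i l c')) := fun c c' =>
    (show Commute (T i k c : SpecialLinearGroup (Fin m) F) (T i l c') from T_comm hik hil hil hik.symm c c').map D.lh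
  have AT : ∀ c, Commute (D.sg k ⟨A, hA⟩) (D.lh (T i l c)) := fun c => D.sg_comm_T hil hik hkl.symm _ c
  have BT : ∀ c, Commute (D.sg l ⟨B, hB⟩) (D.lh (T i k c)) := fun c => D.sg_comm_T hik hil hkl _ c
  have AB : Commute (D.sg k ⟨A, hA⟩) (D.sg l ⟨B, hB⟩) := D.iota_comm _ _ (by simpa using hkl) _ _
  have ek := D.q_flip_other hik (A := ⟨A, hA⟩) hA' y
  have el := D.q_flip_other hil (A := ⟨B, hB⟩) hB' y'
  have ET : ∀ c, Commute (D.q i k (y • be k) (Submodule.smul_mem _ _ (be_mem (Finset.mem_singleton_self k))) 0)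
      (D.lh (T i l c)) := fun c => by
    rw [ek]; exact ((AT c).mul_left (TT y c)).mul_left (AT c).inv_left
  have TE : Commute (D.lh (T i k x))
      (D.q i l (y' • be l) (Submodule.smul_mem _ _ (be_mem (Finset.mem_singleton_self l))) 0) := by
    rw [el]; exact ((BT x).symm.mul_right (TT x y')).mul_right (BT x).symm.inv_right
  have EE : Commute (D.q i k (y • be k) (Submodule.smul_mem _ _ (be_mem (Finset.mem_singleton_self k))) 0)
      (D.q i l (y' • be l) (Submodule.smul_mem _ _ (be_mem (Finset.mem_singleton_self l))) 0) := by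
    have hB1 : Commute (D.q i k (y • be k) (Submodule.smul_mem _ _ (be_mem (Finset.mem_singleton_self k))) 0)
        (D.sg l ⟨B, hB⟩) := by
      rw [ek]; exact (AB.mul_left (BT y).symm).mul_left AB.inv_left
    rw [el]
    exact (hB1.mul_right (ET y')).mul_right hB1.inv_right
  have C1 : ∀ c, Commute (D.cen i b) (D.lh (T i l c)) := fun c => by
    rw [← D.q_eq_T hil]; exact D.cen_comm hil _ _ _
  have C2 : ∀ c, Commute (D.cen i b') (D.lh (T i k c)) := fun c => by
    rw [← D.q_eq_T hik]; exact D.cen_comm hik _ _ _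
  have C3 : Commute (D.cen i b) (D.cen i b') := by
    refine D.dg_ext (a := i) (b := k) (mul_mem (D.sg_dg (by simp) _) (D.sg_dg (by simp) _))
      (mul_mem (D.sg_dg (by simp) _) (D.sg_dg (by simp) _)) ?_
    show (un (be i) 0 b : Sp) * un (be i) 0 b' = un (be i) 0 b' * un (be i) 0 b
    rw [un_mul (f_zero_right _) (f_zero_right _), un_mul (f_zero_right _) (f_zero_right _), add_comm b]
  rw [e, e']
  exact ((((TT x x').mul_right TE).mul_right (C2 x).symm).mul_left
    (((ET x').mul_right EE).mul_right (D.cen_comm hik _ _ b').symm)).mul_left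
      (((C1 x').mul_right (D.cen_comm hil _ _ b)).mul_right C3)

theorem Q_inj {i : Fin m} {s : Finset (Fin m)} (hi : i ∉ s) : ∀ x ∈ D.Q i s, x.1 = 1 → x.2 = 1 := by
  classical
  induction s using Finset.induction_on with
  | empty =>
    intro x hx h1
    have hle : D.Q i ∅ ≤ (D.sg i).range := by
      rw [Q, Subgroup.closure_le]
      rintro y (⟨a, rfl⟩ | ⟨k, hk, -⟩)
      · exact ⟨_, rfl⟩
      · exact absurd hk (Finset.notMem_empty k)
    obtain ⟨g, rfl⟩ := hle hx
    rw [show g = 1 from Subtype.ext h1, map_one]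
    rfl
  | @insert k s hk ih =>
    simp only [Finset.mem_insert, not_or] at hi
    obtain ⟨hik, his⟩ := hi
    have hcomm : ∀ (y : D.Q i {k}) (z : D.Q i s), Commute (y : Sp × H) (z : Sp × H) := by
      rintro ⟨y, hy⟩ ⟨z, hz⟩
      change Commute y z
      induction hy using Subgroup.closure_induction with
      | one => exact Commute.one_left _
      | mul a b _ _ ha hb => exact ha.mul_left hb
      | inv a _ ha => exact ha.inv_left
      | mem a ha =>
        induction hz using Subgroup.closure_induction with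
        | one => exact Commute.one_right _
        | mul a b _ _ ha hb => exact ha.mul_right hb
        | inv a _ ha => exact ha.inv_right
        | mem b hb =>
          rcases ha with ⟨c, rfl⟩ | ⟨k', hk', v, hv, c, rfl⟩
          · rcases hb with ⟨c', rfl⟩ | ⟨l, hl, v', hv', c', rfl⟩
            · refine D.dg_ext (a := i) (b := k) (mul_mem (D.sg_dg (by simp) _) (D.sg_dg (by simp) _))
                (mul_mem (D.sg_dg (by simp) _) (D.sg_dg (by simp) _)) ?_
              show (un (be i) 0 c : Sp) * un (be i) 0 c' = un (be i) 0 c' * un (be i) 0 c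
              rw [un_mul (f_zero_right _) (f_zero_right _), un_mul (f_zero_right _) (f_zero_right _), add_comm c]
            · exact D.cen_comm (fun (e : i = l) => his (e ▸ hl)) hv' _ _
          · obtain rfl := Finset.mem_singleton.1 hk'
            rcases hb with ⟨c', rfl⟩ | ⟨l, hl, v', hv', c', rfl⟩
            · exact (D.cen_comm hik hv _ _).symm
            · exact D.q_comm hik (fun (e : i = l) => his (e ▸ hl)) (fun (e : k' = l) => hk (e ▸ hl)) hv hv' _ _
    intro x hx h1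
    let φ := MonoidHom.noncommCoprod (D.Q i {k}).subtype (D.Q i s).subtype hcomm
    have hle : D.Q i (insert k s) ≤ φ.range := by
      rw [Q, Subgroup.closure_le]
      rintro y (⟨a, rfl⟩ | ⟨l, hl, v, hv, a, rfl⟩)
      · exact ⟨(1, ⟨_, D.cen_mem a⟩), one_mul _⟩
      · rcases Finset.mem_insert.1 hl with rfl | hl
        · exact ⟨(⟨_, D.q_mem (Finset.mem_singleton_self _) hv a⟩, 1), mul_one _⟩
        · exact ⟨(1, ⟨_, D.q_mem hl hv a⟩), one_mul _⟩
    obtain ⟨⟨⟨y, hy⟩, ⟨z, hz⟩⟩, rfl⟩ := hle hx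
    change (y * z).1 = 1 at h1
    show (y * z).2 = 1
    obtain ⟨v, hv, a, ey⟩ := D.Q_shape (by simpa using hik) hy
    obtain ⟨v', hv', a', ez⟩ := D.Q_shape his hz
    have hfv := f_be_sp (i := i) (s := {k}) (by simpa using hik) hv
    rw [Prod.fst_mul, ey, ez, un_mul hfv (f_be_sp his hv')] at h1
    have hv0 : v = 0 := by
      have h2 := congrArg (fun B : Sp => (B : Mat) *ᵥ (bh i : Vec)) h1
      have hw : f (be i) (v + v') = 0 := by rw [f_add_right, hfv, f_be_sp his hv', add_zero]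
      have hbh : f (bh i) (v + v') = 0 := by
        rw [f_add_right, f_bh, f_bh, (mem_sp.1 hv i (by simpa using hik)).2, (mem_sp.1 hv' i his).2]; simp
      simp only [un_mulVec hw, hbh, f_be', bh] at h2
      funext l
      have h3 := congrFun (h2.trans (one_mulVec _)) l
      rcases l with l | l <;> by_cases hlk : l = k
      all_goals first
        | exact (mem_sp.1 hv l (by simpa using hlk)).1
        | exact (mem_sp.1 hv l (by simpa using hlk)).2
        | (subst hlk
           simpa [be, Ne.symm hik, (mem_sp.1 hv' l hk)] using h3)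
    have hle' : D.Q i {k} ≤ (D.dg i k).range := by
      rw [Q, Subgroup.closure_le]
      rintro w (⟨c, rfl⟩ | ⟨l, hl, u, hu, c, rfl⟩)
      · exact D.sg_dg (by simp) _
      · obtain rfl := Finset.mem_singleton.1 hl
        exact ⟨_, rfl⟩
    have hyc : y = D.cen i a := D.dg_ext (hle' hy) (D.sg_dg (by simp) _) (by rw [ey, hv0]; rfl)
    subst hyc
    refine ih his _ (mul_mem (D.cen_mem a) hz) ?_
    rw [Prod.fst_mul, ey, ez, un_mul hfv (f_be_sp his hv'), h1]

/-- The radical is normalised by the group over the other pairs. -/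
theorem K_normalizes {i : Fin m} {s : Finset (Fin m)} (hi : i ∉ s) :
    ∀ z ∈ D.K s, ∀ x ∈ D.Q i s, z * x * z⁻¹ ∈ D.Q i s := by
  classical
  have ne : ∀ {l}, l ∈ s → i ≠ l := fun hl e => hi (e ▸ hl)
  obtain ⟨A, hA, hA'⟩ := exists_flip (F := F) i
  have key : ∀ z, z ∈ D.gens s ∨ z⁻¹ ∈ D.gens s → ∀ x ∈ D.Q i s, z * x * z⁻¹ ∈ D.Q i s := by
    intro z hz
    have hz' : z ∈ D.gens s := by
      rcases hz with hz | hz
      · exact hz
      rcases hz with ⟨k, hk, g, hg⟩ | ⟨a, ha, b, hb, hab, c, hc⟩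
      · exact Or.inl ⟨k, hk, g⁻¹, by rw [map_inv, hg, inv_inv]⟩
      · exact Or.inr ⟨a, ha, b, hb, hab, -c, by rw [← T_inv hab, map_inv, ← hc, inv_inv]⟩
    intro x hx
    induction hx using Subgroup.closure_induction with
    | one => rw [mul_one, mul_inv_cancel]; exact one_mem _
    | mul u v _ _ hu hv =>
      rw [show z * (u * v) * z⁻¹ = z * u * z⁻¹ * (z * v * z⁻¹) by group]; exact mul_mem hu hv
    | inv u _ hu => rw [show z * u⁻¹ * z⁻¹ = (z * u * z⁻¹)⁻¹ by group]; exact inv_mem hu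
    | mem u hu =>
      have fix : Commute z u → z * u * z⁻¹ ∈ D.Q i s := fun h => by
        rw [h.eq, mul_inv_cancel_right]; exact Subgroup.subset_closure hu
      rcases hz' with ⟨k, hk, g, rfl⟩ | ⟨a, ha, b, hb, hab, c, rfl⟩
      · rcases hu with ⟨d, rfl⟩ | ⟨l, hl, v, hv, d, rfl⟩
        · exact fix (D.iota_comm _ _ (by simpa using (ne hk).symm) _ _)
        · by_cases hkl : k = l
          · subst hkl
            have hv' : (g.1 : Mat) *ᵥ v ∈ perp (off ({k} : Finset (Fin m))) := fx_sp g.2 hv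
            have e : D.sg k g * D.q i k v hv d * (D.sg k g)⁻¹ = D.q i k ((g.1 : Mat) *ᵥ v) hv' d :=
              D.dg_ext (mul_mem (mul_mem (D.sg_dg (by simp) g) ⟨_, rfl⟩) (inv_mem (D.sg_dg (by simp) g))) ⟨_, rfl⟩ (by
                show g.1 * un (be i) v d * g.1⁻¹ = un (be i) _ d
                rw [un_conj, fix_be g.2 (by simpa using ne hk)])
            rw [e]; exact D.q_mem hk _ _
          · exact fix (D.iota_comm _ _ (by simp [(ne hk).symm, hkl]) _ _)
      · rcases hu with ⟨d, rfl⟩ | ⟨l, hl, v, hv, d, rfl⟩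
        · exact fix (D.sg_comm_T hab (ne ha).symm (ne hb).symm _ c).symm
        · obtain ⟨x, y, e', he⟩ := D.q_split (ne hl) hv d
          rw [he, show D.lh (T a b c) * (D.lh (T i l x) *
              D.q i l (y • be l) (Submodule.smul_mem _ _ (be_mem (Finset.mem_singleton_self l))) 0 * D.cen i e') *
              (D.lh (T a b c))⁻¹ =
            (D.lh (T a b c) * D.lh (T i l x) * (D.lh (T a b c))⁻¹) * (D.lh (T a b c) *
              D.q i l (y • be l) (Submodule.smul_mem _ _ (be_mem (Finset.mem_singleton_self l))) 0 *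
              (D.lh (T a b c))⁻¹) * (D.lh (T a b c) * D.cen i e' * (D.lh (T a b c))⁻¹) by group]
          refine mul_mem (mul_mem ?_ ?_) ?_
          · by_cases hla : l = a
            · subst hla
              have hbr := T_bracket (F := F) (ne hb) (ne hl) hab x c
              rw [← map_inv, ← map_mul, ← map_mul,
                show T l b c * T i l x * (T l b c : SpecialLinearGroup (Fin m) F)⁻¹ = (T i b (x * c))⁻¹ * T i l x by
                  rw [← hbr, commutatorElement_def]; group,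
                map_mul, map_inv]
              exact mul_mem (inv_mem (D.T_mem_Q (ne hb) hb _)) (D.T_mem_Q (ne hl) hl _)
            · rw [← map_inv, ← map_mul, ← map_mul,
                (T_comm hab (ne hl) (Ne.symm hla) (ne hb).symm c x), mul_inv_cancel_right]
              exact D.T_mem_Q (ne hl) hl _
          · rw [D.q_flip_self (ne hl) (A := ⟨A, hA⟩) hA' y]
            have hcA : Commute (D.sg i ⟨A, hA⟩) (D.lh (T a b c)) := D.sg_comm_T hab (ne ha).symm (ne hb).symm _ c
            rw [show D.lh (T a b c) * (D.sg i ⟨A, hA⟩ * D.lh (T l i y) * (D.sg i ⟨A, hA⟩)⁻¹) * (D.lh (T a b c))⁻¹ =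
              D.lh (T a b c) * D.sg i ⟨A, hA⟩ * D.lh (T l i y) * (D.lh (T a b c) * D.sg i ⟨A, hA⟩)⁻¹ by group,
              ← hcA.eq, show D.sg i ⟨A, hA⟩ * D.lh (T a b c) * D.lh (T l i y) * (D.sg i ⟨A, hA⟩ * D.lh (T a b c))⁻¹ =
              D.sg i ⟨A, hA⟩ * (D.lh (T a b c) * D.lh (T l i y) * (D.lh (T a b c))⁻¹) * (D.sg i ⟨A, hA⟩)⁻¹ by group]
            by_cases hlb : l = b
            · subst hlb
              have hbr := T_bracket (F := F) (ne ha).symm hab (ne hl).symm c y
              rw [← map_inv, ← map_mul, ← map_mul,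
                show T a l c * T l i y * (T a l c : SpecialLinearGroup (Fin m) F)⁻¹ = T a i (c * y) * T l i y by
                  rw [← hbr, commutatorElement_def]; group,
                map_mul, show D.sg i ⟨A, hA⟩ * (D.lh (T a i (c * y)) * D.lh (T l i y)) * (D.sg i ⟨A, hA⟩)⁻¹ =
                  (D.sg i ⟨A, hA⟩ * D.lh (T a i (c * y)) * (D.sg i ⟨A, hA⟩)⁻¹) *
                    (D.sg i ⟨A, hA⟩ * D.lh (T l i y) * (D.sg i ⟨A, hA⟩)⁻¹) by group,
                ← D.q_flip_self (ne ha) (A := ⟨A, hA⟩) hA', ← D.q_flip_self (ne hl) (A := ⟨A, hA⟩) hA']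
              exact mul_mem (D.q_mem ha _ _) (D.q_mem hl _ _)
            · rw [← map_inv D.lh, ← map_mul, ← map_mul,
                (T_comm hab (ne hl).symm (ne ha).symm (Ne.symm hlb) c y), mul_inv_cancel_right,
                ← D.q_flip_self (ne hl) (A := ⟨A, hA⟩) hA']
              exact D.q_mem hl _ _
          · show _ * D.sg i _ * _ ∈ _
            rw [← (D.sg_comm_T hab (ne ha).symm (ne hb).symm _ c).eq, mul_inv_cancel_right]
            exact D.cen_mem _
  intro z hz
  induction hz using Subgroup.closure_induction'' with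
  | mem a ha => exact key a (Or.inl ha)
  | inv_mem a ha => exact key _ (Or.inr (by rwa [inv_inv]))
  | one => intro x hx; simpa using hx
  | mul a b _ _ ha hb =>
    intro x hx
    rw [show a * b * x * (a * b)⁻¹ = a * (b * x * b⁻¹) * a⁻¹ by group]
    exact ha _ (hb x hx)

/-- The stabiliser of the vector of one pair. -/
def P (i : Fin m) (s : Finset (Fin m)) : Subgroup (Sp × H) := D.Q i (s.erase i) ⊔ D.K (s.erase i)

theorem mem_P {i : Fin m} {s : Finset (Fin m)} {x : Sp × H} (hx : x ∈ D.P i s) :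
    ∃ a ∈ D.Q i (s.erase i), ∃ l ∈ D.K (s.erase i), x = a * l := by
  have hn : D.K (s.erase i) ≤ Subgroup.normalizer (D.Q i (s.erase i) : Set (Sp × H)) := by
    intro z hz
    rw [Subgroup.mem_normalizer_iff]
    intro y
    refine ⟨fun hy => D.K_normalizes (Finset.notMem_erase i s) z hz y hy, fun hy => ?_⟩
    have := D.K_normalizes (Finset.notMem_erase i s) z⁻¹ (inv_mem hz) _ hy
    rwa [show z⁻¹ * (z * y * z⁻¹) * z⁻¹⁻¹ = y by group] at this
  have h : x ∈ ((D.P i s : Subgroup (Sp × H)) : Set (Sp × H)) := hx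
  rw [P, Subgroup.coe_mul_of_right_le_normalizer_left _ _ hn] at h
  obtain ⟨a, ha, l, hl, e⟩ := h
  exact ⟨a, ha, l, hl, e.symm⟩

theorem P_fix {i : Fin m} {s : Finset (Fin m)} {x : Sp × H} (hx : x ∈ D.P i s) :
    (x.1 : Mat) *ᵥ be i = be i := by
  obtain ⟨a, ha, l, hl, rfl⟩ := D.mem_P hx
  obtain ⟨v, hv, c, e⟩ := D.Q_shape (Finset.notMem_erase i s) ha
  rw [Prod.fst_mul, mul_mulVec_sp, fix_be (D.K_fst hl) (Finset.notMem_erase i s), e,
    un_fix_e (f_be_sp (Finset.notMem_erase i s) hv)]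

theorem P_inj {i : Fin m} {s : Finset (Fin m)} (hi : i ∈ s)
    (hK : ∀ x ∈ D.K (s.erase i), x.1 = 1 → x.2 = 1) : ∀ x ∈ D.P i s, x.1 = 1 → x.2 = 1 := by
  intro x hx h1
  obtain ⟨a, ha, l, hl, rfl⟩ := D.mem_P hx
  obtain ⟨v, hv, c, e⟩ := D.Q_shape (Finset.notMem_erase i s) ha
  have hl1 : l.1 ∈ fixer (next (off s) (be i : Vec) (bh i)) := by rw [next_off hi]; exact D.K_fst hl
  have hv1 : v ∈ perp (next (off s) (be i : Vec) (bh i)) := by rw [next_off hi]; exact hv
  rw [Prod.fst_mul, e] at h1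
  obtain ⟨rfl, rfl⟩ := un_eq_one (pair s hi) hv1 hl1 h1
  rw [un_zero, one_mul] at h1
  rw [Prod.snd_mul, D.Q_inj (Finset.notMem_erase i s) a ha (by rw [e, un_zero]), hK l hl h1, mul_one]

theorem dg_mem_P {i k : Fin m} {s : Finset (Fin m)} (hik : i ≠ k) (hk : k ∈ s) {x : Sp × H}
    (hx : x ∈ (D.dg i k).range) (hfix : (x.1 : Mat) *ᵥ be i = be i) : x ∈ D.P i s := by
  obtain ⟨g, rfl⟩ := hx
  have hi' : i ∈ ({i, k} : Finset (Fin m)) := by simp
  obtain ⟨v, hv, a, l, hl, e⟩ := stab_decomp (pair {i, k} hi') (A := g.1) g.2 hfix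
  rw [next_off hi', show ({i, k} : Finset (Fin m)).erase i = {k} by simp [Finset.erase_insert, hik]] at hv hl
  have e' : D.dg i k g = D.q i k v hv a * D.sg k ⟨l, hl⟩ :=
    D.dg_ext ⟨_, rfl⟩ (mul_mem ⟨_, rfl⟩ (D.sg_dg (by simp) _)) e
  rw [e']
  exact mul_mem (Subgroup.mem_sup_left (D.q_mem (Finset.mem_erase.2 ⟨hik.symm, hk⟩) hv a))
    (Subgroup.mem_sup_right (D.sg_mem (Finset.mem_erase.2 ⟨hik.symm, hk⟩) _))

theorem sg_fix {i : Fin m} (g : ↥(fx (F := F) {i})) (hfix : (g.1 : Mat) *ᵥ be i = be i) :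
    ∃ a, D.sg i g = D.cen i a := by
  have hi' := Finset.mem_singleton_self i
  obtain ⟨v, hv, a, l, hl, e⟩ := stab_decomp (pair {i} hi') (A := g.1) g.2 hfix
  rw [next_off hi', Finset.erase_singleton] at hv hl
  have hv0 : v = 0 := funext fun k => by
    rcases k with k | k
    exacts [(mem_sp.1 hv k (Finset.notMem_empty k)).1, (mem_sp.1 hv k (Finset.notMem_empty k)).2]
  rw [hv0, fx_empty hl, mul_one] at e
  exact ⟨a, congrArg (D.sg i) (Subtype.ext e)⟩

theorem sg_mem_P {i : Fin m} {s : Finset (Fin m)} (g : ↥(fx (F := F) {i}))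
    (hfix : (g.1 : Mat) *ᵥ be i = be i) : D.sg i g ∈ D.P i s := by
  obtain ⟨a, e⟩ := D.sg_fix g hfix
  rw [e]; exact Subgroup.mem_sup_left (D.cen_mem a)

/-! ### The cosets -/

/-- The two bases of representatives. -/
def base (i j : Fin m) : Set (Sp × H) := {D.lh (wel i j), D.lh (T j i 1)}

/-- The representatives. -/
def reps (i j : Fin m) (s : Finset (Fin m)) : Set (Sp × H) :=
  {r | r ∈ (D.sg i).range ∨ ∃ d ∈ (D.sg i).range, ∃ z ∈ D.K (s.erase i), ∃ b ∈ D.base i j, r = d * z * b}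

/-- Congruence modulo the stabiliser. -/
def Cong (i : Fin m) (s : Finset (Fin m)) (x y : Sp × H) : Prop := y⁻¹ * x ∈ D.P i s

theorem Cong.rfl' {i : Fin m} {s : Finset (Fin m)} (x : Sp × H) : D.Cong i s x x := by
  show x⁻¹ * x ∈ _; rw [inv_mul_cancel]; exact one_mem _

theorem Cong.trans' {i : Fin m} {s : Finset (Fin m)} {x y z : Sp × H} (h : D.Cong i s x y) (h' : D.Cong i s y z) :
    D.Cong i s x z := by
  show z⁻¹ * x ∈ _
  have := mul_mem h' h
  rwa [show z⁻¹ * y * (y⁻¹ * x) = z⁻¹ * x by group] at this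

theorem Cong.symm' {i : Fin m} {s : Finset (Fin m)} {x y : Sp × H} (h : D.Cong i s x y) : D.Cong i s y x := by
  show x⁻¹ * y ∈ _
  have := inv_mem (show y⁻¹ * x ∈ D.P i s from h)
  rwa [_root_.mul_inv_rev, inv_inv] at this

theorem Cong.left {i : Fin m} {s : Finset (Fin m)} {x y : Sp × H} (h : D.Cong i s x y) (g : Sp × H) :
    D.Cong i s (g * x) (g * y) := by
  show (g * y)⁻¹ * (g * x) ∈ _
  rwa [show (g * y)⁻¹ * (g * x) = y⁻¹ * x by group]

theorem Cong.image {i : Fin m} {s : Finset (Fin m)} {x y : Sp × H} (h : D.Cong i s x y) :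
    (x.1 : Mat) *ᵥ be i = (y.1 : Mat) *ᵥ be i := by
  have := D.P_fix h
  rw [Prod.fst_mul, mul_mulVec_sp, Prod.fst_inv] at this
  have e := congrArg (fun v => (y.1 : Mat) *ᵥ v) this
  rw [← mul_mulVec_sp, mul_inv_cancel] at e
  exact (one_mulVec _).symm.trans e

end Data

end Cfsg.Agent.ShortPres.Symp
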