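import Cfsg.Agent.Lib.ShortPres.SympGlue
import Mathlib

/-!
The relations between the even permutations of the pairs and the group on two pairs.
-/

set_option autoImplicit false
set_option linter.unusedSectionVars false

namespace Cfsg.Agent.ShortPres.Symp

open Matrix Monoid Cfsg.Agent.ShortPres.Bound Cfsg.Agent.Forms.SympStd Cfsg.Agent.Classical.Symplectic
  Cfsg.Agent.SimpleFacts.SpMult.Levels Cfsg.Agent.SimpleFacts.SLnRootLifts Cfsg.Agent.SimpleFacts.SLnCosets
open scoped commutatorElement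

universe u w

variable {F : Type u} [Field F] {m : ℕ}

local notation "Sp" => symplecticGroup (Fin m) F
local notation "Sp4" => symplecticGroup (Fin 2) F
local notation "A" => alternatingGroup (Fin m)

theorem centralized {K H : Type*} [Group K] [Group H] (β : K →* H) {S : Set K} {h : H}
    (hS : ∀ y ∈ S, Commute h (β y)) {y : K} (hy : y ∈ Subgroup.closure S) : Commute h (β y) := by
  induction hy using Subgroup.closure_induction with
  | mem y hy => exact hS y hy
  | one => rw [map_one]; exact Commute.one_right _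
  | mul y z _ _ h1 h2 => rw [map_mul]; exact h1.mul_right h2
  | inv y _ h1 => rw [map_inv]; exact h1.inv_right

section ok

variable {H : Type w} [Group H] {p0 p1 : Fin m} (α : alternatingGroup (Fin m) →* H)
  (β : ↥(fx (F := F) ({p0, p1} : Finset (Fin m))) →* H)

/-- Coherence at one element. -/
def Ok (g : A) (x : Sp) : Prop :=
  ∃ (hx : x ∈ fx (F := F) ({p0, p1} : Finset (Fin m)))
    (hy : pA g * x * (pA g)⁻¹ ∈ fx (F := F) ({p0, p1} : Finset (Fin m))),
    β ⟨_, hy⟩ = α g * β ⟨x, hx⟩ * (α g)⁻¹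

variable {α β}

theorem Ok.mul {g h : A} {x : Sp} (h1 : Ok α β g x) (h2 : Ok α β h (pA g * x * (pA g)⁻¹)) :
    Ok α β (h * g) x := by
  obtain ⟨hx, hy, e1⟩ := h1
  obtain ⟨hy', hz, e2⟩ := h2
  have e : pA (h * g) * x * (pA (F := F) (h * g))⁻¹ = pA h * (pA g * x * (pA g)⁻¹) * (pA h)⁻¹ := by
    rw [map_mul]; group
  refine ⟨hx, e ▸ hz, ?_⟩
  refine (congrArg β (Subtype.ext e : (⟨_, e ▸ hz⟩ : ↥(fx (F := F) ({p0, p1} : Finset (Fin m)))) =
    ⟨_, hz⟩)).trans ?_
  rw [e2, show (β ⟨_, hy'⟩) = _ from e1, map_mul]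
  group

theorem Ok.inv {g : A} {x : Sp} (h1 : Ok α β g x) : Ok α β g⁻¹ (pA g * x * (pA g)⁻¹) := by
  obtain ⟨hx, hy, e1⟩ := h1
  have e : pA g⁻¹ * (pA g * x * (pA g)⁻¹) * (pA (F := F) g⁻¹)⁻¹ = x := by
    rw [map_inv]; group
  refine ⟨hy, by rw [e]; exact hx, ?_⟩
  simp only [e, e1, map_inv]
  group

theorem Ok.of_fix {g : A} {x : Sp} {s : Finset (Fin m)} (hs : s ⊆ {p0, p1}) (hg : ∀ a ∈ s, g.1 a = a)
    (hx : x ∈ fx s) (hc : Commute (α g) (β ⟨x, fx_mono hs hx⟩)) : Ok α β g x := by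
  have e := pm_fix g hg hx
  refine ⟨fx_mono hs hx, by rw [e]; exact fx_mono hs hx, ?_⟩
  simp only [e, hc.eq, mul_inv_cancel_right]

theorem coh_of_ok (h : ∀ (g : A) (t : Finset (Fin m)), t ⊆ {p0, p1} →
    (∀ a ∈ t, g.1 a ∈ ({p0, p1} : Finset (Fin m))) → ∀ x ∈ fx t, Ok α β g x) : Coh α β := by
  intro g t ht hg x hx
  obtain ⟨_, _, e⟩ := h g t ht hg x hx
  exact e

theorem subset_pair_cases (h : p0 ≠ p1) {t : Finset (Fin m)} (ht : t ⊆ {p0, p1}) :
    t = ∅ ∨ t = {p0} ∨ t = {p1} ∨ t = {p0, p1} := by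
  have hm : ∀ a ∈ t, a = p0 ∨ a = p1 := fun a ha => by simpa using ht ha
  by_cases h0 : p0 ∈ t <;> by_cases h1 : p1 ∈ t
  · exact Or.inr (Or.inr (Or.inr (Finset.Subset.antisymm ht (by simp [Finset.insert_subset_iff, h0, h1]))))
  · exact Or.inr (Or.inl (Finset.eq_singleton_iff_unique_mem.2 ⟨h0, fun a ha =>
      (hm a ha).resolve_right fun e => h1 (e ▸ ha)⟩))
  · exact Or.inr (Or.inr (Or.inl (Finset.eq_singleton_iff_unique_mem.2 ⟨h1, fun a ha =>
      (hm a ha).resolve_left fun e => h0 (e ▸ ha)⟩)))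
  · exact Or.inl (Finset.eq_empty_of_forall_notMem fun a ha =>
      (hm a ha).elim (fun e => h0 (e ▸ ha)) fun e => h1 (e ▸ ha))

end ok

theorem four_inj {α : Type*} {a b c d : α} (hab : a ≠ b) (hac : a ≠ c) (had : a ≠ d) (hbc : b ≠ c) (hbd : b ≠ d)
    (hcd : c ≠ d) : Function.Injective ![a, b, c, d] := by
  intro i j e
  fin_cases i <;> fin_cases j <;>
    simp [hab, hac, had, hbc, hbd, hcd, hab.symm, hac.symm, had.symm, hbc.symm, hbd.symm, hcd.symm] at e ⊢

section four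

variable {p0 p1 p2 p3 : Fin m} {H : Type w} [Group H]

theorem coh_four (h01 : p0 ≠ p1) (α : A →* H) (β : ↥(fx (F := F) ({p0, p1} : Finset (Fin m))) →* H) (τ : A)
    (hτ0 : τ.1 p0 = p1) (hτ1 : τ.1 p1 = p0) (hττ : τ * τ = 1)
    (hP : ∀ g : A, g.1 p0 = p0 → g.1 p1 = p1 → ∀ y, Commute (α g) (β y))
    (h0 : ∀ g : A, g.1 p0 = p0 → ∀ (x : Sp) (hx : x ∈ fx {p0}), Commute (α g) (β ⟨x, fx_mono (by simp) hx⟩))
    (hτ : ∀ x ∈ fx (F := F) ({p0, p1} : Finset (Fin m)), Ok α β τ x) : Coh α β := by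
  have hττ' : ∀ g : A, g = τ * (τ * g) := fun g => by rw [← mul_assoc, hττ, one_mul]
  have one : ∀ g : A, g.1 p0 ∈ ({p0, p1} : Finset (Fin m)) → ∀ x ∈ fx (F := F) {p0}, Ok α β g x := by
    intro g hg x hx
    have l : ∀ g : A, g.1 p0 = p0 → Ok α β g x := fun g hg =>
      Ok.of_fix (s := {p0}) (by simp) (by simpa using hg) hx (h0 g hg x hx)
    rcases Finset.mem_insert.1 hg with hg | hg
    · exact l g hg
    rw [Finset.mem_singleton] at hg
    have h1 : Ok α β (τ * g) x := l _ (show τ.1 (g.1 p0) = p0 by rw [hg, hτ1])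
    rw [hττ' g]
    exact h1.mul (hτ _ h1.2.1)
  refine coh_of_ok fun g t ht hg x hx => ?_
  rcases subset_pair_cases h01 ht with rfl | rfl | rfl | rfl
  · rw [fx_empty hx]
    exact ⟨one_mem _, by simp [one_mem], by simp [show (⟨(1 : Sp), one_mem _⟩ :
      ↥(fx (F := F) ({p0, p1} : Finset (Fin m)))) = 1 from rfl]⟩
  · exact one g (hg p0 (by simp)) x hx
  · have hx' : pA τ * x * (pA τ)⁻¹ ∈ fx (F := F) {p0} := pA_mem τ (by simpa using hτ1) hx
    rw [show g = g * τ * τ by rw [mul_assoc, hττ, mul_one]]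
    refine (hτ x (fx_mono ht hx)).mul (one (g * τ) ?_ _ hx')
    show g.1 (τ.1 p0) ∈ _
    rw [hτ0]
    exact hg p1 (by simp)
  · have l : ∀ g : A, g.1 p0 = p0 → g.1 p1 = p1 → Ok α β g x := fun g e0 e1 =>
      Ok.of_fix (Finset.Subset.refl _) (by simp [e0, e1]) hx (hP g e0 e1 _)
    have hne : g.1 p0 ≠ g.1 p1 := g.1.injective.ne h01
    have a0 := hg p0 (by simp)
    have a1 := hg p1 (by simp)
    simp only [Finset.mem_insert, Finset.mem_singleton] at a0 a1
    rcases a0 with a0 | a0 <;> rcases a1 with a1 | a1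
    · exact absurd (a0.trans a1.symm) hne
    · exact l g a0 a1
    · have h1 : Ok α β (τ * g) x := l _ (show τ.1 (g.1 p0) = p0 by rw [a0, hτ1])
        (show τ.1 (g.1 p1) = p1 by rw [a1, hτ0])
      rw [hττ' g]
      exact h1.mul (hτ _ h1.2.1)
    · exact absurd (a0.trans a1.symm) hne

theorem comm_four (B : Base F m H) (hm : 4 ≤ m) {p2 p3 : Fin m} (h01 : B.p0 ≠ B.p1) (h02 : B.p0 ≠ p2)
    (h03 : B.p0 ≠ p3) (h12 : B.p1 ≠ p2) (h13 : B.p1 ≠ p3) (h23 : p2 ≠ p3) (σ : A) (hσσ : σ * σ = 1)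
    (hσ2 : σ.1 p2 = B.p0) (hσ3 : σ.1 p3 = B.p1)
    (h : ∀ y z, Commute (B.β y) (B.α σ * B.β z * (B.α σ)⁻¹)) : B.Comm := by
  intro s t hs ht hst x y
  obtain ⟨s', hss', hs't, hs'⟩ := Finset.exists_subsuperset_card_eq (s := s) (t := tᶜ) (n := 2)
    (fun a ha => Finset.mem_compl.2 (Finset.disjoint_left.1 hst ha)) hs
    (by rw [Finset.card_compl, Fintype.card_fin]; omega)
  obtain ⟨t', htt', ht's, ht'⟩ := Finset.exists_subsuperset_card_eq (s := t) (t := s'ᶜ) (n := 2)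
    (fun a ha => Finset.mem_compl.2 fun h' => Finset.mem_compl.1 (hs't h') ha) ht
    (by rw [Finset.card_compl, Fintype.card_fin, hs']; omega)
  rw [show x = ⟨x.1, x.2⟩ from rfl, show y = ⟨y.1, y.2⟩ from rfl, B.small_mono s s' hs hs'.le hss' _ x.2,
    B.small_mono t t' ht ht'.le htt' _ y.2]
  have hd : ∀ a ∈ s', ∀ b ∈ t', a ≠ b := fun a ha b hb e => Finset.mem_compl.1 (ht's hb) (e ▸ ha)
  obtain ⟨a, b, hab, rfl⟩ := Finset.card_eq_two.1 hs'
  obtain ⟨c, d, hcd, rfl⟩ := Finset.card_eq_two.1 ht'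
  have hac := hd a (by simp) c (by simp)
  have had := hd a (by simp) d (by simp)
  have hbc := hd b (by simp) c (by simp)
  have hbd := hd b (by simp) d (by simp)
  obtain ⟨g, hg⟩ := Alt.exists_even_send ![a, b, c, d] ![B.p0, B.p1, p2, p3]
    (four_inj hab hac had hbc hbd hcd) (four_inj h01 h02 h03 h12 h13 h23) h01
  have hs1 : ∀ k ∈ ({a, b} : Finset (Fin m)), g.1 k ∈ ({B.p0, B.p1} : Finset (Fin m)) := by
    intro k hk
    simp only [Finset.mem_insert, Finset.mem_singleton] at hk ⊢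
    rcases hg with hg | hg <;> rcases hk with rfl | rfl
    · exact Or.inl (hg 0)
    · exact Or.inr (hg 1)
    · exact Or.inr ((hg 0).trans (Equiv.swap_apply_left _ _))
    · exact Or.inl ((hg 1).trans (Equiv.swap_apply_right _ _))
  have ht1 : ∀ k ∈ ({c, d} : Finset (Fin m)), (σ * g).1 k ∈ ({B.p0, B.p1} : Finset (Fin m)) := by
    intro k hk
    simp only [Finset.mem_insert, Finset.mem_singleton] at hk ⊢
    show σ.1 (g.1 k) = _ ∨ σ.1 (g.1 k) = _
    rcases hg with hg | hg <;> rcases hk with rfl | rfl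
    · exact Or.inl (by rw [show g.1 k = p2 from hg 2, hσ2])
    · exact Or.inr (by rw [show g.1 k = p3 from hg 3, hσ3])
    · exact Or.inl (by rw [show g.1 k = p2 from (hg 2).trans (Equiv.swap_apply_of_ne_of_ne h02.symm h12.symm),
        hσ2])
    · exact Or.inr (by rw [show g.1 k = p3 from (hg 3).trans (Equiv.swap_apply_of_ne_of_ne h03.symm h13.symm),
        hσ3])
  rw [B.small_eq hs'.le g hs1, B.small_eq ht'.le (σ * g) ht1]
  have hσinv : (B.α σ)⁻¹ = B.α σ := by rw [← map_inv, inv_eq_of_mul_eq_one_right hσσ]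
  have key := (h ⟨_, pA_mem g hs1 (fx_mono hss' x.2)⟩ ⟨_, pA_mem (σ * g) ht1 (fx_mono htt' y.2)⟩).map
    (MulAut.conj (B.α g)⁻¹).toMonoidHom
  simp only [MulEquiv.coe_toMonoidHom, MulAut.conj_apply, inv_inv] at key
  convert key using 1
  rw [map_mul B.α σ g, _root_.mul_inv_rev, hσinv]
  simp only [mul_assoc]

end four

section gens

variable [Fintype F]

theorem emb_fx_zero {p0 p1 : Fin m} (h01 : p0 ≠ p1) {u v : SpecialLinearGroup (Fin 2) F}
    (huv : Subgroup.closure ({Four.eps u, Four.eps v} : Set Sp4) = fx ({0} : Finset (Fin 2)))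
    {x : Sp} (hx : x ∈ fx (F := F) {p0}) :
    ∃ y ∈ Subgroup.closure ({Four.eps u, Four.eps v} : Set Sp4), emb (twoEmb p0 p1 h01) y = x := by
  have e : ({p0} : Finset (Fin m)) = ({0} : Finset (Fin 2)).map (twoEmb p0 p1 h01) := by
    rw [Finset.map_singleton]; rfl
  rw [e, ← map_fx, ← huv] at hx
  exact hx

theorem onP_emb {H : Type w} [Group H] {p0 p1 : Fin m} (h01 : p0 ≠ p1) (β : Sp4 →* H) (y : Sp4) {x : Sp}
    (e : emb (twoEmb p0 p1 h01) y = x) (hx : x ∈ fx (F := F) ({p0, p1} : Finset (Fin m))) :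
    onP h01 β ⟨x, hx⟩ = β y := by
  have : (⟨x, hx⟩ : ↥(fx (F := F) ({p0, p1} : Finset (Fin m)))) = qP h01 y := Subtype.ext e.symm
  rw [this]
  exact congrArg β ((qP h01).symm_apply_apply y)

/-- Coherence of a conjugation is enough on generators. -/
theorem ok_closure {H : Type w} [Group H] {p0 p1 : Fin m} (h01 : p0 ≠ p1) (α : A →* H) (β : Sp4 →* H) (g : A)
    {Y : Set Sp4} (hY : ∀ y ∈ Y, Ok α (onP h01 β) g (emb (twoEmb p0 p1 h01) y)) {y : Sp4}
    (hy : y ∈ Subgroup.closure Y) : Ok α (onP h01 β) g (emb (twoEmb p0 p1 h01) y) := by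
  let P : Finset (Fin m) := {p0, p1}
  have hm : ∀ y : Sp4, emb (twoEmb p0 p1 h01) y ∈ fx (F := F) P := fun y => (qP h01 y).2
  let β' := onP (F := F) h01 β
  induction hy using Subgroup.closure_induction with
  | mem y h => exact hY y h
  | one =>
    simp only [map_one]
    refine ⟨one_mem _, by simp [one_mem], ?_⟩
    have e1 : ∀ (z : Sp) (hz : z ∈ fx (F := F) P), z = 1 → β' ⟨z, hz⟩ = 1 := fun z hz e => by
      subst e; exact map_one β'
    rw [e1 _ _ (by simp), e1 _ _ rfl]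
    simp
  | mul a b _ _ ha hb =>
    obtain ⟨xa, ya, ea⟩ := ha
    obtain ⟨xb, yb, eb⟩ := hb
    have e : pA g * emb (twoEmb p0 p1 h01) (a * b) * (pA g)⁻¹ =
        (pA g * emb (twoEmb p0 p1 h01) a * (pA g)⁻¹) * (pA g * emb (twoEmb p0 p1 h01) b * (pA g)⁻¹) := by
      rw [map_mul]; group
    refine ⟨hm _, e ▸ mul_mem ya yb, ?_⟩
    rw [show (⟨_, e ▸ mul_mem ya yb⟩ : ↥(fx (F := F) P)) = ⟨_, ya⟩ * ⟨_, yb⟩ from Subtype.ext e, map_mul, ea, eb,
      show (⟨emb (twoEmb p0 p1 h01) (a * b), hm _⟩ : ↥(fx (F := F) P)) = ⟨_, xa⟩ * ⟨_, xb⟩ from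
        Subtype.ext (map_mul _ a b), map_mul]
    group
  | inv a _ ha =>
    obtain ⟨xa, ya, ea⟩ := ha
    have e : pA g * emb (twoEmb p0 p1 h01) a⁻¹ * (pA g)⁻¹ = (pA g * emb (twoEmb p0 p1 h01) a * (pA g)⁻¹)⁻¹ := by
      rw [map_inv]; group
    refine ⟨hm _, e ▸ inv_mem ya, ?_⟩
    rw [show (⟨_, e ▸ inv_mem ya⟩ : ↥(fx (F := F) P)) = (⟨_, ya⟩)⁻¹ from Subtype.ext e, map_inv, ea,
      show (⟨emb (twoEmb p0 p1 h01) a⁻¹, hm _⟩ : ↥(fx (F := F) P)) = (⟨_, xa⟩)⁻¹ from
        Subtype.ext (map_inv _ a), map_inv]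
    group

/-- The relation prescribing a conjugate. -/
noncomputable def conjRel {p0 p1 : Fin m} (h01 : p0 ≠ p1) (g : A) (y : Sp4)
    (h : pA g * emb (twoEmb p0 p1 h01) y * (pA (F := F) g)⁻¹ ∈ fx (F := F) ({p0, p1} : Finset (Fin m))) :
    Coprod A Sp4 :=
  Coprod.inl g * Coprod.inr y * (Coprod.inl g)⁻¹ * (jP h01 ⟨_, h⟩)⁻¹

theorem conjRel_true {p0 p1 : Fin m} (h01 : p0 ≠ p1) (g : A) (y : Sp4)
    (h : pA g * emb (twoEmb p0 p1 h01) y * (pA (F := F) g)⁻¹ ∈ fx (F := F) ({p0, p1} : Finset (Fin m))) :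
    Coprod.lift (pA (F := F)) (emb (twoEmb p0 p1 h01)) (conjRel h01 g y h) = 1 := by
  rw [conjRel, map_mul, map_inv, true_jP, map_mul, map_mul, map_inv, Coprod.lift_apply_inl,
    Coprod.lift_apply_inr, mul_inv_cancel]

theorem conjRel_ok {H : Type w} [Group H] {p0 p1 : Fin m} (h01 : p0 ≠ p1) (α : A →* H) (β : Sp4 →* H) (g : A)
    (y : Sp4) (h : pA g * emb (twoEmb p0 p1 h01) y * (pA (F := F) g)⁻¹ ∈ fx (F := F) ({p0, p1} : Finset (Fin m)))
    (e : Coprod.lift α β (conjRel h01 g y h) = 1) : Ok α (onP h01 β) g (emb (twoEmb p0 p1 h01) y) := by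
  rw [conjRel, map_mul, map_inv, lift_jP, map_mul, map_mul, map_inv, Coprod.lift_apply_inl, Coprod.lift_apply_inr,
    mul_inv_eq_one] at e
  refine ⟨(qP h01 y).2, h, ?_⟩
  rw [← e]
  exact congrArg (fun t => α g * t * (α g)⁻¹) (onP_emb h01 β y rfl _).symm

theorem pres_four (hm : 4 ≤ m) {a kA : ℕ} (hA : PresN A a kA) {p0 p1 p2 p3 : Fin m} (h01 : p0 ≠ p1)
    (h02 : p0 ≠ p2) (h03 : p0 ≠ p3) (h12 : p1 ≠ p2) (h13 : p1 ≠ p3) (h23 : p2 ≠ p3)
    (c g1 τ σ : A) (hc0 : c.1 p0 = p1) (hc1 : c.1 p1 = p2) (hc2 : c.1 p2 = p0) (hg10 : g1.1 p0 = p0)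
    (hτ0 : τ.1 p0 = p1) (hτ1 : τ.1 p1 = p0) (hττ : τ * τ = 1) (hσσ : σ * σ = 1) (hσ0 : σ.1 p0 = p2)
    (hσ1 : σ.1 p1 = p3) (hσ2 : σ.1 p2 = p0) (hσ3 : σ.1 p3 = p1) (S : List A)
    (hSfix : ∀ g ∈ S, g.1 p0 = p0 ∧ g.1 p1 = p1)
    (hS : ∀ g : A, g.1 p0 = p0 → g.1 p1 = p1 → g ∈ Subgroup.closure {g : A | g ∈ S})
    (horb : ∀ a, a ≠ p0 → ∃ h ∈ Subgroup.closure {g : A | g ∈ g1 :: S}, h.1 p1 = a)
    (C : List A) (hC : Subgroup.normalClosure {g : A | g ∈ C} = ⊤) :
    PresN Sp (a + 6) (kA + 28 + (2 * S.length + 9 + C.length)) := by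
  classical
  obtain ⟨x, y, hxy⟩ := Four.two_gen (F := F)
  obtain ⟨u, v, huv⟩ := Four.fx_two_gen (F := F)
  let P : Finset (Fin m) := {p0, p1}
  let e := twoEmb p0 p1 h01
  have hP : ∀ z : Sp4, emb e z ∈ fx (F := F) P := fun z => (qP h01 z).2
  have hτP : ∀ z : Sp4, pA τ * emb e z * (pA (F := F) τ)⁻¹ ∈ fx (F := F) P := fun z =>
    pA_mem τ (by simp [P, hτ0, hτ1]) (hP z)
  have hσQ : ∀ z : Sp4, pA σ * emb e z * (pA (F := F) σ)⁻¹ ∈ fx (F := F) ({p2, p3} : Finset (Fin m)) := fun z =>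
    pA_mem σ (by simp [P, hσ0, hσ1]) (hP z)
  have hdisj : Disjoint P ({p2, p3} : Finset (Fin m)) := by
    simp [P, h02, h03, h12, h13, h02.symm, h03.symm, h12.symm, h13.symm]
  have hue : ∀ z : SpecialLinearGroup (Fin 2) F, emb e (Four.eps z) ∈ fx (F := F) ({p0} : Finset (Fin m)) := fun z => by
    have h0 : Four.eps z ∈ fx (F := F) ({0} : Finset (Fin 2)) := Four.eps_range (F := F) ▸ ⟨z, rfl⟩
    have := Subgroup.mem_map_of_mem (emb e) h0
    rw [map_fx, Finset.map_singleton] at this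
    exact this
  let σc : Sp4 → Coprod A Sp4 := fun z => Coprod.inl σ * Coprod.inr z * (Coprod.inl σ)⁻¹
  let E0 : List (Coprod A Sp4) :=
    (S.map fun s => ⁅(Coprod.inl s : Coprod A Sp4), Coprod.inr x⁆) ++
    (S.map fun s => ⁅(Coprod.inl s : Coprod A Sp4), Coprod.inr y⁆) ++
    [⁅Coprod.inl (N := Sp4) g1, Coprod.inr (Four.eps u)⁆, ⁅Coprod.inl (N := Sp4) g1, Coprod.inr (Four.eps v)⁆,
      conjRel h01 τ x (hτP x), conjRel h01 τ y (hτP y),
      ⁅(Coprod.inr (M := A)) x, σc x⁆, ⁅(Coprod.inr (M := A)) x, σc y⁆, ⁅(Coprod.inr (M := A)) y, σc y⁆]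
  refine (pres_core (by omega) hA (Four.pres (F := F)) h01 h02 h12 c hc0 hc1 hc2 C hC E0 ?_ ?_).mono
    (by simp [E0]; omega)
  · have fixc : ∀ (g : A) {s : Finset (Fin m)}, (∀ a ∈ s, g.1 a = a) → ∀ z, emb e z ∈ fx (F := F) s →
        Commute (pA g) (emb e z) := fun g s hg z hz => by
      have := pm_fix g hg hz
      rwa [mul_inv_eq_iff_eq_mul] at this
    intro w hw
    simp only [E0, List.mem_append, List.mem_map, List.mem_cons, List.not_mem_nil, or_false] at hw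
    rcases hw with (⟨g, hg, rfl⟩ | ⟨g, hg, rfl⟩) | hw
    · rw [map_commutatorElement, Coprod.lift_apply_inl, Coprod.lift_apply_inr,
        commutatorElement_eq_one_iff_commute]
      exact fixc g (s := P) (by simp [P, (hSfix g hg).1, (hSfix g hg).2]) x (hP x)
    · rw [map_commutatorElement, Coprod.lift_apply_inl, Coprod.lift_apply_inr,
        commutatorElement_eq_one_iff_commute]
      exact fixc g (s := P) (by simp [P, (hSfix g hg).1, (hSfix g hg).2]) y (hP y)
    rcases hw with rfl | rfl | rfl | rfl | rfl | rfl | rfl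
    · rw [map_commutatorElement, Coprod.lift_apply_inl, Coprod.lift_apply_inr,
        commutatorElement_eq_one_iff_commute]
      exact fixc g1 (s := {p0}) (by simp [hg10]) _ (hue u)
    · rw [map_commutatorElement, Coprod.lift_apply_inl, Coprod.lift_apply_inr,
        commutatorElement_eq_one_iff_commute]
      exact fixc g1 (s := {p0}) (by simp [hg10]) _ (hue v)
    · exact conjRel_true h01 τ x _
    · exact conjRel_true h01 τ y _
    all_goals
      rw [map_commutatorElement, commutatorElement_eq_one_iff_commute]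
      simp only [σc, map_mul, map_inv, Coprod.lift_apply_inl, Coprod.lift_apply_inr]
      exact fx_commute hdisj (hP _) (hσQ _)
  intro H _ α β hE
  have hc : ∀ g z, ⁅(Coprod.inl g : Coprod A Sp4), Coprod.inr z⁆ ∈ E0 → Commute (α g) (β z) := fun g z h => by
    have := hE _ h
    rwa [map_commutatorElement, Coprod.lift_apply_inl, Coprod.lift_apply_inr,
      commutatorElement_eq_one_iff_commute] at this
  have hβ' : ∀ (g : A), Commute (α g) (β x) → Commute (α g) (β y) → ∀ z, Commute (α g) (β z) := by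
    intro g hx hy z
    refine centralized β (S := {x, y}) ?_ (hxy ▸ Subgroup.mem_top z)
    rintro _ (rfl | rfl) <;> assumption
  have hPf : ∀ g : A, g.1 p0 = p0 → g.1 p1 = p1 → ∀ z, Commute (α g) (β z) := by
    intro g e0 e1 z
    have := centralized α (h := β z) (S := {g : A | g ∈ S}) (fun s hs => (hβ' s
      (hc s x (by simp only [E0, List.mem_append, List.mem_map]; exact Or.inl (Or.inl ⟨s, hs, rfl⟩)))
      (hc s y (by simp only [E0, List.mem_append, List.mem_map]; exact Or.inl (Or.inr ⟨s, hs, rfl⟩))) z).symm)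
      (hS g e0 e1)
    exact this.symm
  have h0gen : ∀ s ∈ g1 :: S, ∀ z ∈ Subgroup.closure ({Four.eps u, Four.eps v} : Set Sp4),
      Commute (α s) (β z) := by
    intro s hs z hz
    rcases List.mem_cons.1 hs with rfl | hs
    · refine centralized β ?_ hz
      rintro _ (rfl | rfl) <;> exact hc _ _ (by simp [E0])
    · exact hPf s (hSfix s hs).1 (hSfix s hs).2 z
  have hfix1 : ∀ g ∈ Subgroup.closure {g : A | g ∈ g1 :: S}, g.1 p0 = p0 := by
    intro g hg
    induction hg using Subgroup.closure_induction with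
    | mem g hg =>
      rcases List.mem_cons.1 hg with rfl | hg
      exacts [hg10, (hSfix g hg).1]
    | one => rfl
    | mul g h _ _ e1 e2 => show g.1 (h.1 p0) = p0; rw [e2, e1]
    | inv g _ e1 =>
      show g.1.symm p0 = p0
      rw [Equiv.symm_apply_eq, e1]
  have hall : ∀ g : A, g.1 p0 = p0 → g ∈ Subgroup.closure {g : A | g ∈ g1 :: S} := by
    intro g hg
    obtain ⟨h, hh, e1⟩ := horb (g.1 p1) (fun e => h01 (g.1.injective (hg.trans e.symm)))
    have e0 := hfix1 h hh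
    have : h⁻¹ * g ∈ Subgroup.closure {g : A | g ∈ g1 :: S} := by
      refine Subgroup.closure_mono (fun s (hs : s ∈ S) => List.mem_cons_of_mem _ hs) (hS _ ?_ ?_)
      · show h.1.symm (g.1 p0) = p0
        rw [hg, Equiv.symm_apply_eq, e0]
      · show h.1.symm (g.1 p1) = p1
        rw [Equiv.symm_apply_eq, e1]
    simpa using mul_mem hh this
  have hτok : ∀ X ∈ fx (F := F) P, Ok α (onP h01 β) τ X := by
    intro X hX
    have hX' : emb e ((qP h01).symm ⟨X, hX⟩) = X := emb_symm h01 ⟨X, hX⟩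
    rw [← hX']
    refine ok_closure h01 α β τ (Y := {x, y}) ?_ (hxy ▸ Subgroup.mem_top _)
    rintro _ (rfl | rfl)
    exacts [conjRel_ok h01 α β τ _ (hτP _) (hE _ (by simp [E0])), conjRel_ok h01 α β τ _ (hτP _) (hE _ (by simp [E0]))]
  refine ⟨coh_four h01 α (onP h01 β) τ hτ0 hτ1 hττ (fun g e0 e1 z => hPf g e0 e1 _)
    (fun g hg X hX => ?_) hτok, ?_⟩
  · obtain ⟨z, hz, ez⟩ := emb_fx_zero h01 huv hX
    rw [onP_emb h01 β z ez]
    exact (centralized α (h := β z) (fun s hs => (h0gen s hs z hz).symm) (hall g hg)).symm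
  · refine comm_four _ hm (p2 := p2) (p3 := p3) h01 h02 h03 h12 h13 h23 σ hσσ hσ2 hσ3 fun Y Z => ?_
    show Commute (β ((qP h01).symm Y)) (α σ * β ((qP h01).symm Z) * (α σ)⁻¹)
    have hinv : (α σ)⁻¹ = α σ := by rw [← map_inv, inv_eq_of_mul_eq_one_right hσσ]
    have cr : ∀ a b, ⁅Coprod.inr a, σc b⁆ ∈ E0 → Commute (β a) (α σ * β b * (α σ)⁻¹) := fun a b h => by
      have := hE _ h
      rw [map_commutatorElement, commutatorElement_eq_one_iff_commute] at this
      simpa only [σc, map_mul, map_inv, Coprod.lift_apply_inl, Coprod.lift_apply_inr] using this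
    have cxy := cr x y (by simp [E0])
    have cyx : Commute (β y) (α σ * β x * (α σ)⁻¹) := by
      have := (cxy.map (MulAut.conj (α σ)).toMonoidHom).symm
      simp only [MulEquiv.coe_toMonoidHom, MulAut.conj_apply] at this
      have e2 : α σ * (α σ * β y * (α σ)⁻¹) * (α σ)⁻¹ = β y := by
        rw [hinv, show α σ * (α σ * β y * α σ) * α σ = (α σ * α σ) * β y * (α σ * α σ) by group, ← map_mul, hσσ,
          map_one, one_mul, mul_one]
      rwa [e2] at this
    let ψ : Sp4 →* H := (MulAut.conj (α σ)).toMonoidHom.comp β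
    have hgen : ∀ a ∈ ({x, y} : Set Sp4), ∀ Z, Commute (β a) (ψ Z) := fun a ha Z => by
      refine centralized ψ (S := {x, y}) ?_ (hxy ▸ Subgroup.mem_top Z)
      rintro b (rfl | rfl) <;> rcases ha with rfl | rfl
      exacts [cr _ _ (by simp [E0]), cyx, cxy, cr _ _ (by simp [E0])]
    exact (centralized β (h := ψ _) (fun a ha => (hgen a ha _).symm) (hxy ▸ Subgroup.mem_top _)).symm

theorem pres_three {a kA : ℕ} (hA : PresN (alternatingGroup (Fin 3)) a kA) :
    PresN (symplecticGroup (Fin 3) F) (a + 6) (kA + 28 + 9) := by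
  classical
  obtain ⟨x, y, hxy⟩ := Four.two_gen (F := F)
  obtain ⟨u, v, huv⟩ := Four.fx_two_gen (F := F)
  have h01 : (0 : Fin 3) ≠ 1 := by decide
  let P : Finset (Fin 3) := {0, 1}
  let e := twoEmb (0 : Fin 3) 1 h01
  let c : alternatingGroup (Fin 3) := ⟨Equiv.swap 0 1 * Equiv.swap 1 2, by
    rw [Equiv.Perm.mem_alternatingGroup, map_mul, Equiv.Perm.sign_swap (by decide),
      Equiv.Perm.sign_swap (by decide)]; decide⟩
  have hc : c.1 0 = 1 ∧ c.1 1 = 2 ∧ c.1 2 = 0 := by decide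
  have hall : ∀ g : alternatingGroup (Fin 3), g = 1 ∨ g = c ∨ g = c⁻¹ := by decide
  have hP : ∀ z : Sp4, emb e z ∈ fx (F := F) P := fun z => (qP h01 z).2
  have hue : ∀ z : SpecialLinearGroup (Fin 2) F, emb e (Four.eps z) ∈ fx (F := F) ({0} : Finset (Fin 3)) :=
    fun z => by
    have h0 : Four.eps z ∈ fx (F := F) ({0} : Finset (Fin 2)) := Four.eps_range (F := F) ▸ ⟨z, rfl⟩
    have := Subgroup.mem_map_of_mem (emb e) h0
    rw [map_fx, Finset.map_singleton] at this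
    exact this
  have hcP : ∀ z, pA c * emb e (Four.eps z) * (pA (F := F) c)⁻¹ ∈ fx (F := F) P := fun z =>
    pA_mem c (fun k hk => by rw [Finset.mem_singleton] at hk; subst hk; simp [P, hc.1]) (hue z)
  have hcQ : ∀ z, pA c * emb e z * (pA (F := F) c)⁻¹ ∈ fx (F := F) ({1, 2} : Finset (Fin 3)) := fun z =>
    pA_mem c (by simp [P, hc.1, hc.2.1]) (hP z)
  let cc : Sp4 → Coprod (alternatingGroup (Fin 3)) Sp4 := fun z => Coprod.inl c * Coprod.inr z * (Coprod.inl c)⁻¹
  let E0 : List (Coprod (alternatingGroup (Fin 3)) Sp4) :=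
    [conjRel h01 c (Four.eps u) (hcP u), conjRel h01 c (Four.eps v) (hcP v),
      ⁅(Coprod.inr (M := alternatingGroup (Fin 3))) (Four.eps u), cc x⁆, ⁅(Coprod.inr (M := alternatingGroup (Fin 3))) (Four.eps u), cc y⁆,
      ⁅(Coprod.inr (M := alternatingGroup (Fin 3))) (Four.eps v), cc x⁆, ⁅(Coprod.inr (M := alternatingGroup (Fin 3))) (Four.eps v), cc y⁆]
  have hC : Subgroup.normalClosure {g : alternatingGroup (Fin 3) | g ∈ [c]} = ⊤ := by
    refine (Subgroup.eq_top_iff' _).2 fun g => ?_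
    have hm : c ∈ Subgroup.normalClosure {g : alternatingGroup (Fin 3) | g ∈ [c]} :=
      Subgroup.subset_normalClosure (by simp)
    rcases hall g with rfl | rfl | rfl
    exacts [one_mem _, hm, inv_mem hm]
  refine (pres_core le_rfl hA (Four.pres (F := F)) h01 (show (0 : Fin 3) ≠ 2 by decide) (show (1 : Fin 3) ≠ 2 by decide)
    c hc.1 hc.2.1 hc.2.2 [c] hC E0 ?_ ?_).mono (by simp [E0])
  · intro w hw
    simp only [E0, List.mem_cons, List.not_mem_nil, or_false] at hw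
    rcases hw with rfl | rfl | rfl | rfl | rfl | rfl
    · exact conjRel_true h01 c _ _
    · exact conjRel_true h01 c _ _
    all_goals
      rw [map_commutatorElement, commutatorElement_eq_one_iff_commute]
      simp only [cc, map_mul, map_inv, Coprod.lift_apply_inl, Coprod.lift_apply_inr]
      exact fx_commute (by decide) (hue _) (hcQ _)
  intro H _ α β hE
  have hok : ∀ X ∈ fx (F := F) ({0} : Finset (Fin 3)), Ok α (onP h01 β) c X := by
    intro X hX
    obtain ⟨z, hz, rfl⟩ := emb_fx_zero h01 huv hX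
    refine ok_closure h01 α β c ?_ hz
    rintro _ (rfl | rfl)
    exacts [conjRel_ok h01 α β c _ (hcP u) (hE _ (by simp [E0])), conjRel_ok h01 α β c _ (hcP v) (hE _ (by simp [E0]))]
  have hcoh : Coh α (onP h01 β) := coh_of_ok fun g t ht hg X hX => by
    rcases hall g with rfl | rfl | rfl
    · exact Ok.of_fix ht (fun a _ => rfl) hX (by rw [map_one]; exact Commute.one_left _)
    · have : t ⊆ {0} := fun k hk => by
        have key : ∀ k : Fin 3, k ∈ ({0, 1} : Finset (Fin 3)) → c.1 k ∈ ({0, 1} : Finset (Fin 3)) → k = 0 := by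
          decide
        exact Finset.mem_singleton.2 (key k (ht hk) (hg k hk))
      exact hok X (fx_mono this hX)
    · have : t ⊆ {1} := fun k hk => by
        have key : ∀ k : Fin 3, k ∈ ({0, 1} : Finset (Fin 3)) → (c⁻¹).1 k ∈ ({0, 1} : Finset (Fin 3)) → k = 1 := by
          decide
        exact Finset.mem_singleton.2 (key k (ht hk) (hg k hk))
      have hX' : pA c⁻¹ * X * (pA (F := F) c⁻¹)⁻¹ ∈ fx (F := F) ({0} : Finset (Fin 3)) :=
        pA_mem c⁻¹ (fun k hk => by rw [Finset.mem_singleton] at hk; subst hk; decide) (fx_mono this hX)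
      have h1 := (hok _ hX').inv
      rwa [map_inv, inv_inv, show pA c * ((pA c)⁻¹ * X * pA c) * (pA (F := F) c)⁻¹ = X by group] at h1
  refine ⟨hcoh, ?_⟩
  set B := mkBase le_rfl h01 α (onP h01 β) hcoh
  have cr : ∀ a b, ⁅Coprod.inr a, cc b⁆ ∈ E0 → Commute (β a) (α c * β b * (α c)⁻¹) := fun a b h => by
    have := hE _ h
    rw [map_commutatorElement, commutatorElement_eq_one_iff_commute] at this
    simpa only [cc, map_mul, map_inv, Coprod.lift_apply_inl, Coprod.lift_apply_inr] using this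
  let ψ : Sp4 →* H := (MulAut.conj (α c)).toMonoidHom.comp β
  have key : ∀ a ∈ Subgroup.closure ({Four.eps u, Four.eps v} : Set Sp4), ∀ Z, Commute (β a) (ψ Z) := by
    intro a ha Z
    refine (centralized β (h := ψ Z) (fun a ha => ?_) ha).symm
    refine (centralized ψ (S := {x, y}) ?_ (hxy ▸ Subgroup.mem_top Z)).symm
    rintro b (rfl | rfl) <;> rcases ha with rfl | rfl <;> exact cr _ _ (by simp [E0])
  have base : ∀ X Y, Commute (B.small {0} (by simp) X) (B.small ({1, 2} : Finset (Fin 3)) (by simp) Y) := by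
    intro X Y
    obtain ⟨z, hz, ez⟩ := emb_fx_zero h01 huv X.2
    have hg : ∀ k ∈ ({1, 2} : Finset (Fin 3)), (c⁻¹).1 k ∈ ({B.p0, B.p1} : Finset (Fin 3)) := by
      show ∀ k ∈ ({1, 2} : Finset (Fin 3)), (c⁻¹).1 k ∈ ({0, 1} : Finset (Fin 3))
      decide
    rw [show X = ⟨X.1, X.2⟩ from rfl, show Y = ⟨Y.1, Y.2⟩ from rfl, B.small_eq _ c⁻¹ hg, map_inv B.α, inv_inv,
      B.small_eq _ 1 (fun k hk => by rw [Finset.mem_singleton] at hk; subst hk; exact Finset.mem_insert_self _ _),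
      map_one B.α, inv_one, one_mul, mul_one]
    have e1 : pA (F := F) (1 : alternatingGroup (Fin 3)) * X.1 * (pA 1)⁻¹ = X.1 := by simp
    rw [show B.β ⟨_, pA_mem (1 : alternatingGroup (Fin 3)) (fun k hk => by
      rw [Finset.mem_singleton] at hk; subst hk; exact Finset.mem_insert_self _ _) X.2⟩ = β z from
        onP_emb h01 β z (ez.trans e1.symm) _]
    exact key z hz _
  intro s t hs ht hst X Y
  have split : ∀ s t : Finset (Fin 3), s.card ≤ 1 → t.card ≤ 2 → Disjoint s t → ∃ k, s ⊆ {k} ∧ k ∉ t := by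
    intro s t h1 h2 hd
    rcases Finset.eq_empty_or_nonempty s with rfl | ⟨k, hk⟩
    · obtain ⟨k, -, hk⟩ := Finset.exists_mem_notMem_of_card_lt_card (s := t) (t := Finset.univ)
        (by rw [Finset.card_univ, Fintype.card_fin]; omega)
      exact ⟨k, by simp, hk⟩
    · exact ⟨k, fun a ha => Finset.mem_singleton.2 (Finset.card_le_one.1 h1 a ha k hk),
        Finset.disjoint_left.1 hd hk⟩
  have main : ∀ s t : Finset (Fin 3), ∀ (hs : s.card ≤ 2) (ht : t.card ≤ 2), s.card ≤ 1 → Disjoint s t → ∀ X Y,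
      Commute (B.small s hs X) (B.small t ht Y) := by
    intro s t hs ht h1 hst X Y
    obtain ⟨k, hk, hkt⟩ := split s t h1 ht hst
    obtain ⟨g, hg⟩ := Alt.exists_move (α := Fin 3) (by simp) k 0
    have hgt : ∀ a ∈ t, g.1 a ∈ ({1, 2} : Finset (Fin 3)) := fun a ha => by
      have : g.1 a ≠ 0 := fun e => hkt (g.1.injective (e.trans hg.symm) ▸ ha)
      revert this
      generalize g.1 a = b
      revert b
      decide
    have hgs : ∀ a ∈ s, g.1 a ∈ ({0} : Finset (Fin 3)) := fun a ha => by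
      rw [Finset.mem_singleton.1 (hk ha)]; simp [hg]
    have := (base ⟨_, pA_mem g hgs X.2⟩ ⟨_, pA_mem g hgt Y.2⟩).map (MulAut.conj (B.α g)⁻¹).toMonoidHom
    rw [B.small_conj g hs _ hgs _ X.2, B.small_conj g ht _ hgt _ Y.2] at this
    simpa [MulAut.conj_apply, mul_assoc] using this
  have : s.card ≤ 1 ∨ t.card ≤ 1 := by
    have := Finset.card_union_of_disjoint hst
    have h3 := Finset.card_le_univ (s ∪ t)
    rw [Fintype.card_fin] at h3
    omega
  rcases this with h | h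
  · exact main s t hs ht h hst X Y
  · exact (main t s ht hs h hst.symm Y X).symm

end gens

end Cfsg.Agent.ShortPres.Symp
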