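import Cfsg.Prelude.Def_Classical
import Cfsg.Agent.Lib.ShortPres.Tracked
import Cfsg.Agent.Lib.Classical.Symplectic
import Mathlib

/-!
The centre of a symplectic group is cyclic.
-/

set_option autoImplicit false

namespace Cfsg.Agent.ShortPres.Symp

open Cfsg.Agent.ShortPres.Bound

universe u

variable {F : Type u} [Field F] [Fintype F] {m : ℕ}

theorem center_cyclic (hm : 1 ≤ m) : IsCyclic (Subgroup.center (Matrix.symplecticGroup (Fin m) F)) := by
  have h := Cfsg.Agent.Classical.Symplectic.natCard_center (F := F) hm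
  rcases (Nat.dvd_prime Nat.prime_two).1 (Nat.gcd_dvd_left 2 (Fintype.card F - 1)) with e | e <;> rw [e] at h
  · have := (Nat.card_eq_one_iff_unique.1 h).1
    exact isCyclic_of_subsingleton
  · have : Fact (Nat.Prime 2) := ⟨Nat.prime_two⟩
    exact isCyclic_of_prime_card h

theorem pres_psp (hm : 1 ≤ m) {g k : ℕ} (h : PresN (Matrix.symplecticGroup (Fin m) F) g k) :
    PresN (Cfsg.PSp m F) g (k + 1) :=
  h.mod_center (center_cyclic hm)

end Cfsg.Agent.ShortPres.Symp
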