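import Cfsg.Agent.Lib.ShortPres.SympAmalgam
import Mathlib

/-!
The cosets of the stabiliser of a vector: the amalgam maps isomorphically onto the symplectic group.
-/

set_option autoImplicit false
set_option linter.unusedSectionVars false

namespace Cfsg.Agent.ShortPres.Symp

open Matrix Cfsg.Agent.Forms.SympStd Cfsg.Agent.Classical.Symplectic Cfsg.Agent.SimpleFacts.SpMult.Levels
  Cfsg.Agent.SimpleFacts.SLnRootLifts Cfsg.Agent.SimpleFacts.SLnCosets Cfsg.Agent.SimpleFacts.SLnSystem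

universe u w

variable {F : Type u} [Field F] {m : ℕ} {H : Type w} [Group H]

local notation "Vec" => (Fin m ⊕ Fin m → F)
local notation "Mat" => Matrix (Fin m ⊕ Fin m) (Fin m ⊕ Fin m) F
local notation "Sp" => symplecticGroup (Fin m) F
local notation "f" => Cfsg.sympForm m F

theorem sum_eq_split {s : Finset (Fin m)} {i : Fin m} (hi : i ∉ s) {u u' v v' : Vec}
    (hu : u ∈ perp (off ({i} : Finset (Fin m)))) (hu' : u' ∈ perp (off ({i} : Finset (Fin m))))
    (hv : v ∈ perp (off s)) (hv' : v' ∈ perp (off s)) (h : u + v = u' + v') : u = u' ∧ v = v' := by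
  have key : ∀ k, u k = u' k := by
    intro k
    have h1 := congrFun h k
    rcases k with l | l <;> by_cases hl : l = i
    all_goals first
      | (subst hl; simpa [mem_sp.1 hv l hi, mem_sp.1 hv' l hi] using h1)
      | simp [mem_sp.1 hu l (by simpa using hl), mem_sp.1 hu' l (by simpa using hl)]
  obtain rfl := funext key
  exact ⟨rfl, add_left_cancel h⟩

theorem exists_split {s : Finset (Fin m)} {i : Fin m} {v : Vec} (hv : v ∈ perp (off s)) :
    ∃ u ∈ perp (off ({i} : Finset (Fin m))), ∃ w ∈ perp (off (s.erase i)), v = u + w := by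
  refine ⟨v (Sum.inl i) • bh i + v (Sum.inr i) • be i, add_mem (Submodule.smul_mem _ _ (bh_mem (by simp)))
    (Submodule.smul_mem _ _ (be_mem (by simp))), v - (v (Sum.inl i) • bh i + v (Sum.inr i) • be i),
    mem_sp.2 fun l hl => ?_, (add_sub_cancel _ _).symm⟩
  by_cases h : l = i
  · subst h; simp [be, bh]
  · simp [be, bh, h, mem_sp.1 hv l fun hl' => hl (Finset.mem_erase.2 ⟨h, hl'⟩)]

theorem exists_move {s : Finset (Fin m)} {v v' : Vec} (hv : v ∈ perp (off s)) (hne : v ≠ 0)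
    (hv' : v' ∈ perp (off s)) (hne' : v' ≠ 0) : ∃ A : ↥(fx (F := F) s), (A.1 : Mat) *ᵥ v = v' := by
  obtain ⟨A, hA, e⟩ := move_vec (good s) hv hne hv' hne'
  exact ⟨⟨A, hA⟩, e⟩

theorem img (A B : Sp) (v : Vec) : ((A * B : Sp) : Mat) *ᵥ v = (A : Mat) *ᵥ ((B : Mat) *ᵥ v) :=
  mul_mulVec_sp A B v

theorem mv_ne (A : Sp) {v : Vec} (h : v ≠ 0) : (A : Mat) *ᵥ v ≠ 0 := fun e => h (by
  have h1 := congrArg (fun w => ((A⁻¹ : Sp) : Mat) *ᵥ w) e
  rw [← img, inv_mul_cancel, Matrix.mulVec_zero] at h1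
  exact (one_mulVec v).symm.trans h1)

theorem gl_conj_mem' {g : SpecialLinearGroup (Fin m) F} {π : Equiv.Perm (Fin m)} {d : Fin m → F}
    (hg : IsMonomial g π d) {s t : Finset (Fin m)} (hst : ∀ a, π a ∈ s → a ∈ t) {A : Sp} (hA : A ∈ fx s) :
    (gl g)⁻¹ * A * gl g ∈ fx t := by
  refine mem_fx_of_fix fun l hl => ?_
  have hls : π l ∉ s := fun h => hl (hst l h)
  refine ⟨?_, ?_⟩
  · rw [img, img, gl_be hg, Matrix.mulVec_smul, fix_be hA hls, ← gl_be hg, ← img, inv_mul_cancel]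
    exact one_mulVec _
  · rw [img, img, gl_bh hg, Matrix.mulVec_smul, fix_bh hA hls, ← gl_bh hg, ← img, inv_mul_cancel]
    exact one_mulVec _

theorem wel_back {i j k : Fin m} (hij : i ≠ j) (hik : i ≠ k) (hjk : j ≠ k) :
    wel (F := F) i j = wel i k * (T j k (-1) * T k j 1 * T j k (-1)) * (wel i k)⁻¹ := by
  show T j i 1 * T i j (-1⁻¹) * T j i 1 = _
  rw [show wel (F := F) i k * (T j k (-1) * T k j 1 * T j k (-1)) * (wel i k)⁻¹ =
    (wel i k * T j k (-1 : F) * (wel i k)⁻¹) * (wel i k * T k j 1 * (wel i k)⁻¹) *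
      (wel i k * T j k (-1) * (wel i k)⁻¹) by group,
    wel_conj hik hjk, wel_conj hik hjk.symm]
  simp [hij.symm, hjk, hik.symm, Equiv.swap_apply_of_ne_of_ne]

namespace Data

variable (D : Data F m H)

theorem sg_comm_K {i : Fin m} {t : Finset (Fin m)} (hi : i ∉ t) (x : ↥(fx (F := F) {i})) {z : Sp × H}
    (hz : z ∈ D.K t) : Commute (D.sg i x) z := by
  refine (D.K_comm (fun y hy => ?_) hz).symm
  rcases hy with ⟨k, hk, g, rfl⟩ | ⟨a, ha, b, hb, hab, c, rfl⟩
  · exact (D.iota_comm _ _ (by simpa using fun (e : i = k) => hi (e ▸ hk)) x g).symm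
  · exact (D.sg_comm_T hab (fun (e : a = i) => hi (e ▸ ha)) (fun (e : b = i) => hi (e ▸ hb)) x c).symm

theorem wel_comm_K {i j : Fin m} (hij : i ≠ j) {t : Finset (Fin m)} (hi : i ∉ t) (hj : j ∉ t) {z : Sp × H}
    (hz : z ∈ D.K t) : Commute z (D.lh (wel i j)) ∧ ∀ c, Commute z (D.lh (T j i c)) := by
  have key : ∀ (a b : Fin m), a ≠ b → a ∉ t → b ∉ t → ∀ c, Commute z (D.lh (T a b c)) := by
    intro a b hab ha hb c
    refine D.K_comm (fun y hy => ?_) hz
    rcases hy with ⟨k, hk, g, rfl⟩ | ⟨a', ha', b', hb', hab', c', rfl⟩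
    · exact D.sg_comm_T hab (fun (e : a = k) => ha (e ▸ hk)) (fun (e : b = k) => hb (e ▸ hk)) g c
    · exact (show Commute (T a' b' c' : SpecialLinearGroup (Fin m) F) (T a b c) from
        T_comm hab' hab (fun (e : a' = b) => hb (e ▸ ha')) (fun (e : b' = a) => ha (e ▸ hb')) c' c).map D.lh
  refine ⟨?_, fun c => key j i hij.symm hj hi c⟩
  simp only [wel, wWord, map_mul]
  exact ((key j i hij.symm hj hi _).mul_right (key i j hij hi hj _)).mul_right (key j i hij.symm hj hi _)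

theorem dg_cong {i k : Fin m} {s : Finset (Fin m)} (hik : i ≠ k) (hk : k ∈ s) {x y : Sp × H}
    (hx : x ∈ (D.dg i k).range) (hy : y ∈ (D.dg i k).range)
    (h : (x.1 : Mat) *ᵥ be i = (y.1 : Mat) *ᵥ be i) : D.Cong i s x y := by
  refine D.dg_mem_P hik hk (mul_mem (inv_mem hy) hx) ?_
  rw [Prod.fst_mul, img, h, Prod.fst_inv, ← img, inv_mul_cancel]
  exact one_mulVec _

theorem K_le_P {i : Fin m} {s : Finset (Fin m)} {z : Sp × H} (hz : z ∈ D.K (s.erase i)) : D.Cong i s z 1 := by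
  show (1 : Sp × H)⁻¹ * z ∈ _
  rw [inv_one, one_mul]
  exact Subgroup.mem_sup_right hz

theorem Cong.right {i : Fin m} {s : Finset (Fin m)} {z : Sp × H} (hz : z ∈ D.K (s.erase i)) (x : Sp × H) :
    D.Cong i s (x * z) x := by
  simpa using (D.K_le_P hz).left D x

/-- What is shown for each set by induction. -/
structure Fine (s : Finset (Fin m)) : Prop where
  inj : ∀ x ∈ D.K s, x.1 = 1 → x.2 = 1
  trans : ∀ i ∈ s, ∀ v ∈ perp (off (F := F) s), v ≠ 0 → ∃ x ∈ D.K s, (x.1 : Mat) *ᵥ be i = v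
  stab : ∀ i ∈ s, ∀ x ∈ D.K s, (x.1 : Mat) *ᵥ be i = be i → x ∈ D.P i s

variable {D}

theorem base_range {i j : Fin m} (hij : i ≠ j) {b : Sp × H} (hb : b ∈ D.base i j) : b ∈ (D.dg i j).range := by
  rcases hb with rfl | rfl
  · exact D.dg_wel hij (by simp) (by simp)
  · exact D.dg_T hij.symm (by simp) (by simp) 1

theorem base_mem {i j : Fin m} {s : Finset (Fin m)} (hi : i ∈ s) (hj : j ∈ s) (hij : i ≠ j) {b : Sp × H}
    (hb : b ∈ D.base i j) : b ∈ D.K s := by
  rcases hb with rfl | rfl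
  exacts [D.wel_mem' hi hj hij, D.T_mem hj hi hij.symm 1]

/-- The stabiliser of the second vector slides past a base element. -/
theorem base_cong {i j : Fin m} {s : Finset (Fin m)} (hij : i ≠ j) (hj : j ∈ s) {b : Sp × H} (hb : b ∈ D.base i j)
    {p : Sp × H} (hp : p ∈ D.P j (s.erase i)) : D.Cong i s (p * b) b := by
  have hbr := base_range hij hb
  suffices h : D.P j (s.erase i) ≤ (D.P i s).comap (MulAut.conj b⁻¹).toMonoidHom by
    have := h hp
    show b⁻¹ * (p * b) ∈ _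
    simpa [mul_assoc] using this
  have fix : ∀ z ∈ D.K (s.erase i), Commute z b → b⁻¹ * z * b⁻¹⁻¹ ∈ D.P i s := fun z hz hc => by
    rw [inv_inv, mul_assoc, hc.eq, inv_mul_cancel_left]; exact Subgroup.mem_sup_right hz
  have mT : ∀ k ∈ (s.erase i).erase j, ∀ c, b⁻¹ * D.lh (T j k c) * b⁻¹⁻¹ ∈ D.P i s := by
    intro k hk c
    simp only [Finset.mem_erase] at hk
    obtain ⟨hkj, hki, hks⟩ := hk
    rcases hb with rfl | rfl
    · have e : wel i j * T i k (c : F) * (wel i j)⁻¹ = T j k c := by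
        rw [wel_conj hij hki.symm]
        simp [hkj, hki, Equiv.swap_apply_of_ne_of_ne]
      rw [← e, inv_inv, map_mul, map_mul, map_inv,
        show (D.lh (wel i j))⁻¹ * (D.lh (wel i j) * D.lh (T i k c) * (D.lh (wel i j))⁻¹) * D.lh (wel i j) =
          D.lh (T i k c) by group]
      exact Subgroup.mem_sup_left (D.T_mem_Q hki.symm (Finset.mem_erase.2 ⟨hki, hks⟩) c)
    · exact fix _ (D.T_mem (Finset.mem_erase.2 ⟨hij.symm, hj⟩) (Finset.mem_erase.2 ⟨hki, hks⟩) hkj.symm c)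
        ((show Commute (T j k c : SpecialLinearGroup (Fin m) F) (T j i 1) from
          T_comm hkj.symm hij.symm hij.symm hkj c 1).map D.lh)
  have mC : ∀ a, b⁻¹ * D.cen j a * b⁻¹⁻¹ ∈ D.P i s := by
    intro a
    rw [inv_inv]
    refine D.dg_mem_P hij hj (mul_mem (mul_mem (inv_mem hbr) (D.sg_dg (by simp) _)) hbr) ?_
    show ((b.1⁻¹ * un (be j) 0 a * b.1 : Sp) : Mat) *ᵥ be i = be i
    have hw : f (be j) (0 : Vec) = 0 := f_zero_right _
    have hbe : ((un (be j) 0 a : Sp) : Mat) *ᵥ ((b.1 : Mat) *ᵥ be i) = (b.1 : Mat) *ᵥ be i := by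
      have e1 : ((b.1 : Mat) *ᵥ be i) (Sum.inl j) = (0 : F) := by
        rcases hb with rfl | rfl
        · show (((gl (wel (F := F) i j) : Sp) : Mat) *ᵥ be i) (Sum.inl j) = 0
          rw [wel_be hij]; simp [be]
        · show (((gl (T j i (1 : F)) : Sp) : Mat) *ᵥ be i) (Sum.inl j) = 0
          rw [gl_T_be hij.symm]; simp [be]
      rw [un_mulVec hw, f_zero_right, f_be', e1]
      simp
    rw [img, img, hbe, ← img, inv_mul_cancel]
    exact one_mulVec _
  have hks' : ∀ {k}, k ∈ (s.erase i).erase j → k ≠ j ∧ k ≠ i := fun hk => by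
    simp only [Finset.mem_erase] at hk; exact ⟨hk.1, hk.2.1⟩
  rw [P, sup_le_iff, Q, K, Subgroup.closure_le, Subgroup.closure_le]
  constructor
  · rintro y (⟨a, rfl⟩ | ⟨k, hk, v, hv, a, rfl⟩)
    · exact mC a
    · obtain ⟨hkj, hki⟩ := hks' hk
      obtain ⟨x, y, e', he⟩ := D.q_split hkj.symm hv a
      obtain ⟨A, hA, hA'⟩ := exists_flip (F := F) k
      have hkA : D.sg k ⟨A, hA⟩ ∈ D.K (s.erase i) := D.sg_mem (Finset.mem_erase.1 hk).2 _
      have hAc : Commute (D.sg k ⟨A, hA⟩) b := by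
        rcases hb with rfl | rfl
        · simp only [wel, wWord, map_mul]
          exact ((D.sg_comm_T hij.symm hkj.symm hki.symm _ _).mul_right
            (D.sg_comm_T hij hki.symm hkj.symm _ _)).mul_right (D.sg_comm_T hij.symm hkj.symm hki.symm _ _)
        · exact D.sg_comm_T hij.symm hkj.symm hki.symm _ _
      rw [he, D.q_flip_other hkj.symm (A := ⟨A, hA⟩) hA' y]
      exact mul_mem (mul_mem (mT k hk x) (mul_mem (mul_mem (fix _ hkA hAc) (mT k hk y))
        (inv_mem (fix _ hkA hAc)))) (mC e')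
  · rintro y (⟨k, hk, g, rfl⟩ | ⟨a, ha, c', hc', hac, c, rfl⟩)
    · obtain ⟨hkj, hki⟩ := hks' hk
      refine fix _ (D.sg_mem (Finset.mem_erase.1 hk).2 _) ?_
      have hmem : D.sg k g ∈ D.K {k} := D.sg_mem (by simp) _
      have h := D.wel_comm_K hij (t := {k}) (by simpa using hki.symm) (by simpa using hkj.symm) hmem
      rcases hb with rfl | rfl
      exacts [h.1, h.2 1]
    · have hmem : D.lh (T a c' c) ∈ D.K ((s.erase i).erase j) := D.T_mem ha hc' hac c
      refine fix _ (D.K_mono (Finset.erase_subset _ _) hmem) ?_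
      have h := D.wel_comm_K hij (t := (s.erase i).erase j) (by simp) (by simp) hmem
      rcases hb with rfl | rfl
      exacts [h.1, h.2 1]

theorem base_img_wel {i j : Fin m} (hij : i ≠ j) : ((D.lh (wel i j)).1 : Mat) *ᵥ be i = be j :=
  wel_be hij

theorem base_img_T {i j : Fin m} (hij : i ≠ j) : ((D.lh (T j i (1 : F))).1 : Mat) *ᵥ be i = be i + be j := by
  show ((gl (T j i 1) : Sp) : Mat) *ᵥ be i = _
  rw [gl_T_be hij.symm]; simp

theorem sg_img {i : Fin m} (d : ↥(fx (F := F) {i})) :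
    (((D.sg i d).1 : Mat) *ᵥ be i) ∈ perp (off ({i} : Finset (Fin m))) :=
  fx_sp d.2 (be_mem (by simp))

theorem sg_fix_off {i : Fin m} (d : ↥(fx (F := F) {i})) {t : Finset (Fin m)} (hi : i ∉ t) {v : Vec}
    (hv : v ∈ perp (off t)) : ((D.sg i d).1 : Mat) *ᵥ v = v :=
  fix_outside d.2 fun k hk => by rw [Finset.mem_singleton.1 hk]; exact mem_sp.1 hv i hi

theorem rep_img {i j : Fin m} {s : Finset (Fin m)} (hij : i ≠ j) (hj : j ∈ s) (d : ↥(fx (F := F) {i})) {z : Sp × H}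
    (hz : z ∈ D.K (s.erase i)) :
    (((D.sg i d * z * D.lh (wel i j)).1 : Mat) *ᵥ be i = (z.1 : Mat) *ᵥ be j) ∧
      ((D.sg i d * z * D.lh (T j i 1)).1 : Mat) *ᵥ be i =
        ((D.sg i d).1 : Mat) *ᵥ be i + (z.1 : Mat) *ᵥ be j := by
  have hzf := D.K_fst hz
  have h1 : (z.1 : Mat) *ᵥ be j ∈ perp (off (s.erase i)) :=
    fx_sp hzf (be_mem (Finset.mem_erase.2 ⟨hij.symm, hj⟩))
  have h2 := sg_fix_off (D := D) d (Finset.notMem_erase i s) h1
  simp only [Prod.fst_mul, img, base_img_wel hij, base_img_T hij, Matrix.mulVec_add,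
    fix_be hzf (Finset.notMem_erase i s), h2, and_self]

theorem unique {i j : Fin m} {s : Finset (Fin m)} (hij : i ≠ j) (hj : j ∈ s) (ih : D.Fine (s.erase i))
    {r r' : Sp × H} (hr : r ∈ D.reps i j s) (hr' : r' ∈ D.reps i j s)
    (h : (r.1 : Mat) *ᵥ be i = (r'.1 : Mat) *ᵥ be i) : D.Cong i s r r' := by
  have hne' : i ∉ s.erase i := Finset.notMem_erase i s
  have hj' : j ∈ s.erase i := Finset.mem_erase.2 ⟨hij.symm, hj⟩
  have nz : ∀ {z : Sp × H}, (z.1 : Mat) *ᵥ be j ≠ 0 := fun {z} => mv_ne z.1 (be_ne j)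
  have nd : ∀ (d : ↥(fx (F := F) {i})), ((D.sg i d).1 : Mat) *ᵥ be i ≠ 0 := fun d => mv_ne _ (be_ne i)
  have hzm : ∀ {z : Sp × H}, z ∈ D.K (s.erase i) → (z.1 : Mat) *ᵥ be j ∈ perp (off (F := F) (s.erase i)) :=
    fun hz => fx_sp (D.K_fst hz) (be_mem hj')
  have move : ∀ {z z' b : Sp × H}, z ∈ D.K (s.erase i) → z' ∈ D.K (s.erase i) → b ∈ D.base i j →
      (z.1 : Mat) *ᵥ be j = (z'.1 : Mat) *ᵥ be j → D.Cong i s (z * b) (z' * b) := by
    intro z z' b hz hz' hb e
    have hp := ih.stab j hj' (z'⁻¹ * z) (mul_mem (inv_mem hz') hz) (by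
      rw [Prod.fst_mul, img, e, Prod.fst_inv, ← img, inv_mul_cancel]; exact one_mulVec _)
    have := (base_cong hij hj hb hp).left D z'
    rwa [show z' * (z'⁻¹ * z * b) = z * b by group] at this
  rcases hr with ⟨d, rfl⟩ | ⟨_, ⟨d, rfl⟩, z, hz, b, hb, rfl⟩ <;>
    rcases hr' with ⟨d', rfl⟩ | ⟨_, ⟨d', rfl⟩, z', hz', b', hb', rfl⟩
  · exact D.sg_mem_P (d'⁻¹ * d) (by
      show ((d'.1⁻¹ * d.1 : Sp) : Mat) *ᵥ be i = be i
      rw [img, show (d.1 : Mat) *ᵥ be i = (d'.1 : Mat) *ᵥ be i from h, ← img, inv_mul_cancel]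
      exact one_mulVec _) |> fun e => by
        show (D.sg i d')⁻¹ * D.sg i d ∈ _
        rwa [← map_inv, ← map_mul]
  · exfalso
    rcases hb' with rfl | rfl
    · rw [(rep_img hij hj d' hz').1, ← add_zero (((D.sg i d).1 : Mat) *ᵥ be i), ← zero_add ((z'.1 : Mat) *ᵥ be j)] at h
      exact nz (sum_eq_split hne' (sg_img d) (zero_mem _) (zero_mem _) (hzm hz') h).2.symm
    · rw [(rep_img hij hj d' hz').2, ← add_zero (((D.sg i d).1 : Mat) *ᵥ be i)] at h
      exact nz (sum_eq_split hne' (sg_img d) (sg_img d') (zero_mem _) (hzm hz') h).2.symm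
  · exfalso
    rcases hb with rfl | rfl
    · rw [(rep_img hij hj d hz).1, ← add_zero (((D.sg i d').1 : Mat) *ᵥ be i), ← zero_add ((z.1 : Mat) *ᵥ be j)] at h
      exact nz (sum_eq_split hne' (zero_mem _) (sg_img d') (hzm hz) (zero_mem _) h).2
    · rw [(rep_img hij hj d hz).2, ← add_zero (((D.sg i d').1 : Mat) *ᵥ be i)] at h
      exact nz (sum_eq_split hne' (sg_img d) (sg_img d') (hzm hz) (zero_mem _) h).2
  · rcases hb with rfl | rfl <;> rcases hb' with rfl | rfl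
    · rw [(rep_img hij hj d hz).1, (rep_img hij hj d' hz').1] at h
      have strip : ∀ (e : ↥(fx (F := F) {i})) {y : Sp × H}, y ∈ D.K (s.erase i) →
          D.Cong i s (D.sg i e * y * D.lh (wel i j)) (y * D.lh (wel i j)) := fun e y hy => by
        have hm : (gl (wel i j : SpecialLinearGroup (Fin m) F))⁻¹ * e.1 * gl (wel i j) ∈ fx ({j} : Finset (Fin m)) :=
          gl_conj_mem' (wel_monomial hij) (fun a ha => by
            rw [Finset.mem_singleton] at ha ⊢
            exact (Equiv.swap j i).injective (ha.trans (Equiv.swap_apply_left j i).symm)) e.2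
        have hbr : D.lh (wel i j) ∈ (D.dg i j).range := D.dg_wel hij (by simp) (by simp)
        have : (D.lh (wel i j))⁻¹ * D.sg i e * D.lh (wel i j) = D.sg j ⟨_, hm⟩ :=
          D.dg_ext (mul_mem (mul_mem (inv_mem hbr) (D.sg_dg (by simp) _)) hbr) (D.sg_dg (by simp) _) rfl
        rw [(D.sg_comm_K hne' e hy).eq, mul_assoc,
          show D.sg i e * D.lh (wel i j) = D.lh (wel i j) * D.sg j ⟨_, hm⟩ by rw [← this]; group, ← mul_assoc]
        exact Cong.right D (D.sg_mem hj' _) _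
      exact ((strip d hz).trans' D (move hz hz' (Or.inl rfl) h)).trans' D ((strip d' hz').symm' D)
    · exfalso
      rw [(rep_img hij hj d hz).1, (rep_img hij hj d' hz').2, ← zero_add ((z.1 : Mat) *ᵥ be j)] at h
      exact nd d' (sum_eq_split hne' (zero_mem _) (sg_img d') (hzm hz) (hzm hz') h).1.symm
    · exfalso
      rw [(rep_img hij hj d hz).2, (rep_img hij hj d' hz').1, ← zero_add ((z'.1 : Mat) *ᵥ be j)] at h
      exact nd d (sum_eq_split hne' (sg_img d) (zero_mem _) (hzm hz) (hzm hz') h).1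
    · rw [(rep_img hij hj d hz).2, (rep_img hij hj d' hz').2] at h
      obtain ⟨h1, h2⟩ := sum_eq_split hne' (sg_img d) (sg_img d') (hzm hz) (hzm hz') h
      obtain ⟨a, ha⟩ := D.sg_fix (d'⁻¹ * d) (by
        show ((d'.1⁻¹ * d.1 : Sp) : Mat) *ᵥ be i = be i
        rw [img, show (d.1 : Mat) *ᵥ be i = (d'.1 : Mat) *ᵥ be i from h1, ← img, inv_mul_cancel]
        exact one_mulVec _)
      have hd : D.Cong i s (D.sg i (d'⁻¹ * d) * D.lh (T j i 1)) (D.lh (T j i 1)) := by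
        have hB : D.lh (T j i (1 : F)) ∈ (D.dg i j).range := D.dg_T hij.symm (by simp) (by simp) 1
        refine D.dg_cong hij hj (mul_mem (D.sg_dg (by simp) _) hB) hB ?_
        rw [Prod.fst_mul, img, base_img_T hij, Matrix.mulVec_add,
          sg_fix_off (D := D) (d'⁻¹ * d) (t := {j}) (v := be j) (by simpa using hij) (be_mem (by simp))]
        congr 1
        show ((d'.1⁻¹ * d.1 : Sp) : Mat) *ᵥ be i = be i
        rw [img, show (d.1 : Mat) *ᵥ be i = (d'.1 : Mat) *ᵥ be i from h1, ← img, inv_mul_cancel]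
        exact one_mulVec _
      have e1 := ((move hz hz' (Or.inr rfl) h2).left D (D.sg i (d'⁻¹ * d))).trans' D
        (z := z' * D.lh (T j i 1)) (by
          rw [← mul_assoc, (D.sg_comm_K hne' _ hz').eq, mul_assoc]
          exact hd.left D z')
      have e2 := e1.left D (D.sg i d')
      rwa [show D.sg i d' * (D.sg i (d'⁻¹ * d) * (z * D.lh (T j i 1))) = D.sg i d * z * D.lh (T j i 1) by
        rw [map_mul, map_inv]; group, show D.sg i d' * (z' * D.lh (T j i 1)) = D.sg i d' * z' * D.lh (T j i 1) by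
        group] at e2

theorem cover {i j : Fin m} {s : Finset (Fin m)} (hij : i ≠ j) (hi : i ∈ s) (hj : j ∈ s) (ih : D.Fine (s.erase i))
    {v : Vec} (hv : v ∈ perp (off s)) (hne : v ≠ 0) :
    ∃ r ∈ D.reps i j s, r ∈ D.K s ∧ (r.1 : Mat) *ᵥ be i = v := by
  obtain ⟨u, hu, w, hw, rfl⟩ := exists_split (i := i) hv
  have hsg : ∀ d, D.sg i d ∈ D.K s := fun d => D.sg_mem hi d
  by_cases hw0 : w = 0
  · subst hw0
    obtain ⟨d, hd⟩ := exists_move (be_mem (Finset.mem_singleton_self i)) (be_ne i) hu (by simpa using hne)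
    exact ⟨_, Or.inl ⟨d, rfl⟩, hsg d, by rw [add_zero]; exact hd⟩
  obtain ⟨z, hz, hzw⟩ := ih.trans j (Finset.mem_erase.2 ⟨hij.symm, hj⟩) w hw hw0
  have hzs : z ∈ D.K s := D.K_mono (Finset.erase_subset _ _) hz
  by_cases hu0 : u = 0
  · subst hu0
    refine ⟨D.sg i 1 * z * D.lh (wel i j), Or.inr ⟨_, ⟨1, rfl⟩, z, hz, _, Or.inl rfl, rfl⟩,
      mul_mem (mul_mem (hsg 1) hzs) (D.wel_mem' hi hj hij), ?_⟩
    rw [(rep_img hij hj 1 hz).1, hzw, zero_add]
  · obtain ⟨d, hd⟩ := exists_move (be_mem (Finset.mem_singleton_self i)) (be_ne i) hu hu0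
    refine ⟨D.sg i d * z * D.lh (T j i 1), Or.inr ⟨_, ⟨d, rfl⟩, z, hz, _, Or.inr rfl, rfl⟩,
      mul_mem (mul_mem (hsg d) hzs) (D.T_mem hj hi hij.symm 1), ?_⟩
    rw [(rep_img hij hj d hz).2, hzw, show ((D.sg i d).1 : Mat) *ᵥ be i = u from hd]

/-- An element of two pairs reduces to a representative. -/
theorem two {i j : Fin m} {s : Finset (Fin m)} (hij : i ≠ j) (hj : j ∈ s) {x : Sp × H}
    (hx : x ∈ (D.dg i j).range) : ∃ r ∈ D.reps i j s, D.Cong i s x r := by
  obtain ⟨g, rfl⟩ := hx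
  have hv : (g.1 : Mat) *ᵥ be i ∈ perp (off ({i, j} : Finset (Fin m))) := fx_sp g.2 (be_mem (by simp))
  have hne : (g.1 : Mat) *ᵥ be i ≠ 0 := mv_ne _ (be_ne i)
  obtain ⟨u, hu, w, hw, huw⟩ := exists_split (i := i) hv
  rw [show ({i, j} : Finset (Fin m)).erase i = {j} by simp [Finset.erase_insert, hij]] at hw
  by_cases hw0 : w = 0
  · rw [hw0, add_zero] at huw
    obtain ⟨d, hd⟩ := exists_move (be_mem (Finset.mem_singleton_self i)) (be_ne i) hu (huw ▸ hne)
    exact ⟨_, Or.inl ⟨d, rfl⟩, D.dg_cong hij hj ⟨g, rfl⟩ (D.sg_dg (by simp) d) (huw.trans hd.symm)⟩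
  obtain ⟨h, hh⟩ := exists_move (be_mem (Finset.mem_singleton_self j)) (be_ne j) hw hw0
  have hz : D.sg j h ∈ D.K (s.erase i) := D.sg_mem (Finset.mem_erase.2 ⟨hij.symm, hj⟩) h
  by_cases hu0 : u = 0
  · refine ⟨D.sg i 1 * D.sg j h * D.lh (wel i j), Or.inr ⟨_, ⟨1, rfl⟩, _, hz, _, Or.inl rfl, rfl⟩,
      D.dg_cong hij hj ⟨g, rfl⟩ (mul_mem (mul_mem (D.sg_dg (by simp) _) (D.sg_dg (by simp) _))
        (D.dg_wel hij (by simp) (by simp))) ?_⟩
    rw [(rep_img hij hj 1 hz).1]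
    show (g.1 : Mat) *ᵥ be i = (h.1 : Mat) *ᵥ be j
    rw [huw, hu0, zero_add, hh]
  · obtain ⟨d, hd⟩ := exists_move (be_mem (Finset.mem_singleton_self i)) (be_ne i) hu hu0
    refine ⟨D.sg i d * D.sg j h * D.lh (T j i 1), Or.inr ⟨_, ⟨d, rfl⟩, _, hz, _, Or.inr rfl, rfl⟩,
      D.dg_cong hij hj ⟨g, rfl⟩ (mul_mem (mul_mem (D.sg_dg (by simp) _) (D.sg_dg (by simp) _))
        (D.dg_T hij.symm (by simp) (by simp) 1)) ?_⟩
    rw [(rep_img hij hj d hz).2]
    show (g.1 : Mat) *ᵥ be i = (d.1 : Mat) *ᵥ be i + (h.1 : Mat) *ᵥ be j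
    rw [huw, hd, hh]

/-- The representatives in which a third pair carries the image. -/
def form (i j k : Fin m) (d : ↥(fx (F := F) {i})) (c : ↥(fx (F := F) {j})) (z : Sp × H) (ε δ : F) : Sp × H :=
  D.sg i d * D.sg j c * z * (D.lh (T j k ε) * (D.lh (T i k δ) * D.lh (wel i k)))

theorem form_cong {i j k : Fin m} {s : Finset (Fin m)} (hij : i ≠ j) (hj : j ∈ s) (hik : i ≠ k) (hjk : j ≠ k)
    (hk : k ∈ s) (d : ↥(fx (F := F) {i})) (c : ↥(fx (F := F) {j})) {z : Sp × H}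
    (hz : z ∈ D.K ((s.erase i).erase j)) (ε δ : F) :
    ∃ r ∈ D.reps i j s, D.Cong i s (form (D := D) i j k d c z ε δ) r := by
  have hne' : i ∉ s.erase i := Finset.notMem_erase i s
  have hj' : j ∈ s.erase i := Finset.mem_erase.2 ⟨hij.symm, hj⟩
  have hk' : k ∈ s.erase i := Finset.mem_erase.2 ⟨hik.symm, hk⟩
  have hw : D.lh (wel j k) ∈ D.K (s.erase i) := D.wel_mem' hj' hk' hjk
  obtain ⟨d0, b0, hb0, hy⟩ : ∃ d0 : ↥(fx (F := F) {i}), ∃ b0 ∈ D.base i j,
      D.Cong i s (D.lh (T i k δ) * D.lh (wel i k)) (D.sg i d0 * (D.lh (wel j k) * b0)) := by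
    by_cases hδ : δ = 0
    · refine ⟨1, _, Or.inl rfl, ?_⟩
      subst hδ
      rw [T_zero, map_one, map_one, one_mul, one_mul, ← wel_conj_wel hij hik hjk, map_mul, map_mul, map_inv]
      exact Cong.right D (inv_mem hw) _
    · obtain ⟨d0, hd0⟩ := exists_move (be_mem (Finset.mem_singleton_self i)) (be_ne i)
        (Submodule.smul_mem _ δ (be_mem (Finset.mem_singleton_self i))) (smul_ne_zero hδ (be_ne (F := F) i))
      refine ⟨d0, _, Or.inr rfl, ?_⟩
      have e : wel (F := F) j k * T j i 1 * (wel j k)⁻¹ = T k i 1 := by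
        rw [wel_conj hjk hij.symm]
        simp [hij, hik, Equiv.swap_apply_of_ne_of_ne]
      have h1 : D.Cong i s (D.sg i d0 * D.lh (T k i 1)) (D.sg i d0 * (D.lh (wel j k) * D.lh (T j i 1))) := by
        refine Cong.left D ?_ _
        rw [← e, map_mul, map_mul, map_inv]
        exact Cong.right D (inv_mem hw) _
      refine Cong.trans' D (D.dg_cong hik hk ?_ ?_ ?_) h1
      · exact mul_mem (D.dg_T hik (by simp) (by simp) _) (D.dg_wel hik (by simp) (by simp))
      · exact mul_mem (D.sg_dg (by simp) _) (D.dg_T hik.symm (by simp) (by simp) _)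
      · rw [Prod.fst_mul, Prod.fst_mul, img, img, base_img_wel hik, base_img_T hik, Matrix.mulVec_add,
          sg_fix_off (D := D) d0 (t := {k}) (v := be k) (by simpa using hik) (be_mem (by simp)),
          show ((D.sg i d0).1 : Mat) *ᵥ be i = δ • be i from hd0]
        show ((gl (T i k δ) : Sp) : Mat) *ᵥ be k = _
        rw [gl_T_be hik]
        simp [add_comm]
  have hz0 : D.sg j c * z * D.lh (T j k ε) ∈ D.K (s.erase i) :=
    mul_mem (mul_mem (D.sg_mem hj' c) (D.K_mono (Finset.erase_subset _ _) hz)) (D.T_mem hj' hk' hjk ε)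
  refine ⟨D.sg i (d * d0) * (D.sg j c * z * D.lh (T j k ε) * D.lh (wel j k)) * b0,
    Or.inr ⟨_, ⟨_, rfl⟩, _, mul_mem hz0 hw, b0, hb0, rfl⟩, ?_⟩
  have := hy.left D (D.sg i d * (D.sg j c * z * D.lh (T j k ε)))
  rw [show D.sg i d * (D.sg j c * z * D.lh (T j k ε)) * (D.sg i d0 * (D.lh (wel j k) * b0)) =
    D.sg i (d * d0) * (D.sg j c * z * D.lh (T j k ε) * D.lh (wel j k)) * b0 by
      rw [map_mul, ← mul_assoc _ (D.sg i d0), mul_assoc (D.sg i d),
        ← (D.sg_comm_K hne' d0 hz0).eq]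
      group] at this
  convert this using 1
  simp only [form]
  group

/-- Every representative is of the third kind or lies in two pairs. -/
theorem reps_cases {i j : Fin m} {s : Finset (Fin m)} (hij : i ≠ j) (hi : i ∈ s) (hj : j ∈ s)
    (ih : D.Fine (s.erase i)) (ih' : D.Fine ((s.erase i).erase j)) {k : Fin m} (hk : k ∈ (s.erase i).erase j)
    {r : Sp × H} (hr : r ∈ D.reps i j s) :
    (∃ y ∈ (D.dg i j).range, D.Cong i s r y) ∨
      ∃ d c, ∃ z ∈ D.K ((s.erase i).erase j), ∃ ε δ, D.Cong i s r (form (D := D) i j k d c z ε δ) := by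
  obtain ⟨hkj, hki, hks⟩ : k ≠ j ∧ k ≠ i ∧ k ∈ s := by simpa [Finset.mem_erase] using hk
  have hne' : i ∉ s.erase i := Finset.notMem_erase i s
  have hj' : j ∈ s.erase i := Finset.mem_erase.2 ⟨hij.symm, hj⟩
  have hk' : k ∈ s.erase i := Finset.mem_erase.2 ⟨hki, hks⟩
  rcases hr with ⟨d, rfl⟩ | ⟨_, ⟨d, rfl⟩, z, hz, b, hb, rfl⟩
  · exact Or.inl ⟨_, D.sg_dg (by simp) d, Cong.rfl' D _⟩
  have hzm : (z.1 : Mat) *ᵥ be j ∈ perp (off (s.erase i)) := fx_sp (D.K_fst hz) (be_mem hj')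
  obtain ⟨u, hu, w, hw, huw⟩ := exists_split (i := j) hzm
  have slide : ∀ {z2 : Sp × H}, z2 ∈ D.K (s.erase i) → (z2.1 : Mat) *ᵥ be j = (z.1 : Mat) *ᵥ be j →
      D.Cong i s (D.sg i d * z * b) (D.sg i d * (z2 * b)) := by
    intro z2 hz2 e
    have hp := ih.stab j hj' (z2⁻¹ * z) (mul_mem (inv_mem hz2) hz) (by
      rw [Prod.fst_mul, img, ← e, Prod.fst_inv, ← img, inv_mul_cancel]; exact one_mulVec _)
    have := (base_cong hij hj hb hp).left D (D.sg i d * z2)
    rwa [show D.sg i d * z2 * (z2⁻¹ * z * b) = D.sg i d * z * b by group,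
      show D.sg i d * z2 * b = D.sg i d * (z2 * b) by group] at this
  by_cases hw0 : w = 0
  · rw [hw0, add_zero] at huw
    have hune : u ≠ 0 := huw ▸ mv_ne z.1 (be_ne j)
    obtain ⟨h, hh⟩ := exists_move (be_mem (Finset.mem_singleton_self j)) (be_ne j) hu hune
    exact Or.inl ⟨_, mul_mem (D.sg_dg (by simp) _) (mul_mem (D.sg_dg (by simp) h) (base_range hij hb)),
      slide (D.sg_mem hj' h) (hh.trans huw.symm)⟩
  refine Or.inr ?_
  obtain ⟨z2, hz2, hz2w⟩ := ih'.trans k hk w hw hw0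
  have hz2' : z2 ∈ D.K (s.erase i) := D.K_mono (Finset.erase_subset _ _) hz2
  obtain ⟨c, ε, hc⟩ : ∃ (c : ↥(fx (F := F) {j})) (ε : F), (c.1 : Mat) *ᵥ (ε • be j) = u := by
    by_cases hu0 : u = 0
    · exact ⟨1, 0, by simp [hu0]⟩
    · obtain ⟨c, hc⟩ := exists_move (be_mem (Finset.mem_singleton_self j)) (be_ne j) hu hu0
      exact ⟨c, 1, by rw [one_smul]; exact hc⟩
  set X := D.sg j c * z2 * D.lh (T j k ε) * D.lh (wel j k) with hX
  have hXm : X ∈ D.K (s.erase i) :=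
    mul_mem (mul_mem (mul_mem (D.sg_mem hj' c) hz2') (D.T_mem hj' hk' hkj.symm ε)) (D.wel_mem' hj' hk' hkj.symm)
  have hXe : (X.1 : Mat) *ᵥ be j = (z.1 : Mat) *ᵥ be j := by
    rw [huw, hX, Prod.fst_mul, Prod.fst_mul, Prod.fst_mul, img, img, img, base_img_wel hkj.symm]
    show (c.1 : Mat) *ᵥ ((z2.1 : Mat) *ᵥ (((gl (T j k ε) : Sp) : Mat) *ᵥ be k)) = _
    rw [gl_T_be hkj.symm, if_pos rfl, Matrix.mulVec_add, hz2w, Matrix.mulVec_smul,
      fix_be (D.K_fst hz2) (Finset.notMem_erase j _), Matrix.mulVec_add, hc,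
      fix_outside c.2 (fun l hl => by rw [Finset.mem_singleton.1 hl]; exact mem_sp.1 hw j (Finset.notMem_erase j _)),
      add_comm]
  have hX' := slide hXm hXe
  rcases hb with rfl | rfl
  · have e : D.lh (wel j k) * D.lh (wel i j) = D.lh (wel i k) * D.lh (wel (F := F) j k) := by
      rw [← map_mul, ← map_mul, ← wel_conj_wel hij hki.symm hkj.symm]
      congr 1
      group
    refine ⟨d, c, z2, hz2, ε, 0, hX'.trans' D ?_⟩
    rw [hX, show D.sg i d * (D.sg j c * z2 * D.lh (T j k ε) * D.lh (wel j k) * D.lh (wel i j)) =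
      D.sg i d * D.sg j c * z2 * D.lh (T j k ε) * (D.lh (wel j k) * D.lh (wel i j)) by group, e]
    simp only [form, T_zero, map_one, one_mul]
    rw [← mul_assoc, ← mul_assoc (D.sg i d * D.sg j c * z2)]
    exact Cong.right D (D.wel_mem' hj' hk' hkj.symm) _
  · have e : D.lh (wel j k) * D.lh (T j i 1) = D.lh (T k i (1 : F)) * D.lh (wel (F := F) j k) := by
      rw [← map_mul, ← map_mul]
      congr 1
      have := wel_conj (F := F) (a := j) (b := k) hkj.symm hij.symm (1 : F)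
      simp only [Equiv.swap_apply_right, Equiv.swap_apply_of_ne_of_ne hki.symm hij, if_pos, if_neg hij,
        if_neg hki.symm, div_one, mul_one] at this
      rw [← this]
      group
    refine ⟨d, c, z2, hz2, ε, 1, hX'.trans' D ?_⟩
    rw [hX, show D.sg i d * (D.sg j c * z2 * D.lh (T j k ε) * D.lh (wel j k) * D.lh (T j i 1)) =
      D.sg i d * D.sg j c * z2 * D.lh (T j k ε) * (D.lh (wel j k) * D.lh (T j i 1)) by group, e, ← mul_assoc]
    refine (Cong.right D (D.wel_mem' hj' hk' hkj.symm) _).trans' D ?_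
    simp only [form]
    rw [← mul_assoc _ (D.lh (T j k ε)) (D.lh (T i k 1) * _)]
    refine Cong.left D (D.dg_cong hki.symm hks (D.dg_T hki (by simp) (by simp) 1)
      (mul_mem (D.dg_T hki.symm (by simp) (by simp) _) (D.dg_wel hki.symm (by simp) (by simp))) ?_) _
    rw [base_img_T hki.symm, Prod.fst_mul, img, base_img_wel hki.symm]
    show _ = ((gl (T i k 1) : Sp) : Mat) *ᵥ be k
    rw [gl_T_be hki.symm, if_pos rfl, one_smul, add_comm]

/-- The Weyl element permutes the representatives. -/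
theorem wel_act {i j : Fin m} {s : Finset (Fin m)} (hij : i ≠ j) (hi : i ∈ s) (hj : j ∈ s)
    (ih : D.Fine (s.erase i)) (ih' : D.Fine ((s.erase i).erase j)) {k : Fin m} (hk : k ∈ (s.erase i).erase j)
    {r : Sp × H} (hr : r ∈ D.reps i j s) : ∃ r' ∈ D.reps i j s, D.Cong i s (D.lh (wel i j) * r) r' := by
  obtain ⟨hkj, hki, hks⟩ : k ≠ j ∧ k ≠ i ∧ k ∈ s := by simpa [Finset.mem_erase] using hk
  rcases reps_cases hij hi hj ih ih' hk hr with ⟨y, hy, h⟩ | ⟨d, c, z, hz, ε, δ, h⟩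
  · obtain ⟨r', hr', h'⟩ := two (D := D) hij hj (mul_mem (D.dg_wel hij (by simp) (by simp)) hy)
    exact ⟨r', hr', (h.left D _).trans' D h'⟩
  set W := D.lh (wel (F := F) i j) with hW
  have hWr : W ∈ (D.dg i j).range := D.dg_wel hij (by simp) (by simp)
  have hd : gl (wel i j) * d.1 * (gl (wel i j))⁻¹ ∈ fx ({j} : Finset (Fin m)) :=
    gl_conj_mem (wel_monomial hij) (s := {i}) (fun a ha => by rw [Finset.mem_singleton.1 ha]; simp) d.2
  have hc : gl (wel i j) * c.1 * (gl (wel i j))⁻¹ ∈ fx ({i} : Finset (Fin m)) :=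
    gl_conj_mem (wel_monomial hij) (s := {j}) (fun a ha => by rw [Finset.mem_singleton.1 ha]; simp) c.2
  have ed : W * D.sg i d * W⁻¹ = D.sg j ⟨_, hd⟩ :=
    D.dg_ext (mul_mem (mul_mem hWr (D.sg_dg (by simp) _)) (inv_mem hWr)) (D.sg_dg (by simp) _) rfl
  have ec : W * D.sg j c * W⁻¹ = D.sg i ⟨_, hc⟩ :=
    D.dg_ext (mul_mem (mul_mem hWr (D.sg_dg (by simp) _)) (inv_mem hWr)) (D.sg_dg (by simp) _) rfl
  have hdc : Commute (D.sg j ⟨_, hd⟩) (D.sg i ⟨_, hc⟩) :=
    D.iota_comm _ _ (by simpa using hij.symm) _ _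
  have ez : Commute z W := (D.wel_comm_K hij (by simp) (by simp) hz).1
  have e1 : wel i j * T j k ε * (wel (F := F) i j)⁻¹ = T i k (-ε) := by
    rw [wel_conj hij hkj.symm]; simp [hki, hkj, hij.symm, Equiv.swap_apply_of_ne_of_ne]
  have e2 : wel i j * T i k δ * (wel (F := F) i j)⁻¹ = T j k δ := by
    rw [wel_conj hij hki.symm]; simp [hki, hkj, Equiv.swap_apply_of_ne_of_ne]
  have e1' : W * D.lh (T j k ε) * W⁻¹ = D.lh (T i k (-ε)) := by rw [hW, ← map_inv, ← map_mul, ← map_mul, e1]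
  have e2' : W * D.lh (T i k δ) * W⁻¹ = D.lh (T j k δ) := by rw [hW, ← map_inv, ← map_mul, ← map_mul, e2]
  set U := D.lh (T j k (-1)) * D.lh (T k j 1) * D.lh (T j k (-1 : F)) with hU
  have hUm : U ∈ D.K (s.erase i) :=
    have hj' : j ∈ s.erase i := Finset.mem_erase.2 ⟨hij.symm, hj⟩
    have hk' : k ∈ s.erase i := Finset.mem_erase.2 ⟨hki, hks⟩
    mul_mem (mul_mem (D.T_mem hj' hk' hkj.symm _) (D.T_mem hk' hj' hkj _)) (D.T_mem hj' hk' hkj.symm _)
  have e3 : W * D.lh (wel i k) = D.lh (wel i k) * U := by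
    rw [hW, hU, ← map_mul, ← map_mul, ← map_mul, ← map_mul, wel_back hij hki.symm hkj.symm]
    congr 1
    group
  obtain ⟨r', hr', h'⟩ := form_cong (D := D) hij hj hki.symm hkj.symm hks ⟨_, hc⟩ ⟨_, hd⟩ hz δ (-ε)
  refine ⟨r', hr', (h.left D W).trans' D (Cong.trans' D ?_ h')⟩
  have e : W * form (D := D) i j k d c z ε δ = form (D := D) i j k ⟨_, hc⟩ ⟨_, hd⟩ z δ (-ε) * U := by
    simp only [form]
    rw [show W * (D.sg i d * D.sg j c * z * (D.lh (T j k ε) * (D.lh (T i k δ) * D.lh (wel i k)))) =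
      (W * D.sg i d * W⁻¹) * (W * D.sg j c * W⁻¹) * (W * z) * (W⁻¹ * (W * D.lh (T j k ε) * W⁻¹) *
        (W * D.lh (T i k δ) * W⁻¹) * (W * D.lh (wel i k))) by group, ed, ec, ← ez.eq, hdc.eq, e1', e2', e3]
    rw [show ∀ A B C E Z : Sp × H, A * B * (Z * W) * (W⁻¹ * C * E * (D.lh (wel i k) * U)) =
      A * B * Z * ((C * E) * D.lh (wel i k)) * U from fun A B C E Z => by group,
      ((show Commute (T i k (-ε) : SpecialLinearGroup (Fin m) F) (T j k δ) from
        T_comm hki.symm hkj.symm hki.symm hkj (-ε) δ).map D.lh).eq]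
    group
  rw [e]
  exact Cong.right D hUm _

/-- Left multiplication by the group preserves the representatives. -/
theorem reduce {i j : Fin m} {s : Finset (Fin m)} (hij : i ≠ j) (hi : i ∈ s) (hj : j ∈ s)
    (ih : D.Fine (s.erase i)) (ih' : D.Fine ((s.erase i).erase j)) {k : Fin m} (hk : k ∈ (s.erase i).erase j)
    {x : Sp × H} (hx : x ∈ D.K s) : ∃ r ∈ D.reps i j s, D.Cong i s x r := by
  have hne' : i ∉ s.erase i := Finset.notMem_erase i s
  have hj' : j ∈ s.erase i := Finset.mem_erase.2 ⟨hij.symm, hj⟩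
  let S : Subgroup (Sp × H) :=
    { carrier := {g | g ∈ D.K s ∧ ∀ r ∈ D.reps i j s, ∃ r' ∈ D.reps i j s, D.Cong i s (g * r) r'}
      one_mem' := ⟨one_mem _, fun r hr => ⟨r, hr, by rw [one_mul]; exact Cong.rfl' D r⟩⟩
      mul_mem' := fun {a b} ha hb => ⟨mul_mem ha.1 hb.1, fun r hr => by
        obtain ⟨r1, h1, e1⟩ := hb.2 r hr
        obtain ⟨r2, h2, e2⟩ := ha.2 r1 h1
        exact ⟨r2, h2, by rw [mul_assoc]; exact (e1.left D a).trans' D e2⟩⟩
      inv_mem' := fun {a} ha => ⟨inv_mem ha.1, fun r hr => by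
        have hrK : r.1 ∈ fx s := by
          rcases hr with ⟨d, rfl⟩ | ⟨_, ⟨d, rfl⟩, z, hz, b, hb, rfl⟩
          · exact D.K_fst (D.sg_mem hi d)
          · exact D.K_fst (mul_mem (mul_mem (D.sg_mem hi d) (D.K_mono (Finset.erase_subset _ _) hz))
              (base_mem hi hj hij hb))
        have hg : (a⁻¹ * r).1 ∈ fx s := mul_mem (inv_mem (D.K_fst ha.1)) hrK
        obtain ⟨r0, hr0, -, e0⟩ := cover hij hi hj ih (v := ((a⁻¹ * r).1 : Mat) *ᵥ be i)
          (fx_sp hg (be_mem hi)) (mv_ne _ (be_ne i))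
        obtain ⟨r1, hr1, e1⟩ := ha.2 r0 hr0
        refine ⟨r0, hr0, ?_⟩
        have h2 : D.Cong i s (a * r0) r := e1.trans' D (unique hij hj ih hr1 hr (by
          rw [← e1.image D, Prod.fst_mul, img, e0, ← img, Prod.fst_mul, ← mul_assoc, Prod.fst_inv,
            mul_inv_cancel, one_mul]))
        have h3 := (h2.left D a⁻¹).symm' D
        rwa [inv_mul_cancel_left] at h3⟩ }
  suffices h : D.K s ≤ S by
    obtain ⟨r, hr, e⟩ := (h hx).2 1 (Or.inl ⟨1, map_one _⟩)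
    exact ⟨r, hr, by rwa [mul_one] at e⟩
  have hK' : ∀ g ∈ D.K (s.erase i), g ∈ S := by
    intro g hg
    refine ⟨D.K_mono (Finset.erase_subset _ _) hg, ?_⟩
    rintro r (⟨d, rfl⟩ | ⟨_, ⟨d, rfl⟩, z, hz, b, hb, rfl⟩)
    · refine ⟨_, Or.inl ⟨d, rfl⟩, ?_⟩
      rw [← (D.sg_comm_K hne' d hg).eq]
      exact Cong.right D hg _
    · refine ⟨_, Or.inr ⟨_, ⟨d, rfl⟩, g * z, mul_mem hg hz, b, hb, rfl⟩, ?_⟩
      rw [← mul_assoc, ← mul_assoc, ← (D.sg_comm_K hne' d hg).eq, mul_assoc _ g]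
      exact Cong.rfl' D _
  have hsg : ∀ d, D.sg i d ∈ S := by
    intro g
    refine ⟨D.sg_mem hi g, ?_⟩
    rintro r (⟨d, rfl⟩ | ⟨_, ⟨d, rfl⟩, z, hz, b, hb, rfl⟩)
    · exact ⟨_, Or.inl ⟨g * d, rfl⟩, by rw [map_mul]; exact Cong.rfl' D _⟩
    · exact ⟨_, Or.inr ⟨_, ⟨g * d, rfl⟩, z, hz, b, hb, rfl⟩, by
        rw [map_mul, ← mul_assoc, ← mul_assoc]; exact Cong.rfl' D _⟩
  have hW : D.lh (wel (F := F) i j) ∈ S :=
    ⟨D.wel_mem' hi hj hij, fun r hr => wel_act hij hi hj ih ih' hk hr⟩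
  have conjS : ∀ {w g : SpecialLinearGroup (Fin m) F}, D.lh w ∈ S → D.lh g ∈ S → D.lh (w * g * w⁻¹) ∈ S :=
    fun hw hg => by rw [map_mul, map_mul, map_inv]; exact mul_mem (mul_mem hw hg) (inv_mem hw)
  have hT1 : ∀ b ∈ (s.erase i).erase j, ∀ c, D.lh (T i b c) ∈ S ∧ D.lh (T b i c) ∈ S := by
    intro b hb c
    simp only [Finset.mem_erase] at hb
    obtain ⟨hbj, hbi, hbs⟩ := hb
    have hb' : b ∈ s.erase i := Finset.mem_erase.2 ⟨hbi, hbs⟩
    have e1 : wel i j * T j b (-c) * (wel (F := F) i j)⁻¹ = T i b c := by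
      rw [wel_conj hij hbj.symm]; simp [hbi, hbj, hij.symm, Equiv.swap_apply_of_ne_of_ne]
    have e2 : wel i j * T b j (-c) * (wel (F := F) i j)⁻¹ = T b i c := by
      rw [wel_conj hij hbj]; simp [hbi, hbj, hij.symm, Equiv.swap_apply_of_ne_of_ne]
    rw [← e1, ← e2]
    exact ⟨conjS hW (hK' _ (D.T_mem hj' hb' hbj.symm _)), conjS hW (hK' _ (D.T_mem hb' hj' hbj _))⟩
  have hT : ∀ b ∈ s.erase i, ∀ c, D.lh (T i b c) ∈ S ∧ D.lh (T b i c) ∈ S := by
    intro b hb c
    by_cases hbj : b = j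
    · subst hbj
      obtain ⟨hkj, hki, hks⟩ : k ≠ b ∧ k ≠ i ∧ k ∈ s := by simpa [Finset.mem_erase] using hk
      have e1 : wel b k * T i k (-c) * (wel (F := F) b k)⁻¹ = T i b c := by
        rw [wel_conj hkj.symm hki.symm]; simp [hij, hki.symm, hkj, Equiv.swap_apply_of_ne_of_ne]
      have e2 : wel b k * T k i (-c) * (wel (F := F) b k)⁻¹ = T b i c := by
        rw [wel_conj hkj.symm hki]; simp [hij, hki.symm, hkj, Equiv.swap_apply_of_ne_of_ne]
      have hw := hK' _ (D.wel_mem' hj' (Finset.mem_erase.2 ⟨hki, hks⟩) hkj.symm)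
      rw [← e1, ← e2]
      exact ⟨conjS hw (hT1 k hk _).1, conjS hw (hT1 k hk _).2⟩
    · exact hT1 b (Finset.mem_erase.2 ⟨hbj, hb⟩) c
  conv_lhs => rw [K]
  rw [Subgroup.closure_le]
  rintro y (⟨l, hl, g, rfl⟩ | ⟨a, ha, b, hb, hab, c, rfl⟩)
  · by_cases hli : l = i
    · subst hli; exact hsg g
    · exact hK' _ (D.sg_mem (Finset.mem_erase.2 ⟨hli, hl⟩) g)
  · by_cases hai : a = i
    · subst hai
      exact (hT b (Finset.mem_erase.2 ⟨hab.symm, hb⟩) c).1
    · by_cases hbi : b = i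
      · subst hbi
        exact (hT a (Finset.mem_erase.2 ⟨hai, ha⟩) c).2
      · exact hK' _ (D.T_mem (Finset.mem_erase.2 ⟨hai, ha⟩) (Finset.mem_erase.2 ⟨hbi, hb⟩) hab c)

theorem fine (s : Finset (Fin m)) : D.Fine s := by
  induction s using Finset.strongInduction with
  | H s ih =>
  have htr : ∀ i ∈ s, ∀ v ∈ perp (off (F := F) s), v ≠ 0 → ∃ x ∈ D.K s, (x.1 : Mat) *ᵥ be i = v := by
    intro i hi v hv hne
    by_cases h : ∃ j ∈ s, i ≠ j
    · obtain ⟨j, hj, hij⟩ := h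
      obtain ⟨r, -, hrK, e⟩ := cover hij hi hj (ih _ (Finset.erase_ssubset hi)) hv hne
      exact ⟨r, hrK, e⟩
    · push Not at h
      have hs : s ⊆ {i} := fun j hj => Finset.mem_singleton.2 (h j hj).symm
      obtain ⟨d, hd⟩ := exists_move (be_mem (Finset.mem_singleton_self i)) (be_ne i) (sp_mono hs hv) hne
      exact ⟨_, D.sg_mem hi d, hd⟩
  have hst : ∀ i ∈ s, ∀ x ∈ D.K s, (x.1 : Mat) *ᵥ be i = be i → x ∈ D.P i s := by
    intro i hi x hx hfix
    by_cases hc : s.card ≤ 2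
    · obtain ⟨g, rfl⟩ := D.K_le_iota hc hx
      by_cases h : ∃ j ∈ s, i ≠ j
      · obtain ⟨j, hj, hij⟩ := h
        have hs : s ⊆ {i, j} := by
          have : ({i, j} : Finset (Fin m)) = s := Finset.eq_of_subset_of_card_le
            (by simp [Finset.insert_subset_iff, hi, hj]) (by rw [Finset.card_pair hij]; exact hc)
          rw [this]
        exact D.dg_mem_P hij hj ⟨_, (D.iota_eq hc (c2 i j) hs g.1 g.2).symm⟩ hfix
      · push Not at h
        have hs : s ⊆ {i} := fun j hj => Finset.mem_singleton.2 (h j hj).symm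
        rw [show D.iota s hc g = D.sg i ⟨g.1, fx_mono hs g.2⟩ from D.iota_eq hc (c1 i) hs g.1 g.2]
        exact D.sg_mem_P _ hfix
    · obtain ⟨j, hj⟩ : (s.erase i).Nonempty := by
        rw [← Finset.card_pos, Finset.card_erase_of_mem hi]; omega
      obtain ⟨hji, hjs⟩ := Finset.mem_erase.1 hj
      obtain ⟨k, hk⟩ : ((s.erase i).erase j).Nonempty := by
        rw [← Finset.card_pos, Finset.card_erase_of_mem hj, Finset.card_erase_of_mem hi]; omega
      have ih1 := ih _ (Finset.erase_ssubset hi)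
      obtain ⟨r, hr, e⟩ := reduce hji.symm hi hjs ih1
        (ih _ ((Finset.erase_subset j _).trans_ssubset (Finset.erase_ssubset hi))) hk hx
      have h1 : D.Cong i s x 1 := e.trans' D (unique hji.symm hjs ih1 hr (Or.inl ⟨1, map_one _⟩) (by
        rw [← e.image D, hfix]; exact (one_mulVec _).symm))
      simpa [Cong] using h1
  refine ⟨fun x hx h1 => ?_, htr, hst⟩
  rcases s.eq_empty_or_nonempty with rfl | ⟨i, hi⟩
  · obtain ⟨g, rfl⟩ := D.K_le_iota (s := ∅) (by simp) hx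
    rw [show g = 1 from Subtype.ext h1, map_one]
    rfl
  · refine D.P_inj hi (ih _ (Finset.erase_ssubset hi)).inj x (hst i hi x hx ?_) h1
    rw [h1]; exact one_mulVec _

theorem onto (s : Finset (Fin m)) : ∀ A ∈ fx (F := F) s, ∃ x ∈ D.K s, x.1 = A := by
  induction s using Finset.strongInduction with
  | H s ih =>
  intro A hA
  rcases s.eq_empty_or_nonempty with rfl | ⟨i, hi⟩
  · exact ⟨1, one_mem _, by rw [fx_empty hA]; rfl⟩
  obtain ⟨x, hx, e⟩ := (fine (D := D) s).trans i hi ((A : Mat) *ᵥ be i) (fx_sp hA (be_mem hi)) (mv_ne A (be_ne i))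
  have hmem : x.1⁻¹ * A ∈ fx s := mul_mem (inv_mem (D.K_fst hx)) hA
  obtain ⟨v, hv, a, l, hl, eA⟩ := stab_decomp (pair s hi) (A := x.1⁻¹ * A) hmem (by
    rw [img, ← e, ← img, inv_mul_cancel]; exact one_mulVec _)
  rw [next_off hi] at hv hl
  obtain ⟨y, hy, ey⟩ := ih _ (Finset.erase_ssubset hi) l hl
  have hun : ∀ t ⊆ s.erase i, ∀ w ∈ perp (off (F := F) t), ∀ a, ∃ q ∈ D.K s, q.1 = (un (be i) w a : Sp) := by
    intro t
    induction t using Finset.induction_on with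
    | empty =>
      intro _ w hw a
      have hw0 : w = 0 := funext fun k => by
        rcases k with k | k
        exacts [(mem_sp.1 hw k (Finset.notMem_empty k)).1, (mem_sp.1 hw k (Finset.notMem_empty k)).2]
      exact ⟨D.cen i a, D.sg_mem hi _, by rw [hw0]; rfl⟩
    | @insert k t hk iht =>
      intro ht w hw a
      obtain ⟨hks, hts⟩ := Finset.insert_subset_iff.1 ht
      obtain ⟨hki, hks⟩ := Finset.mem_erase.1 hks
      have hit : i ∉ t := fun h => Finset.notMem_erase i s (hts h)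
      obtain ⟨u, hu, w', hw', rfl⟩ := exists_split (i := k) hw
      rw [Finset.erase_insert hk] at hw'
      obtain ⟨q', hq', eq'⟩ := iht hts w' hw' (a - f w' u)
      obtain ⟨x', y', b, eb⟩ := D.q_split hki.symm hu 0
      obtain ⟨B, hB, hB'⟩ := exists_flip (F := F) k
      rw [D.q_flip_other hki.symm (A := ⟨B, hB⟩) hB'] at eb
      refine ⟨D.q i k u hu 0 * q', mul_mem ?_ hq', ?_⟩
      · rw [eb]
        exact mul_mem (mul_mem (D.T_mem hi hks hki.symm _) (mul_mem (mul_mem (D.sg_mem hks _)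
          (D.T_mem hi hks hki.symm _)) (inv_mem (D.sg_mem hks _)))) (D.sg_mem hi _)
      · rw [Prod.fst_mul, eq']
        show un (be i) u 0 * un (be i) w' _ = _
        rw [un_mul (f_be_sp (by simpa using hki.symm) hu) (f_be_sp hit hw')]
        congr 1
        ring
  obtain ⟨q, hq, eq⟩ := hun _ subset_rfl v hv a
  refine ⟨x * (q * y), mul_mem hx (mul_mem hq (D.K_mono (Finset.erase_subset _ _) hy)), ?_⟩
  rw [Prod.fst_mul, Prod.fst_mul, eq, ey, ← eA, mul_inv_cancel_left]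

theorem mem_univ_fx (A : Sp) : A ∈ fx (F := F) (Finset.univ : Finset (Fin m)) :=
  mem_fx_of_fix fun j hj => absurd (Finset.mem_univ j) hj

variable (D) in
/-- Compatible homomorphisms extend to the whole group. -/
theorem exists_hom :
    ∃ φ : Sp →* H, (∀ g, φ (gl g) = D.lam g) ∧ ∀ k (x : ↥(fx (F := F) {k})), φ x = D.small {k} (c1 k) x := by
  have hinj := (fine (D := D) Finset.univ).inj
  let e : ↥(D.K Finset.univ) →* Sp := (MonoidHom.fst Sp H).comp (D.K Finset.univ).subtype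
  have he : Function.Bijective e := by
    refine ⟨(injective_iff_map_eq_one e).2 fun x hx => Subtype.ext (Prod.ext hx (hinj x.1 x.2 hx)), fun A => ?_⟩
    obtain ⟨x, hx, ex⟩ := onto (D := D) Finset.univ A (mem_univ_fx A)
    exact ⟨⟨x, hx⟩, ex⟩
  let E := MulEquiv.ofBijective e he
  let φ : Sp →* H := ((MonoidHom.snd Sp H).comp (D.K Finset.univ).subtype).comp E.symm.toMonoidHom
  have key : ∀ x ∈ D.K Finset.univ, φ x.1 = x.2 := fun x hx => by
    show (E.symm x.1).1.2 = x.2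
    rw [show x.1 = E ⟨x, hx⟩ from rfl, MulEquiv.symm_apply_apply]
  refine ⟨φ, fun g => ?_, fun k x => key _ (D.sg_mem (Finset.mem_univ k) x)⟩
  refine key (D.lh g) ?_
  have : g ∈ (D.K Finset.univ).comap D.lh := by
    rw [Classical.Linear.eq_top_of_transvection_mem ((D.K Finset.univ).comap D.lh) fun i j hij c => by
      rw [Subgroup.mem_comap, ← T_eq hij]
      exact D.T_mem (Finset.mem_univ i) (Finset.mem_univ j) hij c]
    exact Subgroup.mem_top g
  exact this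

end Data

end Cfsg.Agent.ShortPres.Symp
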