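import Cfsg.Agent.Lib.ShortPres.SympTransport
import Cfsg.Agent.Lib.ShortPres.AltFacts
import Cfsg.Agent.Lib.ShortPres.FourGen
import Mathlib

/-!
Symplectic groups glued from even permutations of the pairs and the group on two pairs.
-/

set_option autoImplicit false
set_option linter.unusedSectionVars false

namespace Cfsg.Agent.ShortPres.Symp

open Matrix Monoid Cfsg.Agent.ShortPres.Bound Cfsg.Agent.Forms.SympStd Cfsg.Agent.Classical.Symplectic
  Cfsg.Agent.SimpleFacts.SpMult.Levels Cfsg.Agent.SimpleFacts.SLnRootLifts Cfsg.Agent.SimpleFacts.SLnCosets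
open scoped commutatorElement

universe u w

variable {F : Type u} [Field F] {m : ℕ}

local notation "Sp" => symplecticGroup (Fin m) F
local notation "Mat" => Matrix (Fin m ⊕ Fin m) (Fin m ⊕ Fin m) F
local notation "Sp4" => symplecticGroup (Fin 2) F
local notation "A" => alternatingGroup (Fin m)

theorem pm_fix (g : A) {s : Finset (Fin m)} (h : ∀ a ∈ s, g.1 a = a) {x : Sp} (hx : x ∈ fx s) :
    pA g * x * (pA (F := F) g)⁻¹ = x := by
  have hg : pA (F := F) g ∈ fx (F := F) sᶜ := mem_fx_of_fix fun j hj => by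
    have hj' : j ∈ s := by simpa using hj
    have hm := permEl_monomial (F := F) g.1 (Equiv.Perm.mem_alternatingGroup.1 g.2)
    refine ⟨?_, ?_⟩
    · show ((gl (permEl g.1 (Equiv.Perm.mem_alternatingGroup.1 g.2)) : Sp) : Mat) *ᵥ be j = be j
      rw [gl_be hm, one_smul, h j hj']
    · show ((gl (permEl g.1 (Equiv.Perm.mem_alternatingGroup.1 g.2)) : Sp) : Mat) *ᵥ bh j = bh j
      rw [gl_bh hm, inv_one, one_smul, h j hj']
  rw [(fx_commute disjoint_compl_left hg hx).eq, mul_inv_cancel_right]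

theorem top_of_small [Finite F] (S : Subgroup Sp) (h : ∀ (s : Finset (Fin m)), s.card ≤ 2 → fx s ≤ S) : S = ⊤ := by
  let D : Data F m Sp := ⟨gl, fun s _ => (fx (F := F) s).subtype, fun s t hs ht hst g hg => rfl,
    fun s t _ _ hd x y => fx_commute hd x.2 y.2, fun s hs i j hij hi hj c => rfl⟩
  refine (Subgroup.eq_top_iff' S).2 fun X => ?_
  obtain ⟨x, hx, rfl⟩ := Data.onto (D := D) Finset.univ X (Data.mem_univ_fx X)
  refine (Subgroup.closure_le (K := S.comap (MonoidHom.fst Sp Sp))).2 ?_ hx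
  rintro y (⟨k, -, g, rfl⟩ | ⟨a, -, b, -, hab, c, rfl⟩)
  · exact h {k} (by simp) g.2
  · exact h {a, b} Finset.card_le_two (gl_T_mem hab c (by simp) (by simp))

/-- The two first pairs. -/
def twoEmb (p0 p1 : Fin m) (h : p0 ≠ p1) : Fin 2 ↪ Fin m :=
  ⟨![p0, p1], by intro a b e; fin_cases a <;> fin_cases b <;> simp [h, h.symm] at e ⊢⟩

theorem twoEmb_map {p0 p1 : Fin m} (h : p0 ≠ p1) :
    Finset.univ.map (twoEmb p0 p1 h) = ({p0, p1} : Finset (Fin m)) := by
  ext a
  simp only [Finset.mem_map, Finset.mem_univ, true_and, Fin.exists_fin_two, Finset.mem_insert, Finset.mem_singleton]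
  exact or_congr eq_comm eq_comm

/-- The group of two pairs is the small symplectic group. -/
noncomputable def qP {p0 p1 : Fin m} (h : p0 ≠ p1) : Sp4 ≃* ↥(fx (F := F) ({p0, p1} : Finset (Fin m))) :=
  (embEquiv (twoEmb p0 p1 h)).trans (MulEquiv.subgroupCongr (congrArg (fx (F := F)) (twoEmb_map h)))

theorem qP_val {p0 p1 : Fin m} (h : p0 ≠ p1) (y : Sp4) :
    (qP (F := F) h y).1 = emb (twoEmb p0 p1 h) y := rfl

theorem emb_symm {p0 p1 : Fin m} (h : p0 ≠ p1) (x : ↥(fx (F := F) ({p0, p1} : Finset (Fin m)))) :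
    emb (twoEmb p0 p1 h) ((qP h).symm x) = x.1 := by
  rw [← qP_val h, MulEquiv.apply_symm_apply]

/-- The word of an element of two pairs. -/
noncomputable def jP {p0 p1 : Fin m} (h : p0 ≠ p1) :
    ↥(fx (F := F) ({p0, p1} : Finset (Fin m))) →* Coprod A Sp4 :=
  Coprod.inr.comp (qP h).symm.toMonoidHom

/-- A homomorphism on the two pairs. -/
noncomputable def onP {H : Type w} [Group H] {p0 p1 : Fin m} (h : p0 ≠ p1) (β : Sp4 →* H) :
    ↥(fx (F := F) ({p0, p1} : Finset (Fin m))) →* H :=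
  β.comp (qP h).symm.toMonoidHom

theorem lift_jP {H : Type w} [Group H] {p0 p1 : Fin m} (h : p0 ≠ p1) (α : A →* H) (β : Sp4 →* H)
    (x : ↥(fx (F := F) ({p0, p1} : Finset (Fin m)))) : Coprod.lift α β (jP h x) = onP h β x := by
  simp [jP, onP]

theorem true_jP {p0 p1 : Fin m} (h : p0 ≠ p1) (x : ↥(fx (F := F) ({p0, p1} : Finset (Fin m)))) :
    Coprod.lift (pA (F := F)) (emb (twoEmb p0 p1 h)) (jP h x) = x.1 := by
  simp [jP, emb_symm]

/-- The coherence asked of the two homomorphisms. -/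
def Coh {H : Type w} [Group H] {p0 p1 : Fin m} (α : A →* H)
    (β : ↥(fx (F := F) ({p0, p1} : Finset (Fin m))) →* H) : Prop :=
  ∀ (g : A) (t : Finset (Fin m)) (ht : t ⊆ {p0, p1}) (hg : ∀ a ∈ t, g.1 a ∈ ({p0, p1} : Finset (Fin m)))
    (x : Sp) (hx : x ∈ fx t), β ⟨pA g * x * (pA g)⁻¹, pA_mem g hg hx⟩ = α g * β ⟨x, fx_mono ht hx⟩ * (α g)⁻¹

/-- The data of a pair of homomorphisms. -/
noncomputable def mkBase {H : Type w} [Group H] (hm : 3 ≤ m) {p0 p1 : Fin m} (h : p0 ≠ p1) (α : A →* H)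
    (β : ↥(fx (F := F) ({p0, p1} : Finset (Fin m))) →* H) (hcoh : Coh α β) : Base F m H where
  p0 := p0
  p1 := p1
  α := α
  β := β
  move := Alt.exists_move_two h (by simpa using hm)
  coh := hcoh

theorem pres_core [Fintype F] (hm : 3 ≤ m) {a b kA kB : ℕ} (hA : PresN A a kA) (hB : PresN Sp4 b kB)
    {p0 p1 p2 : Fin m} (h01 : p0 ≠ p1) (h02 : p0 ≠ p2) (h12 : p1 ≠ p2) (c : A) (hc0 : c.1 p0 = p1)
    (hc1 : c.1 p1 = p2) (hc2 : c.1 p2 = p0) (C : List A) (hC : Subgroup.normalClosure {g : A | g ∈ C} = ⊤)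
    (E0 : List (Coprod A Sp4)) (hE0 : ∀ e ∈ E0, Coprod.lift (pA (F := F)) (emb (twoEmb p0 p1 h01)) e = 1)
    (hu0 : ∀ (H : Type) [Group H] (α : A →* H) (β : Sp4 →* H), (∀ e ∈ E0, Coprod.lift α β e = 1) →
      ∃ hcoh : Coh α (onP h01 β), (mkBase hm h01 α (onP h01 β) hcoh).Comm) :
    PresN Sp (a + b) (kA + kB + (E0.length + 2 + C.length)) := by
  classical
  let e := twoEmb p0 p1 h01
  let t01 : ↥(fx (F := F) ({p0, p1} : Finset (Fin m))) :=
    ⟨gl (T p0 p1 1), gl_T_mem h01 1 (by simp) (by simp)⟩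
  let t10 : ↥(fx (F := F) ({p0, p1} : Finset (Fin m))) :=
    ⟨gl (T p1 p0 1), gl_T_mem h01.symm 1 (by simp) (by simp)⟩
  let X01 : Coprod A Sp4 := jP h01 t01
  let X12 : Coprod A Sp4 := Coprod.inl c * jP h01 t01 * (Coprod.inl c)⁻¹
  let X02 : Coprod A Sp4 := (Coprod.inl c)⁻¹ * jP h01 t10 * Coprod.inl c
  let i : Coprod A Sp4 →* Sp := Coprod.lift pA (emb e)
  let S : Set (Coprod A Sp4) := {z | ∃ g y, z = Coprod.inl g * Coprod.inr y * (Coprod.inl g)⁻¹}
  have hS : (Subgroup.closure S).map i = ⊤ := by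
    refine top_of_small _ fun s hs x hx => ?_
    obtain ⟨g, hg⟩ := Alt.exists_move_two h01 (by simpa using hm) s hs
    have hx' : pA g * x * (pA (F := F) g)⁻¹ ∈ fx (F := F) ({p0, p1} : Finset (Fin m)) := pA_mem g hg hx
    refine ⟨Coprod.inl g⁻¹ * Coprod.inr ((qP h01).symm ⟨_, hx'⟩) * (Coprod.inl g⁻¹)⁻¹,
      Subgroup.subset_closure ⟨_, _, rfl⟩, ?_⟩
    simp only [i, e, map_mul, map_inv, Coprod.lift_apply_inl, Coprod.lift_apply_inr, emb_symm]
    group
  have hw : ∀ g : A, ∃ z ∈ Subgroup.closure S, i z = pA g := fun g => by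
    have : pA g ∈ (Subgroup.closure S).map i := by rw [hS]; trivial
    exact this
  choose z hz hzv using hw
  let E : List (Coprod A Sp4) :=
    E0 ++ [⁅X01, X12⁆ * X02⁻¹, ⁅X01, X02⁆] ++ C.map fun g => Coprod.inl g * (z g)⁻¹
  have hgen : (pA (F := F) (m := m)).range ⊔ (emb e).range = ⊤ := by
    rw [← Coprod.range_lift, eq_top_iff, ← hS]
    exact Subgroup.map_le_range i _
  have hcinv : (c⁻¹ : A).1 p1 = p0 ∧ (c⁻¹ : A).1 p0 = p2 := by
    constructor
    · show c.1.symm p1 = p0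
      rw [Equiv.symm_apply_eq, hc0]
    · show c.1.symm p0 = p2
      rw [Equiv.symm_apply_eq, hc2]
  refine (PresN.glue hA hB pA (emb e) hgen E ?_ ?_).mono (by simp [E]; omega)
  · intro w hw'
    simp only [E, List.mem_append, List.mem_cons, List.not_mem_nil, or_false, List.mem_map] at hw'
    have h1 : i X01 = gl (T p0 p1 1) := true_jP h01 t01
    have h2 : i X12 = gl (T p1 p2 1) := by
      simp only [i, e, X12, map_mul, map_inv, Coprod.lift_apply_inl, true_jP h01]
      refine (pm_gl_T c h01 1).trans ?_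
      rw [hc0, hc1]
    have h3 : i X02 = gl (T p0 p2 1) := by
      have e3 := pm_gl_T (F := F) c⁻¹ h01.symm 1
      rw [hcinv.1, hcinv.2] at e3
      rw [← e3, map_inv, map_inv, inv_inv]
      simp only [i, e, X02, map_mul, map_inv, Coprod.lift_apply_inl, true_jP h01]
      rfl
    rcases hw' with (hw' | rfl | rfl) | ⟨g, -, rfl⟩
    · exact hE0 w hw'
    · show i _ = 1
      rw [map_mul, map_inv, map_commutatorElement, h1, h2, h3, ← map_commutatorElement,
        T_bracket h02 h01 h12, mul_one, mul_inv_cancel]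
    · show i _ = 1
      rw [map_commutatorElement, h1, h3, commutatorElement_eq_one_iff_commute]
      exact (show Commute (T p0 p1 (1 : F)) (T p0 p2 1) from T_comm h01 h02 h02 h01.symm 1 1).map gl
    · show i _ = 1
      rw [map_mul, map_inv, hzv, mul_inv_eq_one]
      exact Coprod.lift_apply_inl _ _ g
  · intro H _ α β hE
    have hE' : ∀ w ∈ E0, Coprod.lift α β w = 1 := fun w h => hE w (by simp [E, h])
    obtain ⟨hcoh, hcom⟩ := hu0 H α β hE'
    set B := mkBase hm h01 α (onP h01 β) hcoh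
    have hP : ({p0, p1} : Finset (Fin m)).card ≤ 2 := Finset.card_le_two
    have y01 : Coprod.lift α β X01 = B.Y p0 p1 1 := by
      rw [← B.Y_mem (s := {p0, p1}) hP h01 (by simp) (by simp)]
      exact (lift_jP h01 α β t01).trans (B.small_P hP _ t01.2).symm
    have y10 : Coprod.lift α β (jP h01 t10) = B.Y p1 p0 1 := by
      rw [← B.Y_mem (s := {p0, p1}) hP h01.symm (by simp) (by simp)]
      exact (lift_jP h01 α β t10).trans (B.small_P hP _ t10.2).symm
    have y12 : Coprod.lift α β X12 = B.Y p1 p2 1 := by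
      have e2 := B.Y_conj c h01 1
      rw [hc0, hc1] at e2
      simp only [X12, map_mul, map_inv, Coprod.lift_apply_inl]
      rw [show Coprod.lift α β (jP h01 t01) = B.Y p0 p1 1 from y01]
      exact e2
    have y02 : Coprod.lift α β X02 = B.Y p0 p2 1 := by
      have e2 := B.Y_conj c⁻¹ h01.symm 1
      rw [hcinv.1, hcinv.2, map_inv, inv_inv] at e2
      simp only [X02, map_mul, map_inv, Coprod.lift_apply_inl, y10]
      exact e2
    have hbr : ⁅B.Y p0 p1 1, B.Y p1 p2 1⁆ = B.Y p0 p2 1 := by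
      have := hE (⁅X01, X12⁆ * X02⁻¹) (by simp [E])
      rwa [map_mul, map_inv, map_commutatorElement, y01, y12, y02, mul_inv_eq_one] at this
    have hrow : Commute (B.Y p0 p1 1) (B.Y p0 p2 1) := by
      have := hE ⁅X01, X02⁆ (by simp [E])
      rwa [map_commutatorElement, y01, y02, commutatorElement_eq_one_iff_commute] at this
    obtain ⟨φ, hφP, -, heq⟩ := B.exists_hom hm hcom (p2 := p2) h01 h02 h12 hbr hrow
      (fun i j k hij hik hjk => (Alt.exists_triple h01 h02 h12 hij hik hjk).1)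
      (fun i j k hij hik hjk => (Alt.exists_triple h01 h02 h12 hij hik hjk).2)
    have hB' : φ.comp (emb e) = β := MonoidHom.ext fun y => by
      have := hφP (qP h01 y)
      show φ (emb e y) = β y
      refine (this.trans ?_)
      show β ((qP h01).symm (qP h01 y)) = β y
      rw [MulEquiv.symm_apply_apply]
    have hzK : ∀ w ∈ Subgroup.closure S, φ (i w) = Coprod.lift α β w := by
      intro w hw'
      refine MonoidHom.eqOn_closure (f := φ.comp i) (g := Coprod.lift α β) ?_ hw'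
      rintro _ ⟨g, y, rfl⟩
      simp only [MonoidHom.comp_apply, i, map_mul, map_inv, Coprod.lift_apply_inl, Coprod.lift_apply_inr]
      rw [← map_inv φ, ← map_mul, ← map_mul, heq, ← hB']
      rfl
    refine ⟨φ, MonoidHom.ext fun g => ?_, hB'⟩
    refine B.perm_eq φ heq hC (fun g hg => ?_) g
    have := hE (Coprod.inl g * (z g)⁻¹) (by simp only [E, List.mem_append, List.mem_map]; exact Or.inr ⟨g, hg, rfl⟩)
    rw [map_mul, map_inv, mul_inv_eq_one, Coprod.lift_apply_inl, ← hzK _ (hz g), hzv] at this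
    exact this.symm

end Cfsg.Agent.ShortPres.Symp
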