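import Cfsg.Agent.Lib.ShortPres.SympBounded
import Cfsg.Agent.Lib.ShortPres.SympCenter
import Mathlib

/-!
Bounded presentations of the symplectic groups.
-/

set_option autoImplicit false
set_option linter.unusedSectionVars false

namespace Cfsg.Agent.ShortPres.Symp

open Equiv Cfsg.Agent.ShortPres.Bound

universe u

variable {F : Type u} [Field F] [Fintype F] {m : ℕ}

/-- Two exchanges. -/
def two {α : Type*} [Fintype α] [DecidableEq α] (a b c d : α) (h : a ≠ b) (h' : c ≠ d) : alternatingGroup α :=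
  ⟨swap a b * swap c d, by
    rw [Perm.mem_alternatingGroup, map_mul, Perm.sign_swap h, Perm.sign_swap h']; decide⟩

theorem two_apply {α : Type*} [Fintype α] [DecidableEq α] (a b c d : α) (h : a ≠ b) (h' : c ≠ d) (x : α) :
    (two a b c d h h').1 x = swap a b (swap c d x) := rfl

theorem two_sq {α : Type*} [Fintype α] [DecidableEq α] (a b c d : α) (h : a ≠ b) (h' : c ≠ d)
    (hac : a ≠ c) (had : a ≠ d) (hbc : b ≠ c) (hbd : b ≠ d) : two a b c d h h' * two a b c d h h' = 1 := by
  refine Subtype.ext (Equiv.ext fun x => ?_)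
  show (two a b c d h h').1 ((two a b c d h h').1 x) = x
  simp only [two_apply, swap_apply_def]
  split_ifs <;> simp_all

theorem pres_ge_five {n : ℕ} (hn : 5 ≤ n) {a kA : ℕ} (hA : PresN (alternatingGroup (Fin n)) a kA) :
    PresN (Matrix.symplecticGroup (Fin n) F) (a + 6) (kA + 28 + 14) := by
  classical
  let p : ∀ i, i < 4 → Fin n := fun i h => ⟨i, by omega⟩
  set p0 := p 0 (by norm_num) with hp0
  set p1 := p 1 (by norm_num) with hp1
  set p2 := p 2 (by norm_num) with hp2
  set p3 := p 3 (by norm_num) with hp3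
  have h01 : p0 ≠ p1 := by simp [hp0, hp1, p]
  have h02 : p0 ≠ p2 := by simp [hp0, hp2, p]
  have h03 : p0 ≠ p3 := by simp [hp0, hp3, p]
  have h12 : p1 ≠ p2 := by simp [hp1, hp2, p]
  have h13 : p1 ≠ p3 := by simp [hp1, hp3, p]
  have h23 : p2 ≠ p3 := by simp [hp2, hp3, p]
  let f : Fin (n - 2) ↪ Fin n :=
    ⟨fun i => ⟨i + 2, by omega⟩, fun i j h => by simpa [Fin.ext_iff] using h⟩
  have hf : ∀ x : Fin n, x ∉ Set.range f ↔ x = p0 ∨ x = p1 := by
    intro x
    constructor
    · intro h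
      by_contra h'
      push Not at h'
      have h0 : x.1 ≠ 0 := fun e => h'.1 (Fin.ext e)
      have h1 : x.1 ≠ 1 := fun e => h'.2 (Fin.ext e)
      exact h ⟨⟨x.1 - 2, by omega⟩, Fin.ext (show x.1 - 2 + 2 = x.1 by omega)⟩
    · rintro (rfl | rfl) ⟨i, hi⟩ <;> (have := congrArg Fin.val hi; change (i : ℕ) + 2 = _ at this; simp [hp0, hp1, p] at this)
  obtain ⟨s1, s2, hs⟩ := Alt.exists_pair (n := n - 2) (by omega)
  let S := [Alt.altEmb f s1, Alt.altEmb f s2]
  have hS : ∀ g : alternatingGroup (Fin n), g.1 p0 = p0 → g.1 p1 = p1 →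
      g ∈ Subgroup.closure {g : alternatingGroup (Fin n) | g ∈ S} := by
    intro g e0 e1
    obtain ⟨k, rfl⟩ := Linear.mem_range_altEmb f g fun x hx => by
      rcases (hf x).1 hx with rfl | rfl
      exacts [e0, e1]
    have hk : k ∈ Subgroup.closure ({s1, s2} : Set _) := hs ▸ Subgroup.mem_top k
    have := Subgroup.mem_map_of_mem (Alt.altEmb f) hk
    rw [MonoidHom.map_closure, Set.image_pair] at this
    exact Subgroup.closure_mono (by rintro _ (rfl | rfl) <;> simp [S]) this
  let c := two p0 p1 p1 p2 h01 h12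
  let g1 := two p1 p2 p2 p3 h12 h23
  have hc : c.1 p0 = p1 ∧ c.1 p1 = p2 ∧ c.1 p2 = p0 := by
    refine ⟨?_, ?_, ?_⟩ <;>
      simp [c, two_apply, swap_apply_def, h01, h02, h12, h01.symm, h02.symm, h12.symm]
  have hg : g1.1 p0 = p0 ∧ g1.1 p1 = p2 := by
    refine ⟨?_, ?_⟩ <;>
      simp [g1, two_apply, swap_apply_def, h01, h02, h03, h12, h13, h23, h12.symm, h13.symm]
  refine (pres_four (by omega) hA h01 h02 h03 h12 h13 h23 c g1 (two p0 p1 p2 p3 h01 h23) (two p0 p2 p1 p3 h02 h13)
    hc.1 hc.2.1 hc.2.2 hg.1 ?_ ?_ (two_sq _ _ _ _ _ _ h02 h03 h12 h13) (two_sq _ _ _ _ _ _ h01 h03 h12.symm h23)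
    ?_ ?_ ?_ ?_ S ?_ hS ?_ [c] ?_).mono (by simp [S])
  · simp [two_apply, swap_apply_def, h01, h02, h03]
  · simp [two_apply, swap_apply_def, h01.symm, h12, h13]
  · simp [two_apply, swap_apply_def, h01, h02, h03]
  · simp [two_apply, swap_apply_def, h01, h03, h12, h13, h23, h03.symm, h23.symm]
  · simp [two_apply, swap_apply_def, h02.symm, h12.symm, h23]
  · simp [two_apply, swap_apply_def, h01.symm, h03.symm, h12, h13.symm, h23.symm]
  · intro g hg'
    simp only [S, List.mem_cons, List.not_mem_nil, or_false] at hg'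
    rcases hg' with rfl | rfl <;>
      exact ⟨Alt.altEmb_fix f _ ((hf p0).2 (Or.inl rfl)), Alt.altEmb_fix f _ ((hf p1).2 (Or.inr rfl))⟩
  · intro x hx
    by_cases h1 : x = p1
    · exact ⟨1, one_mem _, h1.symm⟩
    obtain ⟨i, rfl⟩ : x ∈ Set.range f := by
      by_contra h
      rcases (hf x).1 h with rfl | rfl
      exacts [hx rfl, h1 rfl]
    obtain ⟨j, hj⟩ : p2 ∈ Set.range f := by
      by_contra h
      rcases (hf p2).1 h with e | e
      exacts [h02 e.symm, h12 e.symm]
    obtain ⟨k, hk⟩ := Alt.exists_move (α := Fin (n - 2)) (by simp; omega) j i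
    refine ⟨Alt.altEmb f k * g1, mul_mem ?_ (Subgroup.subset_closure (List.mem_cons_self ..)), ?_⟩
    · refine Subgroup.closure_mono (fun s (hs : s ∈ S) => List.mem_cons_of_mem _ hs) (hS _ ?_ ?_)
      · exact Alt.altEmb_fix f _ ((hf p0).2 (Or.inl rfl))
      · exact Alt.altEmb_fix f _ ((hf p1).2 (Or.inr rfl))
    · show (Alt.altEmb f k).1 (g1.1 p1) = f i
      rw [hg.2, ← hj, Alt.altEmb_apply, hk]
  · have : IsSimpleGroup (alternatingGroup (Fin n)) := alternatingGroup.isSimpleGroup (by simpa using hn)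
    refine (Subgroup.Normal.eq_bot_or_eq_top Subgroup.normalClosure_normal).resolve_left fun h => ?_
    have hm : c ∈ Subgroup.normalClosure {g : alternatingGroup (Fin n) | g ∈ [c]} :=
      Subgroup.subset_normalClosure (by simp)
    rw [h, Subgroup.mem_bot] at hm
    exact h01 (by simpa [hm] using hc.1)

theorem perm_four_fix : ∀ g : Perm (Fin 4), Perm.sign g = 1 → g 0 = 0 → g 1 = 1 → g = 1 := by decide

theorem perm_four_fix' : ∀ g : Perm (Fin 4), Perm.sign g = 1 → g 0 = 0 →
    g = 1 ∨ g = swap 1 2 * swap 2 3 ∨ g = (swap 1 2 * swap 2 3) * (swap 1 2 * swap 2 3) := by decide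

theorem pres_eq_four {a kA : ℕ} (hA : PresN (alternatingGroup (Fin 4)) a kA) :
    PresN (Matrix.symplecticGroup (Fin 4) F) (a + 6) (kA + 28 + 11) := by
  classical
  let c := two (0 : Fin 4) 1 1 2 (by decide) (by decide)
  let g1 := two (1 : Fin 4) 2 2 3 (by decide) (by decide)
  refine (pres_four le_rfl hA (p0 := (0 : Fin 4)) (p1 := 1) (p2 := 2) (p3 := 3) (by decide) (by decide) (by decide)
    (by decide) (by decide) (by decide) c g1 (two 0 1 2 3 (by decide) (by decide))
    (two 0 2 1 3 (by decide) (by decide)) (by decide) (by decide) (by decide) (by decide) (by decide) (by decide)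
    (two_sq _ _ _ _ _ _ (by decide) (by decide) (by decide) (by decide))
    (two_sq _ _ _ _ _ _ (by decide) (by decide) (by decide) (by decide))
    (by decide) (by decide) (by decide) (by decide) [] (by simp) (fun g e0 e1 => ?_) ?_ [c, g1] ?_).mono (by simp)
  · rw [show g = 1 from Subtype.ext (perm_four_fix g.1 (Perm.mem_alternatingGroup.1 g.2) e0 e1)]
    exact one_mem _
  · intro x hx
    have hg : g1 ∈ Subgroup.closure {g : alternatingGroup (Fin 4) | g ∈ [g1]} := Subgroup.subset_closure (by simp)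
    have key : x = 1 ∨ x = 2 ∨ x = 3 := by revert x; decide
    rcases key with rfl | rfl | rfl
    exacts [⟨1, one_mem _, rfl⟩, ⟨g1, hg, by decide⟩, ⟨g1 * g1, mul_mem hg hg, by decide⟩]
  · refine (Subgroup.eq_top_iff' _).2 fun g => ?_
    set N := Subgroup.normalClosure {g : alternatingGroup (Fin 4) | g ∈ [c, g1]}
    have hcm : c ∈ N := Subgroup.subset_normalClosure (by simp)
    have hgm : g1 ∈ N := Subgroup.subset_normalClosure (by simp)
    obtain ⟨h, hh, e⟩ : ∃ h ∈ N, h.1 0 = g.1 0 := by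
      generalize g.1 0 = b
      fin_cases b
      exacts [⟨1, one_mem _, rfl⟩, ⟨c, hcm, by decide⟩, ⟨c * c, mul_mem hcm hcm, by decide⟩,
        ⟨g1 * (c * c), mul_mem hgm (mul_mem hcm hcm), by decide⟩]
    have hfix : (h⁻¹ * g).1 0 = 0 := by
      show h.1.symm (g.1 0) = 0
      rw [Equiv.symm_apply_eq, e]
    have hmem : h⁻¹ * g ∈ N := by
      rcases perm_four_fix' _ (Perm.mem_alternatingGroup.1 (h⁻¹ * g).2) hfix with e' | e' | e'
      · rw [show h⁻¹ * g = 1 from Subtype.ext e']; exact one_mem _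
      · rw [show h⁻¹ * g = g1 from Subtype.ext e']; exact hgm
      · rw [show h⁻¹ * g = g1 * g1 from Subtype.ext e']; exact mul_mem hgm hgm
    simpa using mul_mem hh hmem

theorem alt_small {n r k : ℕ} (hn : 3 ≤ n) (hr : n = r + 2)
    (hk : ((Finset.univ : Finset (Fin r × Fin r)).filter fun ij => ij.1 ≤ ij.2).card ≤ k) :
    PresN (alternatingGroup (Fin n)) r k := by
  classical
  have huv : (⟨0, by omega⟩ : Fin n) ≠ ⟨1, by omega⟩ := by simp
  have h := Alt.pres_small' huv ⟨⟨⟨2, by omega⟩, by simp, by simp⟩⟩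
  have hc : Fintype.card (Alt.Rest (⟨0, by omega⟩ : Fin n) ⟨1, by omega⟩) = r := by
    rw [Fintype.card_subtype]
    have e : (Finset.univ.filter fun i : Fin n => i ≠ ⟨0, by omega⟩ ∧ i ≠ ⟨1, by omega⟩) =
        ({⟨0, by omega⟩, ⟨1, by omega⟩} : Finset (Fin n))ᶜ := by ext; simp
    rw [e, Finset.card_compl, Finset.card_pair huv, Fintype.card_fin]
    omega
  rw [hc] at h
  exact h.mono hk

theorem alt_large {n : ℕ} (h7 : 7 ≤ n) : PresN (alternatingGroup (Fin n)) 4 15 := by
  obtain ⟨p, hp, h5, hlo, hhi⟩ : ∃ p : ℕ, p.Prime ∧ 5 ≤ p ∧ n ≤ 2 * p + 1 ∧ p + 2 ≤ n := by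
    rcases Nat.eq_or_lt_of_le h7 with rfl | h8
    · exact ⟨5, by norm_num, by norm_num, by norm_num, by norm_num⟩
    obtain ⟨p, hp, h1, h2⟩ := Nat.exists_prime_lt_and_le_two_mul ((n - 2) / 2) (by omega)
    have : p ≠ 4 := by rintro rfl; norm_num at hp
    exact ⟨p, hp, by omega, by omega, by omega⟩
  exact Alt.pres_glue (by omega) hhi (by omega) (Alt.pres_piece hp h5)

theorem pres_rank_three : PresN (Matrix.symplecticGroup (Fin 3) F) 8 39 :=
  ((pres_three (alt_small (k := 1) (r := 1) le_rfl rfl (by decide))).pad).mono (by norm_num)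

theorem pres_rank_mid {n : ℕ} (h : n = 4 ∨ n = 5) : PresN (Matrix.symplecticGroup (Fin n) F) 9 49 := by
  rcases h with rfl | rfl
  · exact ((pres_eq_four (alt_small (k := 3) (r := 2) (by norm_num) rfl (by decide))).pad).mono (by norm_num)
  · exact (pres_ge_five le_rfl (alt_small (k := 6) (r := 3) (by norm_num) rfl (by decide))).mono (by norm_num)

theorem pres_rank_ge_four {n : ℕ} (h : 4 ≤ n) : PresN (Matrix.symplecticGroup (Fin n) F) 10 57 := by
  rcases (show n = 4 ∨ n = 5 ∨ n = 6 ∨ 7 ≤ n by omega) with h' | h' | rfl | h'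
  · exact (pres_rank_mid (Or.inl h')).pad.mono (by norm_num)
  · exact (pres_rank_mid (Or.inr h')).pad.mono (by norm_num)
  · exact (pres_ge_five (by norm_num) (alt_small (k := 10) (r := 4) (by norm_num) rfl (by decide))).mono (by norm_num)
  · exact pres_ge_five (by omega) (alt_large h')

end Cfsg.Agent.ShortPres.Symp
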