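import Cfsg.Agent.Lib.ShortPres.SympEmb
import Cfsg.Agent.Lib.ShortPres.SympCosets
import Cfsg.Agent.Lib.SteinbergSL.Outer
import Mathlib

/-!
From one pair of pairs and the even permutations to all the small groups.
-/

set_option autoImplicit false
set_option linter.unusedSectionVars false

namespace Cfsg.Agent.ShortPres.Symp

open Matrix Cfsg.Agent.Forms.SympStd Cfsg.Agent.Classical.Symplectic Cfsg.Agent.SimpleFacts.SpMult.Levels
  Cfsg.Agent.SimpleFacts.SLnRootLifts Cfsg.Agent.SimpleFacts.SLnCosets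
open scoped commutatorElement

universe u w

variable {F : Type u} [Field F] {m : ℕ} {H : Type w} [Group H]

local notation "Vec" => (Fin m ⊕ Fin m → F)
local notation "Mat" => Matrix (Fin m ⊕ Fin m) (Fin m ⊕ Fin m) F
local notation "Sp" => symplecticGroup (Fin m) F
local notation "f" => Cfsg.sympForm m F

/-- The permutation of the pairs as a symplectic element. -/
def pA : alternatingGroup (Fin m) →* symplecticGroup (Fin m) F := gl.comp Linear.pm

theorem pA_mem (g : alternatingGroup (Fin m)) {s t : Finset (Fin m)} (hst : ∀ a ∈ s, g.1 a ∈ t) {A : Sp}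
    (hA : A ∈ fx s) : pA g * A * (pA (F := F) g)⁻¹ ∈ fx t := pm_mem g hst hA

/-- A diagonal element on one pair. -/
theorem exists_scale (a : Fin m) (l : Fˣ) : ∃ A : Sp, A ∈ fx {a} ∧ (A : Mat) *ᵥ be a = (l : F) • be a ∧
    (A : Mat) *ᵥ bh a = (l : F)⁻¹ • bh a := by
  obtain ⟨A, hA, h1, h2⟩ := move (pair (F := F) {a} (Finset.mem_singleton_self a))
    (show Pair (off ({a} : Finset (Fin m))) ((l : F) • be a : Vec) ((l : F)⁻¹ • bh a) from
      ⟨Submodule.smul_mem _ _ (be_mem (Finset.mem_singleton_self a)),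
        Submodule.smul_mem _ _ (bh_mem (Finset.mem_singleton_self a)), by
        rw [f_smul_left, f_smul_right, f_be_bh, mul_one, mul_inv_cancel₀ l.ne_zero]⟩)
  exact ⟨A, hA, h1, h2⟩

theorem scale_T_left {a b : Fin m} (hab : a ≠ b) {A : Sp} (hA : A ∈ fx {a}) {l : Fˣ}
    (hA1 : (A : Mat) *ᵥ be a = (l : F) • be a) (c : F) : A * gl (T a b c) * A⁻¹ = gl (T a b ((l : F) * c)) := by
  rw [gl_T_un hab, gl_T_un hab, un_conj, Matrix.mulVec_smul, fix_bh hA (by simpa using hab.symm), hA1]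
  have hw : f ((l : F) • be a) (c • bh b : Vec) = 0 := by
    rw [f_smul_left, f_smul_right, f_be]; simp [bh, hab]
  have hw' : f (be a) (((l : F) * c) • bh b : Vec) = 0 := by rw [f_smul_right, f_be]; simp [bh, hab]
  refine sp_ext fun x => ?_
  rw [un_mulVec hw, un_mulVec hw']
  simp only [f_smul_right]
  module

theorem scale_T_right {a b : Fin m} (hab : a ≠ b) {A : Sp} (hA : A ∈ fx {b}) {l : Fˣ}
    (hA2 : (A : Mat) *ᵥ bh b = (l : F)⁻¹ • bh b) (c : F) :
    A * gl (T a b c) * A⁻¹ = gl (T a b ((l : F)⁻¹ * c)) := by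
  rw [gl_T_un hab, gl_T_un hab, un_conj, Matrix.mulVec_smul, fix_be hA (by simpa using hab), hA2, smul_smul,
    mul_comm c]

/-- The data on one pair of pairs. -/
structure Base (F : Type u) [Field F] (m : ℕ) (H : Type w) [Group H] where
  /-- The first pair. -/
  p0 : Fin m
  /-- The second pair. -/
  p1 : Fin m
  /-- The permutations. -/
  α : alternatingGroup (Fin m) →* H
  /-- The group of the two pairs. -/
  β : ↥(fx (F := F) ({p0, p1} : Finset (Fin m))) →* H
  move : ∀ s : Finset (Fin m), s.card ≤ 2 →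
    ∃ g : alternatingGroup (Fin m), ∀ a ∈ s, g.1 a ∈ ({p0, p1} : Finset (Fin m))
  coh : ∀ (g : alternatingGroup (Fin m)) (t : Finset (Fin m)) (ht : t ⊆ {p0, p1})
    (hg : ∀ a ∈ t, g.1 a ∈ ({p0, p1} : Finset (Fin m))) (x : symplecticGroup (Fin m) F) (hx : x ∈ fx t),
    β ⟨pA g * x * (pA g)⁻¹, pA_mem g hg hx⟩ = α g * β ⟨x, fx_mono ht hx⟩ * (α g)⁻¹

namespace Base

variable (B : Base F m H)


/-- A chosen permutation into the first two pairs. -/
noncomputable def sel (s : Finset (Fin m)) (hs : s.card ≤ 2) : alternatingGroup (Fin m) := (B.move s hs).choose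

theorem sel_spec (s : Finset (Fin m)) (hs : s.card ≤ 2) : ∀ a ∈ s, (B.sel s hs).1 a ∈ ({B.p0, B.p1} : Finset (Fin m)) :=
  (B.move s hs).choose_spec

/-- A small group through a permutation into the first two pairs. -/
noncomputable def via (g : alternatingGroup (Fin m)) (s : Finset (Fin m))
    (hg : ∀ a ∈ s, g.1 a ∈ ({B.p0, B.p1} : Finset (Fin m))) : ↥(fx (F := F) s) →* H :=
  (MulAut.conj (B.α g)⁻¹).toMonoidHom.comp (B.β.comp
    (((MulAut.conj (pA (F := F) g)).toMonoidHom.comp (fx s).subtype).codRestrict _ fun x => pA_mem g hg x.2))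

theorem via_apply (g : alternatingGroup (Fin m)) (s : Finset (Fin m)) (hg : ∀ a ∈ s, g.1 a ∈ ({B.p0, B.p1} : Finset (Fin m)))
    (x : Sp) (hx : x ∈ fx s) :
    B.via g s hg ⟨x, hx⟩ = (B.α g)⁻¹ * B.β ⟨pA g * x * (pA g)⁻¹, pA_mem g hg hx⟩ * B.α g := by
  simp only [via, MonoidHom.comp_apply, MulEquiv.coe_toMonoidHom, MulAut.conj_apply, inv_inv]
  rfl

/-- The small groups. -/
noncomputable def small (s : Finset (Fin m)) (hs : s.card ≤ 2) : ↥(fx (F := F) s) →* H :=
  B.via (B.sel s hs) s (B.sel_spec s hs)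

theorem small_eq {s : Finset (Fin m)} (hs : s.card ≤ 2) (g : alternatingGroup (Fin m)) (hg : ∀ a ∈ s, g.1 a ∈ ({B.p0, B.p1} : Finset (Fin m)))
    (x : Sp) (hx : x ∈ fx s) :
    B.small s hs ⟨x, hx⟩ = (B.α g)⁻¹ * B.β ⟨pA g * x * (pA g)⁻¹, pA_mem g hg hx⟩ * B.α g := by
  set g' := B.sel s hs
  have ht : s.image (fun a => g'.1 a) ⊆ ({B.p0, B.p1} : Finset (Fin m)) := fun b hb => by
    obtain ⟨a, ha, rfl⟩ := Finset.mem_image.1 hb
    exact B.sel_spec s hs a ha
  have hh : ∀ a ∈ s.image (fun a => g'.1 a), (g * g'⁻¹).1 a ∈ ({B.p0, B.p1} : Finset (Fin m)) := fun b hb => by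
    obtain ⟨a, ha, rfl⟩ := Finset.mem_image.1 hb
    simpa [Equiv.Perm.mul_apply] using hg a ha
  have hx' : pA g' * x * (pA g')⁻¹ ∈ fx (F := F) (s.image fun a => g'.1 a) :=
    pA_mem g' (fun a ha => Finset.mem_image_of_mem _ ha) hx
  have e := B.coh (g * g'⁻¹) _ ht hh _ hx'
  have e1 : pA (g * g'⁻¹) * (pA g' * x * (pA g')⁻¹) * (pA (g * g'⁻¹))⁻¹ = pA g * x * (pA (F := F) g)⁻¹ := by
    rw [map_mul, map_inv]; group
  simp only [e1] at e
  rw [small, via_apply, e, map_mul, map_inv]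
  simp only [g']
  group

theorem small_conj (g : alternatingGroup (Fin m)) {s t : Finset (Fin m)} (hs : s.card ≤ 2) (ht : t.card ≤ 2)
    (hst : ∀ a ∈ s, g.1 a ∈ t) (x : Sp) (hx : x ∈ fx s) :
    B.small t ht ⟨pA g * x * (pA g)⁻¹, pA_mem g hst hx⟩ = B.α g * B.small s hs ⟨x, hx⟩ * (B.α g)⁻¹ := by
  have hg2 : ∀ a ∈ s, (B.sel t ht * g).1 a ∈ ({B.p0, B.p1} : Finset (Fin m)) := fun a ha => B.sel_spec t ht _ (hst a ha)
  rw [B.small_eq ht (B.sel t ht) (B.sel_spec t ht), B.small_eq hs (B.sel t ht * g) hg2]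
  have e1 : pA (B.sel t ht * g) * x * (pA (F := F) (B.sel t ht * g))⁻¹ =
      pA (B.sel t ht) * (pA g * x * (pA g)⁻¹) * (pA (B.sel t ht))⁻¹ := by rw [map_mul]; group
  simp only [e1, map_mul]
  group

theorem small_mono (s t : Finset (Fin m)) (hs : s.card ≤ 2) (ht : t.card ≤ 2) (h : s ⊆ t) (x : Sp)
    (hx : x ∈ fx s) : B.small s hs ⟨x, hx⟩ = B.small t ht ⟨x, fx_mono h hx⟩ := by
  rw [B.small_eq hs (B.sel t ht) (fun a ha => B.sel_spec t ht a (h ha)), B.small_eq ht _ (B.sel_spec t ht)]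

theorem small_P (hs : ({B.p0, B.p1} : Finset (Fin m)).card ≤ 2) (x : Sp) (hx : x ∈ fx ({B.p0, B.p1} : Finset (Fin m))) : B.small ({B.p0, B.p1} : Finset (Fin m)) hs ⟨x, hx⟩ = B.β ⟨x, hx⟩ := by
  rw [B.small_eq hs 1 fun a ha => by simpa using ha]
  simp

/-- The image of a transvection of the Levi factor. -/
noncomputable def Y (i j : Fin m) (c : F) : H :=
  if h : i ≠ j then B.small {i, j} Finset.card_le_two ⟨gl (T i j c), gl_T_mem h c (by simp) (by simp)⟩ else 1

theorem Y_mem {s : Finset (Fin m)} (hs : s.card ≤ 2) {i j : Fin m} (hij : i ≠ j) (hi : i ∈ s) (hj : j ∈ s) (c : F) :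
    B.small s hs ⟨gl (T i j c), gl_T_mem hij c hi hj⟩ = B.Y i j c := by
  rw [Y, dif_pos hij, B.small_mono {i, j} s Finset.card_le_two hs (by
    simp [Finset.insert_subset_iff, hi, hj]) _ (gl_T_mem hij c (by simp) (by simp))]

theorem Y_conj (g : alternatingGroup (Fin m)) {i j : Fin m} (hij : i ≠ j) (c : F) :
    B.α g * B.Y i j c * (B.α g)⁻¹ = B.Y (g.1 i) (g.1 j) c := by
  have hne : g.1 i ≠ g.1 j := g.1.injective.ne hij
  rw [Y, dif_pos hij, ← B.small_conj g (s := {i, j}) (t := {g.1 i, g.1 j}) Finset.card_le_two Finset.card_le_two (by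
    intro a ha; simp only [Finset.mem_insert, Finset.mem_singleton] at ha ⊢
    rcases ha with rfl | rfl <;> simp), ← B.Y_mem (s := {g.1 i, g.1 j}) Finset.card_le_two hne (by simp) (by simp)]
  congr 2
  exact pm_gl_T g hij c

theorem Y_add {i j : Fin m} (hij : i ≠ j) (a b : F) : B.Y i j (a + b) = B.Y i j a * B.Y i j b := by
  simp only [Y, dif_pos hij, ← map_mul]
  exact congrArg _ (Subtype.ext ((congrArg gl (T_add hij a b)).trans (map_mul _ _ _)))

theorem Y_zero {i j : Fin m} (hij : i ≠ j) : B.Y i j 0 = 1 := by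
  have h := B.Y_add hij 0 0
  rwa [add_zero, left_eq_mul] at h

/-- All disjoint small groups commute. -/
def Comm : Prop := ∀ (s t : Finset (Fin m)) (hs : s.card ≤ 2) (ht : t.card ≤ 2), Disjoint s t → ∀ x y,
  Commute (B.small s hs x) (B.small t ht y)

/-- An element of one pair. -/
noncomputable def one (k : Fin m) (A : Sp) (hA : A ∈ fx {k}) : H := B.small {k} (by simp) ⟨A, hA⟩

theorem one_Y_out (hcom : B.Comm) {i j k : Fin m} (hij : i ≠ j) (hki : k ≠ i) (hkj : k ≠ j) {A : Sp}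
    (hA : A ∈ fx {k}) (c : F) : B.one k A hA * B.Y i j c * (B.one k A hA)⁻¹ = B.Y i j c := by
  rw [Y, dif_pos hij, one, (hcom _ _ _ _ (by simp [hki, hkj]) _ _).eq, mul_inv_cancel_right]

theorem one_Y {i j : Fin m} (hij : i ≠ j) {i' j' : Fin m} (hij' : i' ≠ j') (hi' : i' ∈ ({i, j} : Finset (Fin m)))
    (hj' : j' ∈ ({i, j} : Finset (Fin m))) {k : Fin m} (hk : k ∈ ({i, j} : Finset (Fin m))) {A : Sp}
    (hA : A ∈ fx {k}) {c c' : F} (h : A * gl (T i j c) * A⁻¹ = gl (T i' j' c')) :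
    B.one k A hA * B.Y i j c * (B.one k A hA)⁻¹ = B.Y i' j' c' := by
  rw [Y, dif_pos hij, one, B.small_mono {k} {i, j} (by simp) Finset.card_le_two
    (Finset.singleton_subset_iff.2 hk) _ hA, ← map_inv, ← map_mul, ← map_mul,
    ← B.Y_mem (s := {i, j}) Finset.card_le_two hij' hi' hj']
  congr 1
  exact Subtype.ext h

theorem scaled {i j : Fin m} (hij : i ≠ j) {A : Sp} (hA : A ∈ fx {i}) {l : Fˣ}
    (hA1 : (A : Mat) *ᵥ be i = (l : F) • be i) (c : F) :
    B.one i A hA * B.Y i j c * (B.one i A hA)⁻¹ = B.Y i j ((l : F) * c) :=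
  B.one_Y hij hij (by simp) (by simp) (by simp) hA (scale_T_left hij hA hA1 c)

theorem scaled' {i j : Fin m} (hij : i ≠ j) {A : Sp} (hA : A ∈ fx {j}) {l : Fˣ}
    (hA2 : (A : Mat) *ᵥ bh j = (l : F)⁻¹ • bh j) (c : F) :
    B.one j A hA * B.Y i j c * (B.one j A hA)⁻¹ = B.Y i j ((l : F)⁻¹ * c) :=
  B.one_Y hij hij (by simp) (by simp) (by simp) hA (scale_T_right hij hA hA2 c)

theorem bracket_base (hcom : B.Comm) {i j k : Fin m} (hij : i ≠ j) (hik : i ≠ k) (hjk : j ≠ k)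
    (h : ⁅B.Y i j 1, B.Y j k 1⁆ = B.Y i k 1) (a b : F) : ⁅B.Y i j a, B.Y j k b⁆ = B.Y i k (a * b) := by
  by_cases ha : a = 0
  · rw [ha, zero_mul, B.Y_zero hij, B.Y_zero hik, commutatorElement_one_left]
  by_cases hb : b = 0
  · rw [hb, mul_zero, B.Y_zero hjk, B.Y_zero hik, commutatorElement_one_right]
  obtain ⟨A, hA, hA1, -⟩ := exists_scale (F := F) i (Units.mk0 a ha)
  obtain ⟨C, hC, -, hC2⟩ := exists_scale (F := F) k (Units.mk0 b hb)⁻¹
  have e1 := congrArg (MulAut.conj (B.one i A hA)) h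
  rw [map_commutatorElement] at e1
  simp only [MulAut.conj_apply] at e1
  rw [B.scaled hij hA hA1, B.one_Y_out hcom hjk hij hik hA, B.scaled hik hA hA1,
    Units.val_mk0, mul_one] at e1
  have e2 := congrArg (MulAut.conj (B.one k C hC)) e1
  rw [map_commutatorElement] at e2
  simp only [MulAut.conj_apply] at e2
  rw [B.one_Y_out hcom hij hik.symm hjk.symm hC, B.scaled' hjk hC hC2, B.scaled' hik hC hC2,
    Units.val_inv_eq_inv_val, inv_inv, Units.val_mk0, mul_one, mul_comm b] at e2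
  exact e2

theorem row_base (hcom : B.Comm) {i j k : Fin m} (hij : i ≠ j) (hik : i ≠ k) (hjk : j ≠ k)
    (h : Commute (B.Y i j 1) (B.Y i k 1)) (a b : F) : Commute (B.Y i j a) (B.Y i k b) := by
  by_cases ha : a = 0
  · rw [ha, B.Y_zero hij]; exact Commute.one_left _
  by_cases hb : b = 0
  · rw [hb, B.Y_zero hik]; exact Commute.one_right _
  obtain ⟨A, hA, -, hA2⟩ := exists_scale (F := F) j (Units.mk0 a ha)⁻¹
  obtain ⟨C, hC, -, hC2⟩ := exists_scale (F := F) k (Units.mk0 b hb)⁻¹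
  have e := (h.map (MulAut.conj (B.one j A hA)).toMonoidHom).map (MulAut.conj (B.one k C hC)).toMonoidHom
  simp only [MulEquiv.coe_toMonoidHom, MulAut.conj_apply] at e
  rwa [B.scaled' hij hA hA2, B.one_Y_out hcom hik hij.symm hjk hA, B.one_Y_out hcom hij hik.symm hjk.symm hC,
    B.scaled' hik hC hC2, Units.val_inv_eq_inv_val, inv_inv, Units.val_mk0, Units.val_inv_eq_inv_val, inv_inv,
    Units.val_mk0, mul_one, mul_one] at e

/-- Turning three pairs over transposes the transvections. -/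
theorem exists_turn (hcom : B.Comm) {i j k : Fin m} (hij : i ≠ j) (hik : i ≠ k) (hjk : j ≠ k) :
    ∃ W : H, ∀ a b, a ≠ b → a ∈ ({i, j, k} : Finset (Fin m)) → b ∈ ({i, j, k} : Finset (Fin m)) → ∀ c,
      W * B.Y a b c * W⁻¹ = B.Y b a (-c) := by
  choose A hA hA1 hA2 using fun a : Fin m => exists_flip' (F := F) a
  let fl : Fin m → H := fun a => B.one a (A a) (hA a)
  have hc : ∀ a b, a ≠ b → Commute (fl a) (fl b) := fun a b h => hcom _ _ _ _ (by simpa using h) _ _
  refine ⟨fl i * fl j * fl k, fun a b hab ha hb c => ?_⟩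
  obtain ⟨d, hd, hda, hdb, e⟩ : ∃ d, d ∈ ({i, j, k} : Finset (Fin m)) ∧ d ≠ a ∧ d ≠ b ∧
      fl i * fl j * fl k = fl a * fl b * fl d := by
    have s1 : ∀ {x y : Fin m}, x ≠ y → ∀ z, fl x * fl y * fl z = fl y * fl x * fl z := fun h z => by
      rw [(hc _ _ h).eq]
    have s2 : ∀ {y z : Fin m}, y ≠ z → ∀ x, fl x * fl y * fl z = fl x * fl z * fl y := fun h x => by
      rw [mul_assoc, (hc _ _ h).eq, ← mul_assoc]
    simp only [Finset.mem_insert, Finset.mem_singleton] at ha hb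
    rcases ha with rfl | rfl | rfl <;> rcases hb with rfl | rfl | rfl
    · exact absurd rfl hab
    · exact ⟨k, by simp, hik.symm, hjk.symm, rfl⟩
    · exact ⟨j, by simp, hij.symm, hjk, s2 hjk _⟩
    · exact ⟨k, by simp, hjk.symm, hik.symm, s1 hij _⟩
    · exact absurd rfl hab
    · exact ⟨i, by simp, hij, hik, (s1 hij _).trans (s2 hik _)⟩
    · exact ⟨j, by simp, hjk, hij.symm, (s2 hjk _).trans (s1 hik _)⟩
    · exact ⟨i, by simp, hik, hij, ((s1 hij _).trans (s2 hik _)).trans (s1 hjk _)⟩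
    · exact absurd rfl hab
  rw [e, show fl a * fl b * fl d * B.Y a b c * (fl a * fl b * fl d)⁻¹ =
    fl a * (fl b * (fl d * B.Y a b c * (fl d)⁻¹) * (fl b)⁻¹) * (fl a)⁻¹ by group,
    B.one_Y_out hcom hab hda hdb (hA d)]
  rw [show ∀ x y : H, fl a * (x * y * x⁻¹) * (fl a)⁻¹ = (fl a * x) * y * (fl a * x)⁻¹ from fun x y => by group,
    Y, dif_pos hab]
  simp only [fl, one]
  rw [B.small_mono {a} {a, b} (by simp) Finset.card_le_two (by simp) _ (hA a),
    B.small_mono {b} {a, b} (by simp) Finset.card_le_two (by simp) _ (hA b), ← map_mul, ← map_inv, ← map_mul,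
    ← map_mul, ← B.Y_mem (s := {a, b}) Finset.card_le_two hab.symm (by simp) (by simp)]
  congr 1
  exact Subtype.ext (flip_T hab (hA a) (hA1 a) (hA b) (hA2 b) c)

theorem steinberg_rels (hcom : B.Comm) {p2 : Fin m} (h01 : B.p0 ≠ B.p1) (h02 : B.p0 ≠ p2) (h12 : B.p1 ≠ p2)
    (hbr : ⁅B.Y B.p0 B.p1 1, B.Y B.p1 p2 1⁆ = B.Y B.p0 p2 1) (hrow : Commute (B.Y B.p0 B.p1 1) (B.Y B.p0 p2 1))
    (htri : ∀ i j k : Fin m, i ≠ j → i ≠ k → j ≠ k → ∃ g : alternatingGroup (Fin m),
      g.1 B.p0 = i ∧ g.1 B.p1 = j ∧ g.1 p2 = k ∨ g.1 B.p0 = k ∧ g.1 B.p1 = j ∧ g.1 p2 = i)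
    (hfork : ∀ i j k : Fin m, i ≠ j → i ≠ k → j ≠ k → ∃ g : alternatingGroup (Fin m),
      g.1 B.p0 = i ∧ (g.1 B.p1 = j ∧ g.1 p2 = k ∨ g.1 B.p1 = k ∧ g.1 p2 = j)) :
    SteinbergSL.Outer.Rels B.Y fun i j => i ≠ j := by
  have trow : ∀ i j k, i ≠ j → i ≠ k → j ≠ k → ∀ a b, Commute (B.Y i j a) (B.Y i k b) := by
    intro i j k hij hik hjk a b
    obtain ⟨g, rfl, h⟩ := hfork i j k hij hik hjk
    rcases h with ⟨rfl, rfl⟩ | ⟨rfl, rfl⟩
    · rw [← B.Y_conj g h01, ← B.Y_conj g h02]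
      exact (B.row_base hcom h01 h02 h12 hrow a b).map (MulAut.conj (B.α g)).toMonoidHom
    · rw [← B.Y_conj g h01, ← B.Y_conj g h02]
      exact (B.row_base hcom h01 h02 h12 hrow b a).symm.map (MulAut.conj (B.α g)).toMonoidHom
  have tcol : ∀ i j k, i ≠ j → i ≠ k → j ≠ k → ∀ a b, Commute (B.Y j i a) (B.Y k i b) := by
    intro i j k hij hik hjk a b
    obtain ⟨W, hW⟩ := B.exists_turn hcom hij hik hjk
    have e := (trow i j k hij hik hjk (-a) (-b)).map (MulAut.conj W).toMonoidHom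
    simp only [MulEquiv.coe_toMonoidHom, MulAut.conj_apply] at e
    rwa [hW i j hij (by simp) (by simp), hW i k hik (by simp) (by simp), neg_neg, neg_neg] at e
  have tbr : ∀ i j k, i ≠ j → i ≠ k → j ≠ k → ∀ a b, ⁅B.Y i j a, B.Y j k b⁆ = B.Y i k (a * b) := by
    intro i j k hij hik hjk a b
    have conjg : ∀ g : alternatingGroup (Fin m), ∀ a b, ⁅B.Y (g.1 B.p0) (g.1 B.p1) a, B.Y (g.1 B.p1) (g.1 p2) b⁆ =
        B.Y (g.1 B.p0) (g.1 p2) (a * b) := fun g a b => by
      rw [← B.Y_conj g h01, ← B.Y_conj g h12, ← B.Y_conj g h02, ← B.bracket_base hcom h01 h02 h12 hbr a b]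
      exact (map_commutatorElement (MulAut.conj (B.α g)) _ _).symm
    obtain ⟨g, h | h⟩ := htri i j k hij hik hjk
    · obtain ⟨rfl, rfl, rfl⟩ := h
      exact conjg g a b
    · obtain ⟨rfl, rfl, rfl⟩ := h
      obtain ⟨W, hW⟩ := B.exists_turn hcom (g.1.injective.ne h01) (g.1.injective.ne h02) (g.1.injective.ne h12)
      have e := congrArg (MulAut.conj W) (conjg g (-b) (-a))
      rw [map_commutatorElement] at e
      simp only [MulAut.conj_apply] at e
      rw [hW _ _ (g.1.injective.ne h01) (by simp) (by simp), hW _ _ (g.1.injective.ne h12) (by simp) (by simp),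
        hW _ _ (g.1.injective.ne h02) (by simp) (by simp), neg_neg, neg_neg] at e
      rw [← commutatorElement_inv, e, neg_mul_neg]
      refine inv_eq_of_mul_eq_one_right ?_
      rw [← B.Y_add hik, mul_comm b a, neg_add_cancel, B.Y_zero hik]
  refine ⟨fun i j hij a b => B.Y_add hij a b, fun i j k l hij hkl hil hjk a b => ?_,
    fun i j k hij hjk hik a b => tbr i j k hij hik hjk a b⟩
  by_cases hik : i = k
  · subst hik
    by_cases hjl : j = l
    · subst hjl
      show _ = _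
      rw [← B.Y_add hij, ← B.Y_add hij, add_comm]
    · exact trow i j l hij hkl hjl a b
  · by_cases hjl : j = l
    · subst hjl
      exact tcol j i k hij.symm hkl.symm hik a b
    · rw [Y, dif_pos hij, Y, dif_pos hkl]
      exact hcom _ _ _ _ (by simp [hil, hjk, Ne.symm hik, Ne.symm hjl, Ne.symm hil, Ne.symm hjk, hik, hjl]) _ _

/-- The extension to the whole symplectic group. -/
theorem exists_hom [Finite F] (hm : 3 ≤ m) (hcom : B.Comm) {p2 : Fin m} (h01 : B.p0 ≠ B.p1) (h02 : B.p0 ≠ p2)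
    (h12 : B.p1 ≠ p2) (hbr : ⁅B.Y B.p0 B.p1 1, B.Y B.p1 p2 1⁆ = B.Y B.p0 p2 1)
    (hrow : Commute (B.Y B.p0 B.p1 1) (B.Y B.p0 p2 1))
    (htri : ∀ i j k : Fin m, i ≠ j → i ≠ k → j ≠ k → ∃ g : alternatingGroup (Fin m),
      g.1 B.p0 = i ∧ g.1 B.p1 = j ∧ g.1 p2 = k ∨ g.1 B.p0 = k ∧ g.1 B.p1 = j ∧ g.1 p2 = i)
    (hfork : ∀ i j k : Fin m, i ≠ j → i ≠ k → j ≠ k → ∃ g : alternatingGroup (Fin m),
      g.1 B.p0 = i ∧ (g.1 B.p1 = j ∧ g.1 p2 = k ∨ g.1 B.p1 = k ∧ g.1 p2 = j)) :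
    ∃ φ : Sp →* H, (∀ x : ↥(fx (F := F) ({B.p0, B.p1} : Finset (Fin m))), φ x = B.β x) ∧
      (∀ i j, i ≠ j → ∀ c, φ (gl (T i j c)) = B.Y i j c) ∧
      ∀ (g : alternatingGroup (Fin m)) (x : Sp), φ (pA g * x * (pA g)⁻¹) = B.α g * φ x * (B.α g)⁻¹ := by
  classical
  obtain ⟨lam, hlam⟩ := SteinbergSL.Outer.exists_hom (by simpa using hm) (B.steinberg_rels hcom h01 h02 h12 hbr hrow htri hfork)
  let D : Data F m H := ⟨lam, fun s hs => B.small s hs, fun s t hs ht h g hg => B.small_mono s t hs ht h g hg,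
    hcom, fun s hs i j hij hi hj c => by rw [B.Y_mem hs hij hi hj, hlam i j hij c]⟩
  obtain ⟨φ, hφl, hφs⟩ := D.exists_hom
  have hT : ∀ i j, i ≠ j → ∀ c, φ (gl (T i j c)) = B.Y i j c := fun i j h c => by rw [hφl]; exact hlam i j h c
  have gens : ∀ S : Subgroup Sp, (∀ k, ∀ x ∈ fx (F := F) {k}, x ∈ S) →
      (∀ i j, i ≠ j → ∀ c, gl (T i j c) ∈ S) → ∀ A, A ∈ S := by
    intro S hk hT A
    obtain ⟨x, hx, rfl⟩ := Data.onto (D := D) Finset.univ A (Data.mem_univ_fx A)
    refine (Subgroup.closure_le (K := S.comap (MonoidHom.fst Sp H))).2 ?_ hx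
    rintro y (⟨k, -, g, rfl⟩ | ⟨a, -, b, -, hab, c, rfl⟩)
    exacts [hk k g.1 g.2, hT a b hab c]
  have heq : ∀ g x, φ (pA g * x * (pA g)⁻¹) = B.α g * φ x * (B.α g)⁻¹ := by
    intro g
    let ψ1 : Sp →* H := φ.comp (MulAut.conj (pA g)).toMonoidHom
    let ψ2 : Sp →* H := (MulAut.conj (B.α g)).toMonoidHom.comp φ
    intro x
    suffices h : x ∈ MonoidHom.eqLocus ψ1 ψ2 from h
    refine gens _ (fun k x hx => ?_) (fun i j hij c => ?_) x
    · show φ (pA g * x * (pA g)⁻¹) = B.α g * φ x * (B.α g)⁻¹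
      have hc : ∀ a ∈ ({k} : Finset (Fin m)), g.1 a ∈ ({g.1 k} : Finset (Fin m)) := by simp
      have e1 : φ (pA g * x * (pA g)⁻¹) = B.small {g.1 k} (by simp) ⟨_, pA_mem g hc hx⟩ :=
        hφs (g.1 k) ⟨_, pA_mem g hc hx⟩
      rw [e1, B.small_conj g (s := {k}) (by simp) (by simp) hc x hx]
      exact congrArg (fun t => B.α g * t * (B.α g)⁻¹) (hφs k ⟨x, hx⟩).symm
    · show φ (pA g * gl (T i j c) * (pA g)⁻¹) = B.α g * φ (gl (T i j c)) * (B.α g)⁻¹
      rw [show pA g * gl (T i j c) * (pA g)⁻¹ = (gl (T (g.1 i) (g.1 j) c) : Sp) from pm_gl_T g hij c, hT _ _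
        (g.1.injective.ne hij), hT i j hij, B.Y_conj g hij]
  refine ⟨φ, ?_, hT, heq⟩
  intro x
  let e : Fin 2 ↪ Fin m := ⟨![B.p0, B.p1], by
    intro a b h; fin_cases a <;> fin_cases b <;> simp [h01, h01.symm] at h ⊢⟩
  have he : Finset.univ.map e = ({B.p0, B.p1} : Finset (Fin m)) := by
    ext a; simp [Fin.exists_fin_two, eq_comm]; rfl
  let q : symplecticGroup (Fin 2) F →* ↥(fx (F := F) ({B.p0, B.p1} : Finset (Fin m))) :=
    (MulEquiv.subgroupCongr (by rw [he])).toMonoidHom.comp (embEquiv e).toMonoidHom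
  have hq : Function.Surjective q := (MulEquiv.subgroupCongr (congrArg (fx (F := F)) he)).surjective.comp (embEquiv e).surjective
  have hqv : ∀ y, (q y).1 = emb e y := fun y => rfl
  obtain ⟨y, rfl⟩ := hq x
  suffices h : y ∈ MonoidHom.eqLocus ((φ.comp (fx ({B.p0, B.p1} : Finset (Fin m))).subtype).comp q) (B.β.comp q) from h
  have hP : ({B.p0, B.p1} : Finset (Fin m)).card ≤ 2 := Finset.card_le_two
  have hle : (Four.eps (F := F)).range ⊔ (gl : SpecialLinearGroup (Fin 2) F →* symplecticGroup (Fin 2) F).range ≤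
      MonoidHom.eqLocus ((φ.comp (fx ({B.p0, B.p1} : Finset (Fin m))).subtype).comp q) (B.β.comp q) := by
    rw [sup_le_iff]
    constructor
    · rintro _ ⟨a, rfl⟩
      have h0 : Four.eps a ∈ fx (F := F) ({0} : Finset (Fin 2)) := by
        refine mem_fx_of_fix fun j hj => ?_
        obtain rfl : j = 1 := by
          fin_cases j
          · exact absurd (Finset.mem_singleton_self _) hj
          · rfl
        rw [Four.coe_eps]
        constructor <;> ext (l | l) <;> fin_cases l <;> simp [Four.epsMat, Matrix.fromBlocks, be, bh]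
      have h1 : emb e (Four.eps a) ∈ fx (F := F) ({B.p0} : Finset (Fin m)) := by
        have := Subgroup.mem_map_of_mem (emb e) h0
        rw [map_fx, Finset.map_singleton] at this
        exact this
      show φ (emb e (Four.eps a)) = B.β (q (Four.eps a))
      have e1 : φ (emb e (Four.eps a)) = B.small {B.p0} (by simp) ⟨_, h1⟩ := hφs B.p0 ⟨_, h1⟩
      rw [e1, B.small_mono {B.p0} ({B.p0, B.p1} : Finset (Fin m)) (by simp) hP (by simp) _ h1, B.small_P hP]
      rfl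
    · rintro _ ⟨a, rfl⟩
      suffices ha : a ∈ (MonoidHom.eqLocus ((φ.comp (fx ({B.p0, B.p1} : Finset (Fin m))).subtype).comp q) (B.β.comp q)).comap gl from ha
      rw [Classical.Linear.eq_top_of_transvection_mem
        ((MonoidHom.eqLocus ((φ.comp (fx ({B.p0, B.p1} : Finset (Fin m))).subtype).comp q) (B.β.comp q)).comap gl) fun i j hij c => ?_]
      · exact Subgroup.mem_top a
      · rw [← T_eq hij]
        show φ (emb e (gl (T i j c))) = B.β (q (gl (T i j c)))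
        have hij' : e i ≠ e j := e.injective.ne hij
        have hmem : ∀ l, e l ∈ ({B.p0, B.p1} : Finset (Fin m)) := fun l => he ▸ Finset.mem_map_of_mem e (Finset.mem_univ l)
        rw [emb_gl_T e hij, hT _ _ hij', ← B.Y_mem hP hij' (hmem i) (hmem j), B.small_P hP]
        exact congrArg B.β (Subtype.ext (emb_gl_T e hij c).symm)
  exact hle (by haveI := Fintype.ofFinite F; rw [Four.gen_top]; exact Subgroup.mem_top y)

/-- The permutations are recovered. -/
theorem perm_eq (φ : Sp →* H) (heq : ∀ (g : alternatingGroup (Fin m)) (x : Sp),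
    φ (pA g * x * (pA g)⁻¹) = B.α g * φ x * (B.α g)⁻¹) {C : Set (alternatingGroup (Fin m))}
    (hC : Subgroup.normalClosure C = ⊤) (hker : ∀ c ∈ C, φ (pA c) = B.α c) (g : alternatingGroup (Fin m)) :
    φ (pA g) = B.α g := by
  have hcen : ∀ g x, Commute ((φ (pA g))⁻¹ * B.α g) (φ x) := fun g x => by
    show _ = _
    calc (φ (pA g))⁻¹ * B.α g * φ x = (φ (pA g))⁻¹ * (B.α g * φ x * (B.α g)⁻¹) * B.α g := by group
      _ = (φ (pA g))⁻¹ * φ (pA g * x * (pA g)⁻¹) * B.α g := by rw [heq]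
      _ = _ := by rw [map_mul, map_mul, map_inv]; group
  let S : Subgroup (alternatingGroup (Fin m)) :=
    { carrier := {g | φ (pA g) = B.α g}
      one_mem' := by simp
      mul_mem' := fun {a b} ha hb => by
        show _ = _
        rw [map_mul, map_mul, map_mul, ha, hb]
      inv_mem' := fun {a} ha => by
        show _ = _
        rw [map_inv, map_inv, map_inv, ha] }
  have : S.Normal := ⟨fun c hc g => by
    show _ = _
    rw [show pA (F := F) (g * c * g⁻¹) = pA g * pA c * (pA g)⁻¹ by simp, heq, (show φ (pA c) = B.α c from hc)]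
    simp⟩
  have h := Subgroup.normalClosure_le_normal (N := S) fun c hc => hker c hc
  rw [hC] at h
  exact h (Subgroup.mem_top g)

end Base

end Cfsg.Agent.ShortPres.Symp
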