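import Cfsg.Agent.S2426
import Cfsg.Agent.Lib.Classical.GL2
import Mathlib

/-!
Words for the additive group of a finite field generated from one element and one semisimple element, and the
short relations which give a homomorphism from `SL₂`.
-/

set_option autoImplicit false

namespace Cfsg.Agent.ShortPres

open Cfsg.Agent.Classical.GL2
open scoped MatrixGroups

variable {p d : ℕ} [Fact p.Prime] {F : Type*} [Field F] [Algebra (ZMod p) F]

/-- The product of powers of `v` with the coordinates as exponents. -/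
noncomputable def word {G : Type*} [Monoid G] (B : Module.Basis (Fin d) (ZMod p) F) (v : Fin d → G) (c : F) : G :=
  ((List.finRange d).map fun i => v i ^ (B.repr c i).val).prod

theorem map_word {G H : Type*} [Monoid G] [Monoid H] (f : G →* H) (B : Module.Basis (Fin d) (ZMod p) F)
    (v : Fin d → G) (c : F) : f (word B v c) = word B (fun i => f (v i)) c := by
  simp [word, map_list_prod, List.map_map, Function.comp_def, map_pow]

/-- A homomorphism from the additive group is given by its word. -/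
theorem hom_eq_word {G : Type*} [Group G] (B : Module.Basis (Fin d) (ZMod p) F)
    (φ : Multiplicative F →* G) (c : F) :
    φ (Multiplicative.ofAdd c) = word B (fun i => φ (Multiplicative.ofAdd (B i))) c := by
  rw [← map_word φ B (fun i => Multiplicative.ofAdd (B i)) c]
  congr 1
  rw [word, ← Fin.prod_univ_def]
  apply Multiplicative.toAdd.injective
  simp only [toAdd_ofAdd, toAdd_prod, toAdd_pow]
  nth_rw 1 [← B.sum_repr c]
  refine Finset.sum_congr rfl fun i _ => ?_
  rw [← Nat.cast_smul_eq_nsmul (ZMod p), ZMod.natCast_zmod_val]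

theorem word_zero {G : Type*} [Monoid G] (B : Module.Basis (Fin d) (ZMod p) F) (v : Fin d → G) :
    word B v 0 = 1 := by
  simp [word]

theorem word_single {G : Type*} [Monoid G] (B : Module.Basis (Fin d) (ZMod p) F) (v : Fin d → G) (j : Fin d) :
    word B v (B j) = v j := by
  classical
  rw [word, B.repr_self]
  have h : ∀ l : List (Fin d), l.Nodup →
      (l.map fun i => v i ^ ((Finsupp.single j (1 : ZMod p)) i).val).prod = if j ∈ l then v j else 1 := by
    intro l hl
    induction l with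
    | nil => simp
    | cons a l ih =>
      obtain ⟨ha, hl'⟩ := List.nodup_cons.1 hl
      rw [List.map_cons, List.prod_cons, ih hl']
      rcases eq_or_ne a j with rfl | hne
      · simp [ha, ZMod.val_one]
      · simp [hne, Ne.symm hne]
  simpa using h _ (List.nodup_finRange d)

theorem word_add {G : Type*} [Group G] (B : Module.Basis (Fin d) (ZMod p) F) {v : Fin d → G}
    (hc : ∀ i j, Commute (v i) (v j)) (hp : ∀ i, v i ^ p = 1) (a b : F) :
    word B v (a + b) = word B v a * word B v b := by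
  rw [word, word, word, map_add]
  have h : ∀ l : List (Fin d), (l.map fun i => v i ^ ((B.repr a + B.repr b) i).val).prod =
      (l.map fun i => v i ^ (B.repr a i).val).prod * (l.map fun i => v i ^ (B.repr b i).val).prod := by
    intro l
    induction l with
    | nil => simp
    | cons x l ih =>
      have e : v x ^ ((B.repr a + B.repr b) x).val = v x ^ (B.repr a x).val * v x ^ (B.repr b x).val := by
        rw [Finsupp.add_apply, ZMod.val_add, ← pow_eq_pow_mod _ (hp x), pow_add]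
      have hcom : Commute (v x ^ (B.repr b x).val) ((l.map fun i => v i ^ (B.repr a i).val).prod) :=
        Commute.list_prod_right _ _ fun y hy => by
          obtain ⟨i, -, rfl⟩ := List.mem_map.1 hy
          exact (hc x i).pow_pow _ _
      simp only [List.map_cons, List.prod_cons, e, ih]
      rw [mul_assoc, ← mul_assoc _ (List.prod _) (List.prod _), hcom.eq]
      simp only [mul_assoc]
  exact h _

/-- The commutation trick: one relation carries commutation along all powers. -/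
theorem commute_orbit {G : Type*} [Group G] {u a b : G} (hab : Commute a b)
    (h1 : Commute u (a * u * a⁻¹)) (h3 : b * u * b⁻¹ = u * (a * u * a⁻¹)) (n : ℕ) :
    Commute u (a ^ n * u * (a ^ n)⁻¹) := by
  induction n using Nat.strong_induction_on with
  | _ n ih =>
    rcases n with _ | _ | m
    · simp
    · simpa using h1
    have hA : ∀ i j, i ≤ j → j - i < m + 2 → Commute (a ^ i * u * (a ^ i)⁻¹) (a ^ j * u * (a ^ j)⁻¹) := by
      intro i j hij hlt
      have h := (ih (j - i) hlt).map (MulAut.conj (a ^ i)).toMonoidHom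
      simp only [MulEquiv.coe_toMonoidHom, MulAut.conj_apply] at h
      rwa [show a ^ i * (a ^ (j - i) * u * (a ^ (j - i))⁻¹) * (a ^ i)⁻¹ = a ^ j * u * (a ^ j)⁻¹ by
        rw [← Nat.add_sub_cancel' hij, pow_add, Nat.add_sub_cancel_left]; group] at h
    set A1 := a ^ 1 * u * (a ^ 1)⁻¹ with hA1
    set An := a ^ (m + 1) * u * (a ^ (m + 1))⁻¹ with hAn
    set An1 := a ^ (m + 2) * u * (a ^ (m + 2))⁻¹ with hAn1
    have hb : Commute (u * A1) (An * An1) := by
      have h := (ih (m + 1) (by omega)).map (MulAut.conj b).toMonoidHom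
      simp only [MulEquiv.coe_toMonoidHom, MulAut.conj_apply] at h
      have e : b * (a ^ (m + 1) * u * (a ^ (m + 1))⁻¹) * b⁻¹ =
          a ^ (m + 1) * (b * u * b⁻¹) * (a ^ (m + 1))⁻¹ := by
        have hc := (hab.pow_left (m + 1)).eq
        have hc' : (a ^ (m + 1))⁻¹ * b⁻¹ = b⁻¹ * (a ^ (m + 1))⁻¹ := (hab.pow_left (m + 1)).inv_inv.eq
        calc b * (a ^ (m + 1) * u * (a ^ (m + 1))⁻¹) * b⁻¹
            = (b * a ^ (m + 1)) * u * ((a ^ (m + 1))⁻¹ * b⁻¹) := by group
          _ = (a ^ (m + 1) * b) * u * (b⁻¹ * (a ^ (m + 1))⁻¹) := by rw [hc, hc']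
          _ = _ := by group
      rw [e, h3] at h
      rw [hA1, hAn, hAn1, pow_one]
      convert h using 1
      rw [pow_succ a (m + 1)]
      group
    have h0n : Commute u An := by simpa using hA 0 (m + 1) (Nat.zero_le _) (by omega)
    have h1n : Commute A1 An := hA 1 (m + 1) (by omega) (by omega)
    have h1n1 : Commute A1 An1 := hA 1 (m + 2) (by omega) (by omega)
    have h' : Commute (u * A1) An1 := by
      have := ((h0n.mul_left h1n).inv_right).mul_right hb
      rwa [inv_mul_cancel_left] at this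
    have := h'.mul_left h1n1.inv_left
    rwa [mul_inv_cancel_right] at this

variable (B : Module.Basis (Fin d) (ZMod p) F) (k : ℕ) (ζ e : F)

/-- The orbit of `u`. -/
def orb {G : Type*} [Group G] (u h : G) (i : Fin d) : G := (h ^ k) ^ (i : ℕ) * u * ((h ^ k) ^ (i : ℕ))⁻¹

theorem map_orb {G H : Type*} [Group G] [Group H] (f : G →* H) (u h : G) :
    (fun i => f (orb (d := d) k u h i)) = orb k (f u) (f h) := by
  funext i
  simp [orb]

/-- The element of the additive group. -/
noncomputable def elt {G : Type*} [Group G] (u h : G) (c : F) : G := word B (orb k u h) c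

theorem map_elt {G H : Type*} [Group G] [Group H] (f : G →* H) (u h : G) (c : F) :
    f (elt B k u h c) = elt B k (f u) (f h) c := by
  rw [elt, map_word, map_orb, elt]

/-- The relations. -/
structure Hyp {G : Type*} [Group G] (u h t : G) : Prop where
  pow : u ^ p = 1
  comm : ∀ i < d, Commute u ((h ^ k) ^ i * u * ((h ^ k) ^ i)⁻¹)
  min : (h ^ k) ^ d * u * ((h ^ k) ^ d)⁻¹ = elt B k u h (e ^ d)
  hu : h * u * h⁻¹ = elt B k u h (ζ ^ 2)
  th : t * h * t⁻¹ = h⁻¹
  tt : Commute (t * t) u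
  ht : h * t = elt B k u h ζ * (t * elt B k u h ζ⁻¹ * t⁻¹) * elt B k u h ζ
  tu : t = u * (t * u * t⁻¹) * u

variable {B k ζ e} {G : Type*} [Group G] {u h t : G}

theorem orb_commute (hc : ∀ i < d, Commute u ((h ^ k) ^ i * u * ((h ^ k) ^ i)⁻¹)) :
    ∀ i j : Fin d, Commute (orb k u h i) (orb k u h j) := by
  have key : ∀ i j : Fin d, i ≤ j → Commute (orb k u h i) (orb k u h j) := by
    intro i j hij
    have hij' : (i : ℕ) ≤ j := hij
    have hh := (hc ((j : ℕ) - i) (by omega)).map (MulAut.conj ((h ^ k) ^ (i : ℕ))).toMonoidHom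
    simp only [MulEquiv.coe_toMonoidHom, MulAut.conj_apply] at hh
    rwa [show (h ^ k) ^ (i : ℕ) * ((h ^ k) ^ ((j : ℕ) - i) * u * ((h ^ k) ^ ((j : ℕ) - i))⁻¹) *
        ((h ^ k) ^ (i : ℕ))⁻¹ = (h ^ k) ^ (j : ℕ) * u * ((h ^ k) ^ (j : ℕ))⁻¹ by
      conv_rhs => rw [← Nat.add_sub_cancel' hij', pow_add]
      group] at hh
  intro i j
  rcases le_total i j with h' | h'
  · exact key i j h'
  · exact (key j i h').symm

theorem orb_pow (hp : u ^ p = 1) (i : Fin d) : orb k u h i ^ p = 1 := by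
  rw [orb, conj_pow, hp, mul_one, mul_inv_cancel]

theorem elt_add (hp : u ^ p = 1) (hc : ∀ i < d, Commute u ((h ^ k) ^ i * u * ((h ^ k) ^ i)⁻¹)) (a b : F) :
    elt B k u h (a + b) = elt B k u h a * elt B k u h b :=
  word_add B (orb_commute hc) (orb_pow hp) a b

theorem elt_one (hd : 0 < d) (hB : ∀ i : Fin d, B i = e ^ (i : ℕ)) : elt B k u h 1 = u := by
  have h0 := hB ⟨0, hd⟩
  rw [pow_zero] at h0
  rw [elt, ← h0, word_single]
  simp [orb]

/-- Agreement of a conjugation on the basis gives agreement everywhere. -/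
theorem conj_elt (hp : u ^ p = 1) (hc : ∀ i < d, Commute u ((h ^ k) ^ i * u * ((h ^ k) ^ i)⁻¹))
    (g : G) (s : F) (hg : ∀ i : Fin d, g * orb k u h i * g⁻¹ = elt B k u h (s * B i)) (c : F) :
    g * elt B k u h c * g⁻¹ = elt B k u h (s * c) := by
  let φ : Multiplicative F →* G := MonoidHom.mk' (fun x => elt B k u h (s * x.toAdd))
    fun a b => by simp only [toAdd_mul, mul_add, elt_add hp hc]
  have h2 := hom_eq_word B φ c
  simp only [φ, MonoidHom.mk'_apply, toAdd_ofAdd, ← hg] at h2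
  rw [h2]
  exact map_word (MulAut.conj g).toMonoidHom B (orb k u h) c

/-- The relations give a homomorphism from `SL₂`. -/
theorem exists_hom [Finite F] {z : Fˣ} (hz : ∀ x : Fˣ, x ∈ Subgroup.zpowers z) (hzeta : ζ = (z : F))
    (hd : 0 < d) (hB : ∀ i : Fin d, B i = e ^ (i : ℕ)) (H : Hyp B k ζ e u h t) :
    ∃ ψ : SL(2, F) →* G, (∀ c, ψ (uniSL c) = elt B k u h c) ∧
      ∀ c, ψ (lowSL c) = t * elt B k u h (-c) * t⁻¹ := by
  have hp := H.pow
  have hc := H.comm
  have h1 : elt B k u h (1 : F) = u := elt_one hd hB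
  have ha : ∀ c, h ^ k * elt B k u h c * (h ^ k)⁻¹ = elt B k u h (e * c) := by
    refine conj_elt hp hc _ e fun i => ?_
    rw [orb, show h ^ k * ((h ^ k) ^ (i : ℕ) * u * ((h ^ k) ^ (i : ℕ))⁻¹) * (h ^ k)⁻¹ =
      (h ^ k) ^ ((i : ℕ) + 1) * u * ((h ^ k) ^ ((i : ℕ) + 1))⁻¹ by rw [pow_succ']; group, hB, ← pow_succ']
    by_cases hi : (i : ℕ) + 1 < d
    · rw [← hB ⟨(i : ℕ) + 1, hi⟩, elt, word_single, orb]
    · rw [show (i : ℕ) + 1 = d by omega, H.min]
  have hak : ∀ (n : ℕ) c, (h ^ k) ^ n * elt B k u h c * ((h ^ k) ^ n)⁻¹ = elt B k u h (e ^ n * c) := by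
    intro n
    induction n with
    | zero => intro c; simp
    | succ n ih =>
      intro c
      rw [pow_succ' (h ^ k) n, show h ^ k * (h ^ k) ^ n * elt B k u h c * (h ^ k * (h ^ k) ^ n)⁻¹ =
        h ^ k * ((h ^ k) ^ n * elt B k u h c * ((h ^ k) ^ n)⁻¹) * (h ^ k)⁻¹ by group, ih, ha, pow_succ',
        mul_assoc]
  have hh : ∀ c, h * elt B k u h c * h⁻¹ = elt B k u h (ζ ^ 2 * c) := by
    refine conj_elt hp hc h (ζ ^ 2) fun i => ?_
    have hcm : h * (h ^ k) ^ (i : ℕ) = (h ^ k) ^ (i : ℕ) * h := by rw [← pow_mul, ← pow_succ', ← pow_succ]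
    have hcm' : ((h ^ k) ^ (i : ℕ))⁻¹ * h⁻¹ = h⁻¹ * ((h ^ k) ^ (i : ℕ))⁻¹ := by
      rw [← _root_.mul_inv_rev, ← _root_.mul_inv_rev, hcm]
    calc h * orb k u h i * h⁻¹ = (h * (h ^ k) ^ (i : ℕ)) * u * (((h ^ k) ^ (i : ℕ))⁻¹ * h⁻¹) := by
          rw [orb]; group
      _ = (h ^ k) ^ (i : ℕ) * (h * u * h⁻¹) * ((h ^ k) ^ (i : ℕ))⁻¹ := by rw [hcm, hcm']; group
      _ = _ := by rw [H.hu, hak, hB, mul_comm]
  have hhn : ∀ (n : ℕ) c, h ^ n * elt B k u h c * (h ^ n)⁻¹ = elt B k u h (ζ ^ (2 * n) * c) := by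
    intro n
    induction n with
    | zero => intro c; simp
    | succ n ih =>
      intro c
      rw [pow_succ' h n, show h * h ^ n * elt B k u h c * (h * h ^ n)⁻¹ =
        h * (h ^ n * elt B k u h c * (h ^ n)⁻¹) * h⁻¹ by group, ih, hh, ← mul_assoc, ← pow_add]
      ring_nf
  have hth : ∀ n : ℕ, t * h ^ n = (h ^ n)⁻¹ * t := fun n => by
    rw [← mul_inv_eq_iff_eq_mul, ← conj_pow, H.th, inv_pow]
  have hth' : ∀ n : ℕ, t * (h ^ n)⁻¹ = h ^ n * t := fun n => by
    rw [mul_inv_eq_iff_eq_mul, mul_assoc, hth, mul_inv_cancel_left]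
  have htt : ∀ c, t * t * elt B k u h c * (t * t)⁻¹ = elt B k u h c := by
    intro c
    have := conj_elt (B := B) hp hc (t * t) 1 (fun i => by
      have e1 : t * t * (h ^ k) ^ (i : ℕ) = (h ^ k) ^ (i : ℕ) * (t * t) := by
        rw [← pow_mul, mul_assoc, hth, ← mul_assoc, hth', mul_assoc]
      have e2 : ((h ^ k) ^ (i : ℕ))⁻¹ * (t * t)⁻¹ = (t * t)⁻¹ * ((h ^ k) ^ (i : ℕ))⁻¹ := by
        rw [← _root_.mul_inv_rev, ← _root_.mul_inv_rev, e1]
      rw [one_mul, elt, word_single, orb]
      calc t * t * ((h ^ k) ^ (i : ℕ) * u * ((h ^ k) ^ (i : ℕ))⁻¹) * (t * t)⁻¹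
          = (t * t * (h ^ k) ^ (i : ℕ)) * u * (((h ^ k) ^ (i : ℕ))⁻¹ * (t * t)⁻¹) := by group
        _ = (h ^ k) ^ (i : ℕ) * (t * t * u * (t * t)⁻¹) * ((h ^ k) ^ (i : ℕ))⁻¹ := by rw [e1, e2]; group
        _ = _ := by rw [H.tt.eq, mul_inv_cancel_right]) c
    rwa [one_mul] at this
  let X : Bool → F → G := fun b c => cond b (elt B k u h c) (t * elt B k u h (-c) * t⁻¹)
  have hlow : ∀ c, t * X false c * t⁻¹ = X true (-c) := fun c => by
    simp only [X, cond_false, cond_true]
    rw [show t * (t * elt B k u h (-c) * t⁻¹) * t⁻¹ = t * t * elt B k u h (-c) * (t * t)⁻¹ by group, htt]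
  have hnconj : ∀ (n : ℕ) c, h ^ n * X false c * (h ^ n)⁻¹ = X false (c * (ζ ^ (2 * n))⁻¹) := by
    intro n c
    have hζ : ζ ≠ 0 := hzeta ▸ z.ne_zero
    have e1 : h ^ n * X false c * (h ^ n)⁻¹ =
        t * ((h ^ n)⁻¹ * elt B k u h (-c) * h ^ n) * t⁻¹ := by
      simp only [X, cond_false]
      rw [show t * ((h ^ n)⁻¹ * elt B k u h (-c) * h ^ n) * t⁻¹ =
        (t * (h ^ n)⁻¹) * elt B k u h (-c) * (t * (h ^ n)⁻¹)⁻¹ by group, hth']
      group
    have e2 := hhn n (-(c * (ζ ^ (2 * n))⁻¹))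
    rw [show ζ ^ (2 * n) * -(c * (ζ ^ (2 * n))⁻¹) = -c by field_simp] at e2
    rw [e1, ← e2]
    simp only [X, cond_false]
    group
  have hw0 : SteinbergSL.Two.w X true (1 : F) = t := by
    simp only [SteinbergSL.Two.w, X, Bool.not_true, cond_true, cond_false, inv_one, neg_neg, h1]
    exact H.tu.symm
  have hw1 : SteinbergSL.Two.w X true ζ = h * t := by
    simp only [SteinbergSL.Two.w, X, Bool.not_true, cond_true, cond_false, neg_neg]
    exact H.ht.symm
  have hwconj : ∀ (n : ℕ) (s : F), s ≠ 0 →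
      h ^ n * SteinbergSL.Two.w X true s * (h ^ n)⁻¹ = SteinbergSL.Two.w X true (ζ ^ (2 * n) * s) := by
    intro n s hs
    have hζ : ζ ≠ 0 := hzeta ▸ z.ne_zero
    simp only [SteinbergSL.Two.w, Bool.not_true]
    rw [show h ^ n * (X true s * X false (-s⁻¹) * X true s) * (h ^ n)⁻¹ =
      (h ^ n * X true s * (h ^ n)⁻¹) * (h ^ n * X false (-s⁻¹) * (h ^ n)⁻¹) * (h ^ n * X true s * (h ^ n)⁻¹) by
        group, hnconj]
    simp only [X, cond_true, hhn]
    rw [show -s⁻¹ * (ζ ^ (2 * n))⁻¹ = -(ζ ^ (2 * n) * s)⁻¹ by rw [mul_inv, mul_comm, mul_neg]]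
  have hwpow : ∀ j : ℕ, SteinbergSL.Two.w X true (ζ ^ j) = h ^ j * t := by
    intro j
    obtain ⟨n, rfl | rfl⟩ := Nat.even_or_odd' j
    · rw [← mul_one (ζ ^ (2 * n)), ← hwconj n 1 one_ne_zero, hw0, mul_assoc, hth', two_mul, pow_add,
        mul_assoc]
    · rw [pow_succ ζ, ← hwconj n ζ (hzeta ▸ z.ne_zero), hw1, mul_assoc, mul_assoc, hth',
        pow_succ h (2 * n), two_mul n, pow_add, ← mul_assoc h, ← pow_succ', pow_succ]
      simp only [mul_assoc]
  have htrue : ∀ s c, s ≠ 0 →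
      SteinbergSL.Two.w X true s * X true c * (SteinbergSL.Two.w X true s)⁻¹ = X false (-(s⁻¹ ^ 2 * c)) := by
    intro s c hs
    obtain ⟨j, hj⟩ := mem_powers_iff_mem_zpowers.2 (hz (Units.mk0 s hs))
    have hs' : ζ ^ j = s := by rw [hzeta, ← Units.val_pow_eq_pow_val]; exact congrArg Units.val hj
    rw [← hs', hwpow]
    have e1 : t * X true c * t⁻¹ = X false (-c) := by simp [X]
    rw [show h ^ j * t * X true c * (h ^ j * t)⁻¹ = h ^ j * (t * X true c * t⁻¹) * (h ^ j)⁻¹ by group, e1,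
      hnconj]
    congr 1
    rw [neg_mul, mul_comm c, inv_pow, ← pow_mul, mul_comm j]
  have hrels : SteinbergSL.Two.Rels X := by
    refine ⟨fun b a c => ?_, fun b s c hs => ?_⟩
    · cases b
      · simp only [X, cond_false, neg_add, elt_add hp hc]; group
      · simp only [X, cond_true, elt_add hp hc]
    · cases b
      · have e1 : SteinbergSL.Two.w X false s = t * SteinbergSL.Two.w X true (-s) * t⁻¹ := by
          have ht1 : ∀ c, t * X true c * t⁻¹ = X false (-c) := fun c => by simp [X]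
          simp only [SteinbergSL.Two.w, Bool.not_true, Bool.not_false]
          rw [show t * (X true (-s) * X false (-(-s)⁻¹) * X true (-s)) * t⁻¹ =
            (t * X true (-s) * t⁻¹) * (t * X false (-(-s)⁻¹) * t⁻¹) * (t * X true (-s) * t⁻¹) by group,
            ht1, hlow]
          simp
        have e2 : X false c = t * X true (-c) * t⁻¹ := by simp [X]
        rw [e1, e2, show t * SteinbergSL.Two.w X true (-s) * t⁻¹ * (t * X true (-c) * t⁻¹) *
          (t * SteinbergSL.Two.w X true (-s) * t⁻¹)⁻¹ = t * (SteinbergSL.Two.w X true (-s) * X true (-c) *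
            (SteinbergSL.Two.w X true (-s))⁻¹) * t⁻¹ by group, htrue _ _ (neg_ne_zero.2 hs), hlow, Bool.not_false]
        congr 1
        rw [inv_neg, neg_sq, mul_neg, neg_neg]
      · exact htrue s c hs
  obtain ⟨iso, hT, hL⟩ := S2426.result (K := F)
  have hpres : ∀ g ∈ ({g : FreeGroup (Bool × F) | ∃ (b : Bool) (t u : F), g = FreeGroup.of (b, t) * FreeGroup.of (b, u) * (FreeGroup.of (b, t + u))⁻¹} ∪
          {g | ∃ (b : Bool) (t u : F), t ≠ 0 ∧
            g = (FreeGroup.of (b, t) * FreeGroup.of (!b, -t⁻¹) * FreeGroup.of (b, t)) * FreeGroup.of (b, u) *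
                  (FreeGroup.of (b, t) * FreeGroup.of (!b, -t⁻¹) * FreeGroup.of (b, t))⁻¹ * (FreeGroup.of (!b, -(t⁻¹ ^ 2 * u)))⁻¹}),
      FreeGroup.lift (fun q : Bool × F => X q.1 q.2) g = 1 := by
    rintro g (⟨b, a, c, rfl⟩ | ⟨b, a, c, ha, rfl⟩)
    · simp only [map_mul, map_inv, FreeGroup.lift_apply_of]
      rw [mul_inv_eq_one, hrels.add]
    · simp only [map_mul, map_inv, FreeGroup.lift_apply_of]
      rw [mul_inv_eq_one]
      exact hrels.conj b a c ha
  refine ⟨(PresentedGroup.toGroup hpres).comp iso.symm.toMonoidHom, fun c => ?_, fun c => ?_⟩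
  · have e1 : iso.symm (uniSL c) = PresentedGroup.of (true, c) :=
      iso.symm_apply_eq.2 (Subtype.ext (by rw [hT, coe_uniSL]))
    rw [MonoidHom.comp_apply, MulEquiv.coe_toMonoidHom, e1, PresentedGroup.toGroup.of]
    rfl
  · have e1 : iso.symm (lowSL c) = PresentedGroup.of (false, c) :=
      iso.symm_apply_eq.2 (Subtype.ext (by rw [hL, coe_lowSL]))
    rw [MonoidHom.comp_apply, MulEquiv.coe_toMonoidHom, e1, PresentedGroup.toGroup.of]
    rfl

end Cfsg.Agent.ShortPres
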